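import Cfsg.Agent.X9.ClsE

/-! Completeness of the point sets and of the stabilisers. -/

set_option autoImplicit false

namespace Cfsg.Agent.X9

open Subgroup Cfsg.Agent.TT Cfsg.Agent.LES Cfsg.Agent.XSC Cfsg.Agent.XSC.WC Cfsg.Agent.XW
  Cfsg.Agent.J4 Cfsg.Agent.Comp Cfsg.Agent.U6R Cfsg.Agent.Class.Orth QuadraticMap Module
open Cfsg.Agent.Comp.BN (nth ev ev_cons)
open Cfsg.Agent.X7 (mem_c eqv_one_iff_mem z2)
open Cfsg.Agent.ThT (x8 p8 l12 i8 app_i8 mw cast_inj cast_xor)

variable {V : Type} [AddCommGroup V] [Module (ZMod 2) V] {q : QuadraticForm (ZMod 2) V} {γ : Geo q}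
  {G : Type*} [Group G] [Finite G] {z g y : G} {ψ : ℕ → G} {u b M p v w : ℕ} {f : ℕ → ℕ}
  {gs : List (ℕ × ℕ)} {π : G → V} {r : centralizer ({z} : Set G) →* OG q}
  {W : List ℕ} {sv : List (ℕ × ℕ × ℕ)} {ss : List (ℕ × ℕ × ℕ × T1)} {tg : List (List (ℕ × ℕ))} {d : Dt}

/-- certificates for a further point -/
abbrev PC : Type := ℕ × List ℕ × List (ℕ × ℕ × ℕ × List ℕ)

/-- some frame has one of the lists `tg` of letters -/
def Stg (z : G) (u b : ℕ) (tg : List (List (ℕ × ℕ))) : Prop := ∃ t ∈ tg, ∃ ψ, Fm z ψ u b ∧ Sx z ψ t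

/-- if `app e.1 1` is a point, some frame has one of the lists `tg` of letters -/
noncomputable def ptC (u b : ℕ) (gs : List (ℕ × ℕ)) (sv : List (ℕ × ℕ × ℕ)) (tg : List (List (ℕ × ℕ)))
    (e : PC) : Bool :=
  and' (and' (isoC u b u b e.1 e.1) (nrmC e.1 16434824)) (force (app e.1 1) fun x => allL sv fun s =>
    force (mm e.1 (mm s.1 e.1)) fun a => force (mm e.1 (mm s.2.1 e.1)) fun c =>
      force (mm e.1 (mm s.2.2 e.1)) fun d => (fun gs => or' (anyL e.2.1 fun c => or' (kill gs c) (n4k gs c))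
        (anyL tg fun t => anyL e.2.2 (move u b gs t))) ((x, a) :: (x, c) :: (x, d) :: gs))

/-- the words `ws` map the points to `255` and the other singular vectors to the ones in `es` -/
noncomputable def omC (d : Dt) (sv : List (ℕ × ℕ × ℕ)) (tg : List (List (ℕ × ℕ))) (ws : List ℕ)
    (es : List PC) : Bool :=
  and' (allL es (ptC d.u d.b d.gs sv tg)) (allLT 256 fun p => force (av d.gs (dw (nth 0 ws p)) p) fun x =>
    ite' (tb d.om p) (Nat.beq x 255) (or' (or' (Nat.beq p 0) (Nat.beq (bil d.u p p) 1))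
      (anyL es fun e => Nat.beq x (app e.1 1))))

/-- the group `GL₃(2)` -/
def glPk : List ℕ := [16434824, 14571144, 11789960, 9926280, 14599368, 16405704, 9954504, 11760840, 16362248, 14498568, 7072520,
  5208840, 14526792, 16333128, 5237064, 7043400, 11644808, 9781128, 6999944, 5136264, 9809352, 11615688,
  5164488, 6970824, 16205392, 13882960, 12478032, 10155600, 12534480, 10212048, 16147152, 13824720, 16096528,
  12369168, 6806800, 3079440, 13737808, 10010448, 6770512, 3043152, 12425616, 16038288, 3135888, 6748560,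
  10066896, 13679568, 3099600, 6712272, 14140504, 15946840, 10413144, 12219480, 12305048, 10441368, 15917720,
  14054040, 13967128, 12103448, 4677400, 2813720, 15801688, 10267992, 4705624, 2784600, 10296216, 15772568,
  2870168, 4619160, 12130776, 13937112, 2841048, 4647384, 15673952, 13351520, 8219232, 5896800, 15637664,
  10992800, 8182944, 3538080, 13278944, 10956512, 5824224, 3501792, 8332128, 6009696, 15557472, 13235040,
  8295840, 3650976, 15521184, 10876320, 5937120, 3614688, 13162464, 10840032, 13609064, 15415400, 6154344,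
  7960680, 13508264, 8863400, 7917224, 3272360, 15342824, 8891624, 6081768, 3243240, 8102696, 6239016, 15328040,
  13464360, 6166440, 3385256, 15255464, 8746920, 8001000, 3356136, 13420008, 8775144, 11415152, 9092720,
  7687792, 5365360, 11507888, 15120560, 4053168, 7665840, 9149168, 15084272, 4016880, 5307120, 7836976, 4109616,
  15062320, 11334960, 5478256, 4073328, 15026032, 8976240, 7742448, 5420016, 11355120, 9032688, 9350264,
  11156600, 5622904, 7429240, 9378488, 12991160, 3787448, 7400120, 11213048, 13019384, 3758328, 5564664,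
  5707576, 3843896, 12932920, 11069240, 7542136, 3814776, 12961144, 9233784, 7513016, 5649336, 11125688,
  9262008]

theorem glPk_spec : ∀ a < 8, ∀ b < 8, ∀ c < 8, or' (anyLT 7 fun i => Nat.beq (ph3 a b c (i + 1)) 0)
    (anyL glPk fun φ => allLT 8 fun i => Nat.beq (dig 3 7 φ i) (ph3 a b c i)) = true := by decide +kernel

/-- the stabiliser of `255` -/
noncomputable def naC (d : Dt) (ws : List ℕ) : Bool :=
  and' (and' (tb d.om 1) (Nat.beq (bil d.b 255 1) 1)) (allLT 256 fun x => or' (or' (not' (tb d.om x))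
    (Nat.beq (bil d.b 255 x) 0)) (force (mw (fun k => (lt d.gs k).2) (dw (nth 0 ws x))) fun T =>
      and' (Nat.beq (app T x) 255) (force (mkM fun i => app (tr i) x) fun U => allL glPk fun φ =>
        force (mkM fun i => ite' (Nat.blt i 8) (row U (dig 3 7 φ i)) 0) fun N => force (app T (app N 6)) fun s =>
          or' (anyL d.gs fun p => and' (Nat.beq p.1 1) (force (app T (app N (app p.2 6))) fun t =>
            allLT 8 fun i => not' (Nat.beq (app (tr i) s) t))) (anyL d.na (Nat.beq N)))))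

theorem tr_mul : ∀ i < 8, ∀ j < 8, eq8 (mm (tr i) (tr j)) (tr (i ^^^ j)) = true := by decide +kernel

theorem app_tr {i j : ℕ} (hi : i < 8) (hj : j < 8) (hv : v < 256) :
    app (tr (i ^^^ j)) v = app (tr i) (app (tr j) v) := by
  rw [← app_eq8 (tr_mul i hi j hj) v hv, app_mm _ _ (l12 hv)]

/-- an element fixing `255` is determined by the image of `1` and an automorphism of `tr` -/
theorem Fm.stab (h : Fm z ψ u b) (a : Ac z ψ g M) (e : app M 255 = 255) :
    ∃ φ ∈ glPk, ∀ i < 8, app M (2 ^ i) = app (tr (dig 3 7 φ i)) (app M 1) := by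
  choose! f lf hf using fun i hi => h.mv_tr (M := tr i) a ⟨Nat.lt_succ_self _, h.fa, h.aA i hi⟩ e
  have l := fun i hi => (ph3_xor _ (lf 1 (by decide)) _ (lf 2 (by decide)) _ (lf 4 (by decide)) i hi)
  have k : ∀ i < 2 ^ 3, ∀ v < 256, app (tr (ph3 (f 1) (f 2) (f 4) i)) (app M v) = app M (app (tr i) v) :=
    bits_induction (n := 3) (fun v hv => by
      rw [show ph3 _ _ _ 0 = 0 by simp [ph3], show tr 0 = i8 from rfl, app_i8 v hv, app_i8 _ (a.2 v hv).1])
      fun j hj i hi c v hv => by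
      have lj : 2 ^ j < 8 := Nat.pow_lt_pow_right (a := 2) (n := 3) (by decide) hj
      rw [(l i hi).2 _ lj, app_tr (l i hi).1 (l _ lj).1 (a.2 v hv).1, app_tr hi lj hv,
        ← c _ (tr_lt _ lj v hv), ← hf _ lj v hv]
      interval_cases j <;> simp [ph3]
  have k1 : ∀ i < 8, app M (2 ^ i) = app (tr (ph3 (f 1) (f 2) (f 4) i)) (app M 1) := fun i hi => by
    rw [k i hi 1 (by decide), show app (tr i) 1 = _ from row_tr 0 (by decide) i hi, Nat.xor_zero]
  have := glPk_spec _ (lf 1 (by decide)) _ (lf 2 (by decide)) _ (lf 4 (by decide))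
  simp only [or'_eq_true, anyLT_iff, anyL_iff, allLT_iff, beq_iff] at this
  rcases this with ⟨i, hi, c⟩ | ⟨φ, m, c⟩
  · have := k1 (i + 1) (by omega)
    rw [c, show tr 0 = i8 from rfl, app_i8 _ (a.2 1 (by decide)).1] at this
    exact absurd (h.ac_inj a (p8 (by omega)) (by decide) this) (by omega)
  · exact ⟨φ, m, fun i hi => c i hi ▸ k1 i hi⟩

theorem Fm.na (h : Fm z ψ d.u d.b) (s : Sx z ψ d.gs) (om : ∀ v < 256, FP z (ψ v) ↔ d.om.testBit v = true)
    {ws : List ℕ} (e : naC d ws = true) (hg : g * z = z * g) (f : Eqv z (g * ψ 255 * g⁻¹) (ψ 255)) :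
    ∃ M ∈ d.na, Ac z ψ g M := by
  simp only [naC, and'_eq_true, allLT_iff, or'_eq_true, not'_eq_true, beq_iff, force_eq, allL_iff, anyL_iff,
    tb_eq] at e
  obtain ⟨M, a⟩ := h.exists_ac hg
  have m : app M 255 = 255 := h.inj _ (a.2 255 (by decide)).1 _ (by decide)
    (((a.2 255 (by decide)).2.symm h.zz).trans h.zz f)
  obtain ⟨φ, hφ, k⟩ := h.stab a m
  have l1 := (a.2 1 (by decide)).1
  obtain ⟨t, c⟩ := (e.2 _ l1).resolve_left (by
    have := h.ac_b a (v := 255) (w := 1) (by decide) (by decide)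
    rw [m, e.1.2] at this
    exact not_or.2 ⟨not_not.2 ((om _ l1).1 (h.mv a (by decide) ((om 1 (by decide)).2 e.1.1)).1),
      fun c => one_ne_zero (this.1 c)⟩)
  obtain ⟨x, ax⟩ := h.exists_mw s (dw (nth 0 ws (app M 1)))
  generalize mw _ _ = T at t c ax
  replace c := c φ hφ
  generalize hN : mkM (fun i => ite' (Nat.blt i 8) (row _ (dig 3 7 φ i)) 0) = N at c
  have n : Ac z ψ g N := a.of_eq8 ((allLT_iff _ _).2 fun i hi => (beq_iff _ _).2 (by
    have := (Nat.lt_succ_of_le Nat.and_le_right : dig 3 7 φ i < 8)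
    rw [← hN, row_mkM (fun j _ => by rw [ite'_eq]; split_ifs; exacts [row_lt _ _, by decide]) (by omega),
      (blt_iff _ _).2 hi, ite'_true, row_mkM (fun _ _ => app_lt _ _) (by omega), ← k i hi,
      app_two_pow _ (by omega)]))
  rcases c with ⟨p, hp, p1, c⟩ | ⟨_, c, rfl⟩
  · have y := h.ac_mul ax n
    obtain ⟨i, hi, y⟩ := h.mv_tr (p := p.1) (M := p.2) y (s p hp) (by
      rw [p1, app_mm _ _ (by decide), h.ac_unique n a (by decide), t])
    have := y 6 (by decide)
    rw [app_mm _ _ (by decide), app_mm _ _ (app_lt _ _)] at this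
    exact absurd this (c i hi)
  · exact ⟨_, c, n⟩

namespace Gx

variable (l : Gx z π r γ) (h : Fm z ψ u b) (s : Sx z ψ gs) (e : lev1 u b W sv ss = true)
include l h s e

theorem of_ptC {c : PC} (k : FP z (ψ (app c.1 1))) (t : ptC u b gs sv tg c = true) : Stg z u b tg := by
  simp only [ptC, and'_eq_true, force_eq, allL_iff, or'_eq_true, anyL_iff] at t
  have e' := e
  simp only [lev1, and'_eq_true] at e'
  have i := isoC_spec e'.1.1.1 e'.1.1.1 t.1.1
  obtain ⟨x, hx, a⟩ := l.of_lev1 (h.chg i t.1.2) k e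
  simp only [Sx, at3, List.forall_mem_cons] at a
  have s' : Sx z ψ (_ :: _ :: _ :: gs) := List.forall_mem_cons.2 ⟨i.pt a.1, List.forall_mem_cons.2
    ⟨i.pt a.2.1, List.forall_mem_cons.2 ⟨i.pt a.2.2.1, s⟩⟩⟩
  rcases t.2 x hx with ⟨_, -, c | c⟩ | ⟨t, ht, _, -, c⟩
  exacts [absurd c (h.not_kill s'), absurd c (l.not_n4k h e'.1.1.2 s'), ⟨t, ht, h.of_move s' e'.1.1.1 c⟩]

end Gx

theorem Gx.of_omC (l : Gx z π r γ) (h : Fm z ψ d.u d.b) (s : Sx z ψ d.gs) (e : lev1 d.u d.b W sv ss = true)
    {ws : List ℕ} {es : List PC} (t : omC d sv tg ws es = true) (n : naC d ws = true) :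
    Cs z ψ d ∨ Stg z d.u d.b tg := by
  simp only [omC, and'_eq_true, force_eq, allL_iff, allLT_iff, ite'_eq, tb_eq] at t
  refine or_iff_not_imp_right.2 fun c => ?_
  have om : ∀ v < 256, FP z (ψ v) ↔ d.om.testBit v = true := fun v hv => by
    obtain ⟨g, a⟩ := h.exists_av s (dw (nth 0 ws v))
    have := t.2 v hv
    refine ⟨fun k => by_contra fun m => ?_, fun m => ?_⟩
    · simp only [if_neg m, or'_eq_true, beq_iff, anyL_iff] at this
      rcases this with (rfl | f) | ⟨x, hx, f⟩
      exacts [k.not_eqv h.zero, absurd ((h.sq v hv).1 k.tt) (by omega),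
        c (l.of_ptC h s e (f ▸ (h.mv a hv k).1) (t.1 x hx))]
    · rw [if_pos m, beq_iff] at this
      have f := ((a.2 v hv).2).conj (comm_inv_left a.1)
      rw [this] at f
      exact (h.fa.cj (comm_inv_left a.1)).of_eqv (by simpa [mul_assoc] using f)
  simp only [lev1, and'_eq_true] at e
  exact ⟨h.toCF, om, h.aA, h.aA', fun v hv => l.aL h e.1.1.2 hv, fun p hp => (s p hp).2.2,
    fun g => h.na s om n⟩

end Cfsg.Agent.X9
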