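import Cfsg.Agent.X9.ClsD
import Cfsg.Agent.X9.ClsF

/-! The classification of the geometries of rank four. -/

set_option autoImplicit false

namespace Cfsg.Agent.X9

open Subgroup Cfsg.Agent.TT Cfsg.Agent.LES Cfsg.Agent.XSC Cfsg.Agent.XSC.WC Cfsg.Agent.XW
  Cfsg.Agent.J4 Cfsg.Agent.Comp Cfsg.Agent.U6R Cfsg.Agent.Class.Orth QuadraticMap Module
open Cfsg.Agent.ThT (app_i8)

def cle128 : PC := (nat_lit 0x80040020010008004002001, [], [(nat_lit 0x1008020040002004010080, nat_lit 0x1010020002040004008080, nat_lit 0xf11d58, [nat_lit 0x22b4, nat_lit 0x22b2, nat_lit 0x22b1]), (nat_lit 0x1004010040002008020080, nat_lit 0x1010002020004040008080, nat_lit 0xf59d10, [nat_lit 0x22b5, nat_lit 0x22b3, nat_lit 0x22b1]), (nat_lit 0x1002010020004008040080, nat_lit 0x1002010020004008040080, nat_lit 0xf9ab08, [nat_lit 0x22b6, nat_lit 0x22b3, nat_lit 0x22b2]), (nat_lit 0x1002004008010020040080,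 nat_lit 0x1002004008010020040080, nat_lit 0xfac688, [nat_lit 0x22b6, nat_lit 0x22b5, nat_lit 0x22b4]), (nat_lit 0xc40c804c08c031032013023, nat_lit 0xd00e000d00e0700b000700b, nat_lit 0xf9ab08, [nat_lit 0x21ae, nat_lit 0x21ab, nat_lit 0x21aa])])

def cle254 : PC := (nat_lit 0x80040020010008004002001, [], [(nat_lit 0x8004002001080040020010, nat_lit 0x8004002001080040020010, nat_lit 0xfac688, [38, 36, 39]), (nat_lit 0x4008002001040080020010, nat_lit 0x4008002001040080020010, nat_lit 0xdec4c8, [39, 36, 38]), (nat_lit 0x4008002001080040010020, nat_lit 0x8004001002040080020010, nat_lit 0xfa54c8, [38, 37, 39]), (nat_lit 0x8004002001040080010020, nat_lit 0x4008001002080040020010, nat_lit 0xde5688, [39, 37, 38]), (nat_lit 0x1002004008040080010020, nat_lit 0x4008001002010020040080, nat_lit 0xb3e688, [39, 36, 34]), (nat_lit 0x2001008004040080010020, nat_lit 0x4008001002020010080040,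 nat_lit 0x977688, [33, 38, 35]), (nat_lit 0x2001004008080040010020, nat_lit 0x8004001002010020080040, nat_lit 0x97e4c8, [33, 39, 34]), (nat_lit 0x1002008004080040010020, nat_lit 0x8004001002020010040080, nat_lit 0xb374c8, [38, 36, 35])])

def cle14 : PC := (nat_lit 0x80040020010008004002001, [], [(nat_lit 0x5e0ad05b0a707a0b50da0e5, nat_lit 0x570ab05d0ae0ea0d50ba075, nat_lit 0x977688, [45, 41, 47]), (nat_lit 0x9d06e06709b0b90760e60d9, nat_lit 0x9b06706e09d0d90e60760b9, nat_lit 0x977688, [44, 43, 45]), (nat_lit 0x9d06e06709b0d90e60760b9, nat_lit 0x9d06e06709b0d90e60760b9, nat_lit 0xfac688, [39, 35, 38]), (nat_lit 0xae05d0ab0570ea0d50ba075, nat_lit 0xae05d0ab0570ea0d50ba075, nat_lit 0xfac688, [38, 33, 36])])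

def cle22 : PC := (nat_lit 0x80040020010008004002001, [], [(nat_lit 0x20010080040002001008004, nat_lit 0x20010080040002001008004, nat_lit 0xfac688, [nat_lit 0x235, nat_lit 0x236, nat_lit 0x232])])

def cle62 : PC := (nat_lit 0x80040020010008004002001, [], [])

def clws27 : List ℕ := [0, nat_lit 0x16524, nat_lit 0x6524, 5, nat_lit 0x6154, 4, 4, 0, nat_lit 0x3654, 65, 65, 1, 82, 2, 33, nat_lit 0x65421, nat_lit 0x61524, nat_lit 0x1524, nat_lit 0x624, 0, nat_lit 0x615, 0, 0, 4, 0, 0, 0, 0, 0, 0, 0, 0, nat_lit 0x2654, nat_lit 0x264, nat_lit 0x524, 1, 0, 0, 0, 0, nat_lit 0x265, 1, 1, 65, 0, 0, 0, 0, 83, 3, 6, 36, 0, 0, 0, 0, 0, 0, 0, 0, nat_lit 0x542, 66, nat_lit 0x421, nat_lit 0x6521, nat_lit 0x1654, nat_lit 0x165, 0, 0, nat_lit 0x154, 2, 0, 0, nat_lit 0x164, 2, 0, 0, 2, 82, 0, 0, 67, 3, 0, 0, 6, 21, 0, 0, 0, 0, nat_lit 0x541, 81, 0, 0, nat_lit 0x521, nat_lit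 0x6421, 67, 3, 0, 0, 0, 0, 100, 6, 81, 22, 0, 0, 0, 0, nat_lit 0x621, nat_lit 0x5421, 3, 67, 0, 0, 0, 0, 100, 6, 0, 0, nat_lit 0x541, 81, nat_lit 0x542, 66, 0, 0, nat_lit 0x654, 0, 101, 0, 100, 0, 33, 0, 84, 0, 33, 0, 33, 0, nat_lit 0x241, 0, nat_lit 0x431, 0, 49, 0, 50, 0, 6, 0, 0, nat_lit 0x164, 0, 22, 0, 38, 0, nat_lit 0x52421, nat_lit 0x431, 0, 49, 0, 0, nat_lit 0x5431, 0, nat_lit 0x151, 22, 0, 5, 0, 0, nat_lit 0x1521, 0, nat_lit 0x426, 49, 0, nat_lit 0x431, 0, 0, nat_lit 0x531, 0, nat_lit 0x531, 0, nat_lit 0x631, 0, 22, nat_lit 0x4241, 0, nat_lit 0x421, 0, nat_lit 0x532, 0, 0, nat_lit 0x5432, 50, 0, 0, nat_lit 0x242, 38, 0, 0, nat_lit 0x2421, 4, 0, 0, nat_lit 0x516, 50, 0, 0, nat_lit 0x432, nat_lit 0x532, 0, 0, nat_lit 0x432, 0, nat_lit 0x632, nat_lit 0x5241, 0, 0, 38, nat_lit 0x521, 0, nat_lit 0x321, 0, 0, nat_lit 0x4321, 0, nat_lit 0x5321, nat_lit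 0x3621, 0, nat_lit 0x6321, 0, 0, nat_lit 0x426, 0, nat_lit 0x516, nat_lit 0x621, 0, nat_lit 0x365421, 0, 0, nat_lit 0x36521, 0, nat_lit 0x36421, nat_lit 0x54321, 0, 0, nat_lit 0x54241, nat_lit 0x6432, 0, nat_lit 0x6531, 0, 0, 0]

def cles27 : List PC := [(nat_lit 0xe00d00b007000e00d00b007, [nat_lit 0x418010, nat_lit 0x94010, nat_lit 0x94010, nat_lit 0x94010], [(nat_lit 0x700b00d00e0700b00d00e0, nat_lit 0x700b00d00e0700b00d00e0, nat_lit 0xfac688, [nat_lit 0x22b6, nat_lit 0x22b5, nat_lit 0x22b4])]),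
  (nat_lit 0xc80c403203108c04c023013, [nat_lit 0x75011, nat_lit 0x75011, nat_lit 0x94010, nat_lit 0x94010, nat_lit 0x494012], []),
  (nat_lit 0xa80540a205108a04502a015, [nat_lit 0x84010, nat_lit 0x94010, nat_lit 0x85010, nat_lit 0x94010, nat_lit 0x494012], []),
  (nat_lit 0x68094092061086049029016, [nat_lit 0x418010, nat_lit 0x419010, nat_lit 0x419010, nat_lit 0x518010, nat_lit 0x7865010], [])]

def clws81 : List ℕ := [0, nat_lit 0x165324, nat_lit 0x65324, nat_lit 0x651, nat_lit 0x61534, nat_lit 0x642, nat_lit 0x343, nat_lit 0x615424, nat_lit 0x3654, nat_lit 0x5421, nat_lit 0x343, nat_lit 0x42654, nat_lit 0x353, nat_lit 0x51654, nat_lit 0x63534, nat_lit 0x3434, nat_lit 0x61524, 99, 98, nat_lit 0x6315, 97, nat_lit 0x6324, nat_lit 0x15324, nat_lit 0x615324, 0, 0, 0, 0, 0, 0, 0, 0, nat_lit 0x2654, nat_lit 0x531, nat_lit 0x521, nat_lit 0x536, 0, 0, 0, 0, 81,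 nat_lit 0x5324, nat_lit 0x2634, nat_lit 0x36524, 0, 0, 0, 0, nat_lit 0x532, nat_lit 0x5165, nat_lit 0x3536, nat_lit 0x2424, 0, 0, 0, 0, 0, 0, 0, 0, 5, 0, 1, nat_lit 0x324, nat_lit 0x1654, nat_lit 0x261, 0, 0, nat_lit 0x421, nat_lit 0x436, 0, 0, 66, nat_lit 0x1534, 0, 0, nat_lit 0x1635, nat_lit 0x16534, 0, 0, nat_lit 0x431, nat_lit 0x4264, 0, 0, nat_lit 0x3436, nat_lit 0x1515, 0, 0, 0, 0, 4, 0, 0, 0, 2, nat_lit 0x315, 67, nat_lit 0x15424, 0, 0, 0, 0, 4, 0, nat_lit 0x3534, nat_lit 0x1616, 0, 0, 0, 0, 33, 54, nat_lit 0x165424, nat_lit 0x16524, 0, 0, 0, 0, 3, nat_lit 0x1524, 0, 0, 49, nat_lit 0x264, 50, nat_lit 0x165, 0, 0, nat_lit 0x654, 0, 98, 0, 97, 0, nat_lit 0x534, 0, 81, 0, nat_lit 0x634, 0, nat_lit 0x635, 0, nat_lit 0x6534, 0, nat_lit 0x431, 0, nat_lit 0x5424, 0, nat_lit 0x5154, 0, nat_lit 0x616, 0, 0, 65, 0, 1, 0, 2, 0, nat_lit 0x316, 67, 0, nat_lit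 0x6424, 0, 0, 65, 0, 1, nat_lit 0x3634, 0, nat_lit 0x515, 0, 0, 33, 0, 53, nat_lit 0x65424, 0, nat_lit 0x6524, 0, 0, 3, 0, nat_lit 0x624, 0, 49, 0, nat_lit 0x524, 99, 0, 101, 0, 83, 0, 0, 82, nat_lit 0x6515, 0, 0, 2, nat_lit 0x3635, 0, 0, 33, nat_lit 0x424, 0, 0, 52, nat_lit 0x65154, 0, 0, 3, nat_lit 0x6154, 0, 0, nat_lit 0x615, 0, 50, 99, 0, 0, nat_lit 0x154, 100, 0, nat_lit 0x53634, 0, 0, 49, 0, 50, nat_lit 0x321, 0, nat_lit 0x5164, 0, 0, nat_lit 0x265, 0, nat_lit 0x164, 84, 0, nat_lit 0x434, 0, 0, 36, 0, 21, 6, 0, 0, 22, 5, 0, 4, 0, 0, 0]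

def cles81 : List PC := [(nat_lit 0xbc07c0e30d30cb0c703e03d, [nat_lit 0x969010, nat_lit 0x868010, nat_lit 0x248ff4, nat_lit 0x858012, nat_lit 0x76011], []),
  (nat_lit 0xda0e507a0b50ad05e0a705b, [nat_lit 0x969010, nat_lit 0x147ff4, nat_lit 0x767011, nat_lit 0x767012, nat_lit 0x85010], []),
  (nat_lit 0xe60d90b907606e09d09b067, [nat_lit 0x147ff4, nat_lit 0x868010, nat_lit 0x767011, nat_lit 0x767012, nat_lit 0x94010], [])]

def clws9 : List ℕ := [0, 53, 6, 0, 20, 0, 0, 0, 4, 0, 0, 0, 0, 0, 0, nat_lit 0x353, 5, 0, 0, 0, 0, 0, 0, nat_lit 0x434, 0, 0, 0, nat_lit 0x262, 0, nat_lit 0x141, 4, 0, 84, 0, 0, 0, 0, 0, 0, nat_lit 0x2162, 0, 0, 0, nat_lit 0x6424, 0, 20, 65, 1, 0, 0, 0, nat_lit 0x5431, 0, nat_lit 0x142, nat_lit 0x543, 67, 0, nat_lit 0x5151, 66, nat_lit 0x642, nat_lit 0x421, nat_lit 0x6521, nat_lit 0x352, 0, 37, 0, 0, 0, 0, 0, 0, nat_lit 0x2141, 0, 0,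 0, 36, 0, nat_lit 0x6531, 98, 2, 0, 0, 0, nat_lit 0x1631, 0, nat_lit 0x6532, nat_lit 0x621, nat_lit 0x263, 0, nat_lit 0x2621, 97, nat_lit 0x641, nat_lit 0x653, 99, nat_lit 0x3521, 0, 0, 0, 0, nat_lit 0x524, 0, nat_lit 0x3621, nat_lit 0x5242, nat_lit 0x2651, 0, nat_lit 0x14341, nat_lit 0x2643, nat_lit 0x3431, nat_lit 0x6324, nat_lit 0x3151, nat_lit 0x624, 0, 0, nat_lit 0x532, nat_lit 0x1531, nat_lit 0x343, nat_lit 0x25321, nat_lit 0x3263, nat_lit 0x432, 0, nat_lit 0x5363, nat_lit 0x1431, nat_lit 0x424, 0, nat_lit 0x632, 0, 0, 0, 52, 0, 0, 0, 0, 0, 0, nat_lit 0x214, 0, 0, 0, nat_lit 0x241, 0, nat_lit 0x162, nat_lit 0x3541, 33, 0, 0, 0, nat_lit 0x6431, 0, nat_lit 0x5424, nat_lit 0x4341, nat_lit 0x542, 0, nat_lit 0x64321, nat_lit 0x643, nat_lit 0x6543, nat_lit 0x6541, nat_lit 0x651, nat_lit 0x351, 0, 0, 0, 0, nat_lit 0x631, 0, nat_lit 0x161, nat_lit 0x6152,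 nat_lit 0x1641, 0, nat_lit 0x514, nat_lit 0x6343, nat_lit 0x2163, nat_lit 0x2631, nat_lit 0x31521, nat_lit 0x163, 0, 0, nat_lit 0x531, nat_lit 0x2541, nat_lit 0x3642, nat_lit 0x324, nat_lit 0x2521, nat_lit 0x431, 0, nat_lit 0x3241, nat_lit 0x1432, nat_lit 0x65431, 0, nat_lit 0x252, 0, 0, 0, 0, 0, 0, nat_lit 0x2421, 0, nat_lit 0x2142, nat_lit 0x14321, nat_lit 0x3632, 0, nat_lit 0x4321, nat_lit 0x242, nat_lit 0x3252, nat_lit 0x25431, nat_lit 0x243, nat_lit 0x2642, 0, 0, nat_lit 0x5321, nat_lit 0x314, nat_lit 0x152, nat_lit 0x1541, nat_lit 0x363, nat_lit 0x151, 0, nat_lit 0x3162, nat_lit 0x3651, nat_lit 0x1521, 0, nat_lit 0x6321, 0, 0, 0, 0, 52, nat_lit 0x341, 82, nat_lit 0x362, nat_lit 0x521, nat_lit 0x4151, 0, nat_lit 0x541, 81, nat_lit 0x3163, 0, nat_lit 0x6252, 0, 0, 0, 83, 3, 49, 0, 50, 0, 0, 0, nat_lit 0x321, 0, 0, 0, 0, 0, 0, 0]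

def cles9 : List PC := [(nat_lit 0xf80f40f20f108f04f02f01f, [nat_lit 0x7596010, nat_lit 0x959010, nat_lit 0x959010, nat_lit 0x47357040, nat_lit 0x747010, nat_lit 0x47596010, nat_lit 0x747010], [(nat_lit 0x4f08f02f01f0f40f80f20f1, nat_lit 0x4f08f02f01f0f40f80f20f1, nat_lit 0xdec4c8, [39, 36, 38, 70, 68, 71])])]

def clws135 : List ℕ := [0, 53, 6, 0, 20, 0, 0, 0, 4, 0, 0, 0, 0, 0, 0, 133, 5, 0, 0, 0, 0, 0, 0, 148, 0, 0, 0, nat_lit 0x267, 0, 118, nat_lit 0x735, 39, 84, 0, 0, 0, 0, 0, 0, nat_lit 0x9854, 0, 0, 0, nat_lit 0x194, 0, nat_lit 0x486, 73, 9, 0, 0, 0, nat_lit 0x8754, 0, nat_lit 0x147, nat_lit 0x954, 72, 0, nat_lit 0x484, 71, nat_lit 0x934, nat_lit 0x417, nat_lit 0x925, nat_lit 0x594, 0, 37, 0, 0, 0, 0, 0, 0, nat_lit 0x684, 0, 0, 0, nat_lit 0x574, 0, nat_lit 0x294, 103, 7, 0, 0, 0, nat_lit 0x575, 0, nat_lit 0x5974, nat_lit 0x617, nat_lit 0x754, 0, nat_lit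 0x3474, 105, nat_lit 0x734, nat_lit 0x725, 104, nat_lit 0x685, 0, 0, 0, 0, 116, 0, nat_lit 0x975, nat_lit 0x6375, nat_lit 0x5375, 0, 150, nat_lit 0x1474, nat_lit 0x2694, nat_lit 0x2174, nat_lit 0x395, nat_lit 0x814, 0, 0, nat_lit 0x394, nat_lit 0x1876, nat_lit 0x348, nat_lit 0x3684, nat_lit 0x3754, nat_lit 0x976, 0, nat_lit 0x4375, nat_lit 0x295, nat_lit 0x5474, 0, nat_lit 0x974, 0, 0, 0, 52, 0, 0, 0, 0, 0, 0, nat_lit 0x695, 0, 0, 0, nat_lit 0x249, 0, nat_lit 0x475, nat_lit 0x5834, 23, 0, 0, 0, nat_lit 0x174, 0, nat_lit 0x474, nat_lit 0x196, nat_lit 0x547, 0, nat_lit 0x9834, nat_lit 0x648, nat_lit 0x2814, nat_lit 0x274, nat_lit 0x659, nat_lit 0x694, 0, 0, 0, 0, nat_lit 0x875, 0, nat_lit 0x169, nat_lit 0x2914, nat_lit 0x1734, 0, nat_lit 0x914, nat_lit 0x4395, nat_lit 0x286, nat_lit 0x1725, nat_lit 0x1685, 134, 0, 0, nat_lit 0x876, nat_lit 0x2854, nat_lit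 0x3934, nat_lit 0x3574, nat_lit 0x3734, nat_lit 0x487, 0, nat_lit 0x4184, nat_lit 0x6184, nat_lit 0x874, 0, 117, 0, 0, 0, 0, 0, 0, nat_lit 0x714, 0, nat_lit 0x6484, nat_lit 0x2484, nat_lit 0x3974, 0, nat_lit 0x985, nat_lit 0x247, nat_lit 0x375, nat_lit 0x52914, nat_lit 0x184, 132, 0, 0, nat_lit 0x984, nat_lit 0x1494, nat_lit 0x157, nat_lit 0x1854, nat_lit 0x368, 149, 0, nat_lit 0x1834, nat_lit 0x1584, nat_lit 0x986, 0, nat_lit 0x698, 0, 0, 0, 0, nat_lit 0x494, nat_lit 0x825, 87, nat_lit 0x834, nat_lit 0x517, nat_lit 0x584, 0, nat_lit 0x854, 89, nat_lit 0x674, 0, nat_lit 0x384, 0, 0, 0, 88, 8, 135, 0, 55, 0, 0, 0, 152, 0, 0, 0, 0, 0, 0, 0]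

def cles135 : List PC := []

def clws75 : List ℕ := [0, nat_lit 0x36514, nat_lit 0x25215, 0, nat_lit 0x51514, 0, 0, 0, nat_lit 0x5215, 0, 0, 0, 0, 0, 0, 101, nat_lit 0x6514, nat_lit 0x165, nat_lit 0x25315, 0, 100, 0, 0, 0, 5, 0, 0, 0, 0, 0, 0, 0, nat_lit 0x16514, nat_lit 0x241514, 101, 0, 21, 0, 0, 0, nat_lit 0x652, 0, 0, 0, 0, 0, 0, 1, 0, 0, 0, nat_lit 0x654, 0, nat_lit 0x61654, nat_lit 0x6254, nat_lit 0x354, 0, nat_lit 0x24154, nat_lit 0x2416, 54, 67, nat_lit 0x3654, nat_lit 0x31654, 0, nat_lit 0x5216, nat_lit 0x264, 37, 0, nat_lit 0x642, 0, 0, 0, nat_lit 0x5315, 0, 0, 0, 0, 0, 0, 2, 0, 0, 0, nat_lit 0x51654, 0, nat_lit 0x5421, nat_lit 0x5214, nat_lit 0x624, 0, nat_lit 0x1614, nat_lit 0x16421, nat_lit 0x3621, nat_lit 0x4164, nat_lit 0x364, nat_lit 0x631, 0, 0, 0, 0, nat_lit 0x2415, 0, nat_lit 0x4215, 83, nat_lit 0x325, 0, 82, nat_lit 0x514, nat_lit 0x251,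 nat_lit 0x4254, nat_lit 0x151, nat_lit 0x315, 0, 0, 0, 0, 84, 0, nat_lit 0x264, 37, nat_lit 0x214, 0, nat_lit 0x542, nat_lit 0x1621, nat_lit 0x2651, nat_lit 0x516, 22, 84, 0, nat_lit 0x64254, 53, nat_lit 0x415, 0, nat_lit 0x41514, 0, 0, 0, nat_lit 0x521, 0, 0, 0, 0, 0, 0, 33, 0, 0, 0, nat_lit 0x24254, 0, nat_lit 0x1514, nat_lit 0x152, nat_lit 0x2151, 0, 98, nat_lit 0x6214, nat_lit 0x524, nat_lit 0x415, 53, 81, 0, 0, 0, 0, nat_lit 0x6264, 0, nat_lit 0x6421, nat_lit 0x614, nat_lit 0x6254, 0, nat_lit 0x2614, nat_lit 0x543, nat_lit 0x1624, nat_lit 0x4216, nat_lit 0x536, nat_lit 0x3164, 0, 0, 0, 0, 6, 0, nat_lit 0x621, nat_lit 0x242, nat_lit 0x6242, 0, nat_lit 0x215, nat_lit 0x425, 36, nat_lit 0x5415, nat_lit 0x154, 6, 0, 0, 0, 0, 4, 0, nat_lit 0x5264, nat_lit 0x4154, nat_lit 0x515, 0, nat_lit 0x4315, nat_lit 0x416, nat_lit 0x1515, nat_lit 0x2654, nat_lit 0x1632,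 nat_lit 0x632, 0, 0, 0, 0, nat_lit 0x654, 0, 100, nat_lit 0x142, nat_lit 0x216, 0, 5, nat_lit 0x1421, nat_lit 0x254, nat_lit 0x254, 20, nat_lit 0x651, 0, 0, 0, 0, nat_lit 0x1654, 0, nat_lit 0x421, 21, nat_lit 0x354, 0, 66, nat_lit 0x164, 38, 38, nat_lit 0x426, 4, 0, nat_lit 0x365, 3, 49, 0, 50, 0, 0, 0, 97, 0, 0, 0, 0, 0, 0, 0]

def cles75 : List PC := [(nat_lit 0xf80f40f20f108f04f02f01f, [nat_lit 0x757010, nat_lit 0x69ff6, nat_lit 0x474010, nat_lit 0x49ff6], [])]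

def clws15 : List ℕ := [0, 38, 101, 0, 6, 0, nat_lit 0x421, 0, 22, 53, 0, 1, 0, 2, 33, nat_lit 0x536, nat_lit 0x634, 0, nat_lit 0x531, nat_lit 0x163, nat_lit 0x141, nat_lit 0x341, 0, 0, 5, 0, 0, 0, 0, 0, nat_lit 0x214, 0, nat_lit 0x365, 36, 0, 99, 4, 0, 0, 0, 65, 1, nat_lit 0x524, 0, 0, 36, 0, 0, 0, nat_lit 0x542, nat_lit 0x363, nat_lit 0x6363, 0, 0, nat_lit 0x532, 0, 0, nat_lit 0x652, 0, 0, nat_lit 0x632, nat_lit 0x6361, nat_lit 0x526, 0, 54, nat_lit 0x524, 52, 0, 0, nat_lit 0x653, 0, 0, 82, 2, 0, 20, nat_lit 0x514, 0, 0, 0, 0, 65, 0, 0, nat_lit 0x241, nat_lit 0x1631, nat_lit 0x531, 0, 0, 97, 22, nat_lit 0x1621, 0, 0, nat_lit 0x516, 0, 67, 3, 0, 67, 0, nat_lit 0x543, nat_lit 0x621, 100, nat_lit 0x321, nat_lit 0x164, 82, 0, 81, 0, 54, nat_lit 0x521, 3, 0, 0, 0, 0, 0, nat_lit 0x364, 0, 52, 0, nat_lit 0x3621, nat_lit 0x1541, nat_lit 0x6151, nat_lit 0x242,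 100, 0, nat_lit 0x624, 36, 84, 0, 4, 0, 33, 4, 0, 0, nat_lit 0x432, 0, nat_lit 0x263, 0, 0, 0, 5, 0, 49, nat_lit 0x251, 50, nat_lit 0x361, 100, 0, 0, nat_lit 0x654, nat_lit 0x252, nat_lit 0x164, nat_lit 0x151, nat_lit 0x264, 0, nat_lit 0x534, 0, 0, nat_lit 0x141, 0, 0, 6, nat_lit 0x161, nat_lit 0x621, nat_lit 0x2141, nat_lit 0x1531, nat_lit 0x631, 0, 0, nat_lit 0x2621, 0, 0, 49, 0, 0, 0, nat_lit 0x314, nat_lit 0x6241, 0, nat_lit 0x541, 0, 38, 0, 0, nat_lit 0x6341, nat_lit 0x164, 98, 0, 0, 0, 0, 101, nat_lit 0x5141, 0, nat_lit 0x421, nat_lit 0x6521, nat_lit 0x3263, nat_lit 0x1421, 0, nat_lit 0x632, nat_lit 0x6532, 0, 0, 0, 50, 0, nat_lit 0x324, nat_lit 0x6324, 0, 0, 0, 66, 0, 22, nat_lit 0x6251, nat_lit 0x631, 0, 0, nat_lit 0x651, 0, nat_lit 0x321, nat_lit 0x4321, 0, nat_lit 0x6153, 0, nat_lit 0x6214, 6, nat_lit 0x364, 0, 0, 0, nat_lit 0x431, 0, nat_lit 0x2541,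 0, 0, nat_lit 0x6141, 0, 0, 0, 0, 0, 83, 0, 0, nat_lit 0x153, 0, 0, 0, 0, 0, 0]

def cles15 : List PC := [(nat_lit 0xe00d00b007000e00d00b007, [nat_lit 0x575010], []),
  (nat_lit 0x68094092061086049029016, [nat_lit 0x427000], [])]

theorem pt128 : ptC d27.u d27.b [] sv128 [d27.gs, d81.gs] cle128 = true := by decide +kernel
theorem pt254 : ptC d9.u d9.b [] sv254 [d9.gs] cle254 = true := by decide +kernel
theorem pt14 : ptC d75.u d75.b [] sv14 [d75.gs] cle14 = true := by decide +kernel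
theorem pt22 : ptC d15.u d15.b [] sv22 [d15.gs] cle22 = true := by decide +kernel
theorem pt62 : ptC 0x800c00e00c00c803c03e 0x7c0bc0d30e30c70cb03d03e [] sv62 [] cle62 = true := by
  decide +kernel

theorem omC27 : omC d27 sv128 [d81.gs] clws27 cles27 = true := by decide +kernel
theorem naC27 : naC d27 clws27 = true := by decide +kernel
theorem omC81 : omC d81 sv128 [] clws81 cles81 = true := by decide +kernel
theorem naC81 : naC d81 clws81 = true := by decide +kernel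
theorem omC9 : omC d9 sv254 [d135.gs] clws9 cles9 = true := by decide +kernel
theorem naC9 : naC d9 clws9 = true := by decide +kernel
theorem omC135 : omC d135 sv254 [] clws135 cles135 = true := by decide +kernel
theorem naC135 : naC d135 clws135 = true := by decide +kernel
theorem omC75 : omC d75 sv14 [] clws75 cles75 = true := by decide +kernel
theorem naC75 : naC d75 clws75 = true := by decide +kernel
theorem omC15 : omC d15 sv22 [] clws15 cles15 = true := by decide +kernel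
theorem naC15 : naC d15 clws15 = true := by decide +kernel

variable {V : Type} [AddCommGroup V] [Module (ZMod 2) V] {q : QuadraticForm (ZMod 2) V} {γ : Geo q}
  {G : Type*} [Group G] [Finite G] {z : G} {π : G → V} {r : centralizer ({z} : Set G) →* OG q}

theorem Gx.cls (l : Gx z π r γ) :
    ∃ ψ, Cs z ψ d27 ∨ Cs z ψ d81 ∨ Cs z ψ d9 ∨ Cs z ψ d135 ∨ Cs z ψ d75 ∨ Cs z ψ d15 := by
  have n : ∀ {u b}, ¬ Stg z u b [] := fun ⟨_, h, _⟩ => nomatch h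
  have o : ∀ {u b t}, Stg z u b [t] → ∃ ψ, Fm z ψ u b ∧ Sx z ψ t := fun ⟨_, h, k⟩ =>
    List.mem_singleton.1 h ▸ k
  have k81 : Stg z d81.u d81.b [d81.gs] → ∃ ψ, Cs z ψ d81 := fun k =>
    let ⟨ψ, h, s⟩ := o k
    ⟨ψ, (l.of_omC h s lev128 omC81 naC81).resolve_right n⟩
  obtain ⟨p, hp, ψ, h, k⟩ := l.init
  rw [← app_i8 1 (by decide)] at k
  have s : Sx z ψ [] := fun _ h => nomatch h
  simp only [fs, List.mem_cons, List.not_mem_nil, or_false] at hp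
  rcases hp with rfl | rfl | rfl | rfl | rfl
  · obtain ⟨t, ht, ψ, h, s⟩ := l.of_ptC h s lev128 k pt128
    simp only [List.mem_cons, List.not_mem_nil, or_false] at ht
    rcases ht with rfl | rfl
    · rcases l.of_omC h s lev128 omC27 naC27 with c | c
      exacts [⟨ψ, Or.inl c⟩, (k81 c).imp fun _ c => Or.inr (Or.inl c)]
    · exact (k81 ⟨_, List.mem_singleton_self _, ψ, h, s⟩).imp fun _ c => Or.inr (Or.inl c)
  · obtain ⟨ψ, h, s⟩ := o (l.of_ptC h s lev254 k pt254)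
    rcases l.of_omC h s lev254 omC9 naC9 with c | c
    · exact ⟨ψ, Or.inr (Or.inr (Or.inl c))⟩
    · obtain ⟨ψ, h, s⟩ := o c
      exact ⟨ψ, Or.inr (Or.inr (Or.inr (Or.inl ((l.of_omC (d := d135) h s lev254 omC135 naC135).resolve_right n))))⟩
  · obtain ⟨ψ, h, s⟩ := o (l.of_ptC h s lev14 k pt14)
    exact ⟨ψ, Or.inr (Or.inr (Or.inr (Or.inr (Or.inl ((l.of_omC h s lev14 omC75 naC75).resolve_right n)))))⟩
  · obtain ⟨ψ, h, s⟩ := o (l.of_ptC h s lev22 k pt22)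
    exact ⟨ψ, Or.inr (Or.inr (Or.inr (Or.inr (Or.inr ((l.of_omC h s lev22 omC15 naC15).resolve_right n)))))⟩
  · exact absurd (l.of_ptC h s lev62 k pt62) n

end Cfsg.Agent.X9
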