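import Cfsg.Agent.X9.Cs

/-! Conditions on the conjugates of `z` in `C(z)` and tools for the six geometries. -/

set_option autoImplicit false

namespace Cfsg.Agent.X9

open Subgroup Cfsg.Agent.TT Cfsg.Agent.LES Cfsg.Agent.XSC Cfsg.Agent.XSC.WC Cfsg.Agent.XW
  Cfsg.Agent.J4 Cfsg.Agent.Comp
open Cfsg.Agent.Comp.BN (nth ev ev_cons)
open Cfsg.Agent.X7 (mem_c eqv_one_iff_mem)
open Cfsg.Agent.ThT (x8 p8 l12 i8 app_i8 mw)

variable {G : Type*} [Group G] {z g : G} {ψ : ℕ → G} {u b M : ℕ} {d : Dt}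

/-- `C(z)/Q` contains no long root element of `O(Q / ⟨z⟩)` -/
def R2 (z : G) : Prop := ∀ g a b, g * z = z * g → a ∈ O2C z → b ∈ O2C z → a * a = 1 → b * b = 1 →
  a * b = b * a → (∀ x ∈ O2C z, x * a = a * x → x * b = b * x → Eqv z (g * x * g⁻¹) x) → g ∈ O2C z

/-- conjugates of `z` in `C(z) \ Q` centralise at most `32` elements of `Q` -/
def NR (z : G) : Prop := ∀ t, IsConj z t → t * z = z * t → t ∉ O2C z →
  Nat.card (O2C z ⊓ centralizer {t} : Subgroup G) ≤ 32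

/-- conjugates of `z` in `C(z) \ Q` of alternating type have a common neighbour with `z` -/
def NB (z : G) : Prop := ∀ t, IsConj z t → t * z = z * t → t ∉ O2C z →
  (∀ x ∈ O2C z, x * (t * x * t⁻¹) = t * x * t⁻¹ * x) → ∃ s, FP z s ∧ t ∈ O2C s

/-- all conjugates of `z` in `C(z) \ Q` have a common neighbour with `z` -/
def NA (z : G) : Prop := ∀ t, IsConj z t → t * z = z * t → t ∉ O2C z → ∃ s, FP z s ∧ t ∈ O2C s

theorem Ac.map_conj (h : Ac z ψ g M) (c : G) :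
    Ac (c * z * c⁻¹) (fun v => c * ψ v * c⁻¹) (c * g * c⁻¹) M :=
  ⟨(comm_conj_iff c _ _).2 h.1, fun v hv => ⟨(h.2 v hv).1, by
    beta_reduce
    rcases (h.2 v hv).2 with e | e
    · exact Or.inl (by rw [← e]; group)
    · exact Or.inr (by rw [@conj_mul _ _ (ψ _) c z, ← e]; group)⟩⟩

theorem eqv_cj (c : G) {x y : G} : Eqv (c * z * c⁻¹) (c * x * c⁻¹) (c * y * c⁻¹) ↔ Eqv z x y := by
  unfold Eqv
  rw [conj_mul, mul_left_inj, mul_left_inj, mul_right_inj, mul_right_inj]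

theorem Cs.map_conj (h : Cs z ψ d) (c : G) : Cs (c * z * c⁻¹) (fun v => c * ψ v * c⁻¹) d := by
  have k (x : G) : ∃ y, x = c * y * c⁻¹ := ⟨c⁻¹ * x * c, by group⟩
  have m {x y : G} : c * x * c⁻¹ ∈ O2C (c * y * c⁻¹) ↔ x ∈ O2C y := by
    rw [mem_O2C_conj]; simp [mul_assoc]
  refine ⟨⟨h.xh.of_isConj (isConj_cj c z), fun v => m.2 (h.mem v), fun v hv w hw => ?_, fun x hx => ?_,
    fun v hv w hw e => h.inj v hv w hw ((eqv_cj c).1 e), fun v hv => ?_, fun v hv w hw => ?_⟩,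
    fun v hv => ?_, fun i hi => ?_, fun x hx e => ?_, fun v hv => m.trans (h.aL v hv),
    fun p hp => ?_, fun g e f => ?_⟩
  · rw [conj_mul]; exact (eqv_cj c).2 (h.add v hv w hw)
  · obtain ⟨x, rfl⟩ := k x
    exact (h.onto x (m.1 hx)).imp fun v e => ⟨e.1, (eqv_cj c).2 e.2⟩
  · rw [conj_mul, conj_eq_one_iff]; exact h.sq v hv
  · exact (comm_conj_iff c _ _).trans (h.comm v hv w hw)
  · refine Iff.trans ⟨fun e => ?_, fun e => e.map_conj c⟩ (h.om v hv)
    simpa [mul_assoc] using e.map_conj c⁻¹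
  · obtain ⟨x, a, e⟩ := h.aA i hi
    exact ⟨_, m.2 a, e.map_conj c⟩
  · obtain ⟨x, rfl⟩ := k x
    exact (h.aA' x (m.1 hx) ((comm_conj_iff c _ _).1 e)).imp fun i e => ⟨e.1, e.2.map_conj c⟩
  · obtain ⟨x, a, e⟩ := h.gs p hp
    exact ⟨_, m.2 a, e.map_conj c⟩
  · obtain ⟨g, rfl⟩ := k g
    refine (h.na g ((comm_conj_iff c _ _).1 e) ((eqv_cj c).1 ?_)).imp fun i e => ⟨e.1, e.2.map_conj c⟩
    convert f using 1
    group

theorem Cs.of_isConj (h : Cs z ψ d) {t : G} (e : IsConj z t) : ∃ φ, Cs t φ d := by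
  obtain ⟨c, rfl⟩ := isConj_iff.1 e
  exact ⟨_, h.map_conj c⟩

theorem ev_mem {ρ : ℕ → G} {K : Subgroup G} (h : ∀ k, ρ k ∈ K) (W : List ℕ) : ev ρ W ∈ K := by
  induction W with
  | nil => exact one_mem _
  | cons k V ih => rw [ev_cons]; exact mul_mem (h k) ih

/-- the number of points is odd -/
def Dt.odd (d : Dt) : Prop := ¬ 2 ∣ Fintype.card {v : Fin 256 // d.om.testBit v = true}

theorem odd27 : d27.odd := by unfold Dt.odd; decide +kernel
theorem odd81 : d81.odd := by unfold Dt.odd; decide +kernel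
theorem odd9 : d9.odd := by unfold Dt.odd; decide +kernel
theorem odd135 : d135.odd := by unfold Dt.odd; decide +kernel
theorem odd75 : d75.odd := by unfold Dt.odd; decide +kernel
theorem odd15 : d15.odd := by unfold Dt.odd; decide +kernel

namespace Cs

variable [Finite G] (h : Cs z ψ d) (ok : d.ok = true)
include h ok

/-- `C0` is generated by `Q` and any lifts of the letters -/
theorem C0_le_of {ρ : ℕ → G} (hρ : ∀ k, Ac z ψ (ρ k) (d.ls k)) {K : Subgroup G} (hQ : O2C z ≤ K)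
    (hK : ∀ k, ρ k ∈ K) : C0 z ≤ K := by
  refine sup_le hQ ((closure_le _).2 ?_)
  rintro x ⟨hx, s, k, m⟩
  obtain ⟨e, -, c⟩ := h.trans ok hρ k
  have a := h.ac_word hρ e.2
  have k' := (h.fp ok).cj a.1
  obtain ⟨p, hp, rfl⟩ := exists_conj_of_eqv h.xs k'.mem k'.t_ne k'.ne (c.symm h.zz)
  rw [mem_O2C_conj, mem_O2C_conj] at m
  have pz := h.xs.z_comm p hp
  obtain ⟨i, hi, f⟩ := h.aA' _ m (comm_mul_left (comm_mul_left (comm_inv_left a.1)
    (comm_mul_left (comm_mul_left (comm_inv_left pz) hx) pz)) a.1)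
  have : ∃ y ∈ K, Ac z ψ y (tr i) := by
    have t : ∀ i < 8, eq8 (tr i) (mw (nth i8 [tr 1, tr 2, tr 4]) (nth [] [[], [0], [1], [0, 1], [2],
      [0, 2], [1, 2], [0, 1, 2]] i)) = true := by decide +kernel
    let σ : ℕ → G := fun k => if k < 3 then ρ k else 1
    refine ⟨ev σ _, ev_mem (fun k => ?_) _, (h.ac_word (ρ := σ) (fun k => ?_) _).of_eq8 (t i hi)⟩
    · unfold σ; split_ifs; exacts [hK k, one_mem _]
    · rcases k with _ | _ | _ | k
      exacts [hρ 0, hρ 1, hρ 2, h.ac_of_mem (one_mem _)]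
  obtain ⟨y, hy, g⟩ := this
  have w := ev_mem hK e.2
  have := mul_mem (mul_mem (hQ hp) (mul_mem (mul_mem w (mul_mem hy (hQ (h.inv_mul_mem g f))))
    (inv_mem w))) (inv_mem (hQ hp))
  rwa [show p * (ev ρ e.2 * (y * (y⁻¹ * ((ev ρ e.2)⁻¹ * (p⁻¹ * x * p) * ev ρ e.2))) * (ev ρ e.2)⁻¹) *
    p⁻¹ = x by group] at this

/-- the elements of `C0` act as words in the letters -/
theorem mem_C0 : g ∈ C0 z ↔ ∃ W, Ac z ψ g (mw d.ls W) := by
  obtain ⟨ρ, hρ⟩ := h.exists_ls ok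
  have a := fun k => (hρ k).2
  refine ⟨fun m => ?_, fun ⟨W, e⟩ => ?_⟩
  · let K : Submonoid G :=
      { carrier := {g | ∃ W, (ev ρ W)⁻¹ * g ∈ O2C z}
        one_mem' := ⟨[], by simp [ev]⟩
        mul_mem' := fun {x y} ⟨U, a1⟩ ⟨W, a2⟩ => ⟨U ++ W, by
          have := mul_mem (h.xh.lx.norm _ (comm_inv_left (h.ac_word a W).1) _ a1) a2
          rw [Comp.BN.ev_append]
          convert this using 1
          group⟩ }
    have i : ∀ {x}, x ∈ K → x⁻¹ ∈ K := fun {x} hx => by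
      have e : x ^ (orderOf x - 1) * x = 1 := by
        rw [← pow_succ, Nat.sub_add_cancel (orderOf_pos x), pow_orderOf_eq_one]
      exact eq_inv_of_mul_eq_one_left e ▸ K.pow_mem hx _
    obtain ⟨W, e⟩ := h.C0_le_of ok a (K := ⟨K, i⟩) (fun x hx => ⟨[], by simpa [ev] using hx⟩)
      (fun k => ⟨[k], by simp [ev]⟩) m
    have := h.ac_mul (h.ac_word a W) (h.ac_of_mem e)
    rw [mul_inv_cancel_left] at this
    exact ⟨W, this.congr fun v hv => by rw [app_mm _ _ (l12 hv), app_i8 v hv]⟩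
  · have := mul_mem (ev_mem (fun k => (hρ k).1) W)
      (mem_sup_left (h.inv_mul_mem (h.ac_word a W) e) : _ ∈ C0 z)
    rwa [mul_inv_cancel_left] at this

/-- a `2`-subgroup of `C(z)` is conjugate under `C0` into the stabiliser of `255` -/
theorem exists_fix (od : d.odd) {P : Subgroup G} (hP : IsPGroup 2 P) (le : P ≤ centralizer {z}) :
    ∃ c ∈ C0 z, ∀ g ∈ P, ∃ M ∈ d.na, Ac z ψ (c⁻¹ * g * c) M := by
  have := Fact.mk Nat.prime_two
  choose m hm using fun g : P => h.exists_ac (mem_c.1 (le g.2))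
  let _ : MulAction P {v : Fin 256 // d.om.testBit v = true} :=
    { smul := fun g v => ⟨⟨app (m g) v.1, ((hm g).2 _ v.1.2).1⟩, (h.om _ ((hm g).2 _ v.1.2).1).1
        ((h.fp_iff ((hm g).2 _ v.1.2).2).1 (((h.om _ v.1.2).2 v.2).cj (hm g).1))⟩
      one_smul := fun v => Subtype.ext (Fin.ext ((h.ac_unique (hm 1) (h.ac_of_mem (one_mem _))
        v.1.2).trans (app_i8 _ v.1.2)))
      mul_smul := fun a b v => Subtype.ext (Fin.ext ((h.ac_unique (hm _) (h.ac_mul (hm a) (hm b))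
        v.1.2).trans (app_mm _ _ (l12 v.1.2)))) }
  obtain ⟨v, hv⟩ := hP.nonempty_fixed_point_of_prime_not_dvd_card
    {v : Fin 256 // d.om.testBit v = true} (by rw [Nat.card_eq_fintype_card]; exact od)
  obtain ⟨ρ, hρ⟩ := h.exists_ls ok
  obtain ⟨e, -, c⟩ := h.trans ok (fun k => (hρ k).2) ((h.om _ v.1.2).2 v.2)
  have a := (h.ac_word (fun k => (hρ k).2) e.2).1
  refine ⟨_, ev_mem (fun k => (hρ k).1) e.2, fun g hg => h.na _
    (comm_mul_left (comm_mul_left (comm_inv_left a) (mem_c.1 (le hg))) a) ?_⟩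
  have f := ((hm ⟨g, hg⟩).2 _ v.1.2).2
  rw [show app (m ⟨g, hg⟩) v.1 = v.1 from congrArg (·.1.1) (hv ⟨g, hg⟩)] at f
  have := (((c.conj (mem_c.1 (le hg))).trans h.zz f).trans h.zz (c.symm h.zz)).conj (comm_inv_left a)
  simpa [mul_assoc] using this

end Cs

end Cfsg.Agent.X9
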