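import Cfsg.Agent.X9.K1B
import Cfsg.Agent.S1718

/-! Rank one: the first Conway group. -/

set_option autoImplicit false

namespace Cfsg.Agent.X9

open Subgroup Cfsg.Agent.TT Cfsg.Agent.LES Cfsg.Agent.XSC Cfsg.Agent.XSC.WC Cfsg.Agent.XW
  Cfsg.Agent.U6R Cfsg.Agent.Class.Orth QuadraticMap Module
open Cfsg.Agent.X7 (mem_c eqv_one_iff_mem z2 refl_two eq_of_perp1 eich_two exists_not_mem_list)

variable {G : Type*} [Group G] [Finite G] {z t : G}
  {V : Type} [AddCommGroup V] [Module (ZMod 2) V] {q : QuadraticForm (ZMod 2) V}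
  {π : G → V} {r : centralizer ({z} : Set G) →* OG q}

/-- a standard basis of the minus space -/
structure Mn (q : QuadraticForm (ZMod 2) V) (a b w a' b' w' i j : V) : Prop where
  qa : q a = 0
  qb : q b = 0
  qw : q w = 0
  qa' : q a' = 0
  qb' : q b' = 0
  qw' : q w' = 0
  qi : q i = 1
  qj : q j = 1
  ab : polar q a b = 0
  aw : polar q a w = 0
  bw : polar q b w = 0
  ai : polar q a i = 0
  aj : polar q a j = 0
  bi : polar q b i = 0
  bj : polar q b j = 0
  wi : polar q w i = 0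
  wj : polar q w j = 0
  ij : polar q i j = 1
  aa' : polar q a a' = 1
  ab' : polar q a b' = 0
  aw' : polar q a w' = 0
  ba' : polar q b a' = 0
  bb' : polar q b b' = 1
  bw' : polar q b w' = 0
  wa' : polar q w a' = 0
  wb' : polar q w b' = 0
  ww' : polar q w w' = 1
  ia' : polar q i a' = 0
  ib' : polar q i b' = 0
  iw' : polar q i w' = 0
  ja' : polar q j a' = 0
  jb' : polar q j b' = 0
  jw' : polar q j w' = 0
  span : ∀ v, v = polar q a' v • a + polar q b' v • b + polar q w' v • w + polar q a v • a' +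
    polar q b v • b' + polar q w v • w' + polar q j v • i + polar q i v • j

theorem mn_model : ∃ a b w a' b' w' i j, Mn (LinearMap.BilinMap.toQuadraticMap (bMinus 3))
    a b w a' b' w' i j := by
  refine ⟨Pi.single (.inl (.inl 0)) 1, Pi.single (.inl (.inl 1)) 1, Pi.single (.inl (.inl 2)) 1,
    Pi.single (.inl (.inr 0)) 1, Pi.single (.inl (.inr 1)) 1, Pi.single (.inl (.inr 2)) 1,
    Pi.single (.inr 0) 1, Pi.single (.inr 1) 1, ?_⟩
  constructor
  case span =>
    intro v
    ext k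
    rcases k with (k | k) | k <;> fin_cases k <;>
      simp [LinearMap.BilinMap.polar_toQuadraticMap, bMinus_apply, Fin.sum_univ_three, Pi.single_apply] <;>
      generalize v _ = x <;> generalize v _ = y <;> revert x y <;> decide
  all_goals
    simp only [LinearMap.BilinMap.polar_toQuadraticMap, LinearMap.BilinMap.toQuadraticMap_apply,
      bMinus_apply]
    decide

theorem Mn.eight {a b w a' b' w' i j : V} (m : Mn q a b w a' b' w' i j) {T S : OG q}
    (hT : T.1 a = a ∧ T.1 b = b ∧ T.1 w = w ∧ T.1 i = i ∧ T.1 j = j)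
    (hS : S.1 a = a ∧ S.1 b = b ∧ S.1 w = w ∧ S.1 i = i ∧ S.1 j = j)
    (h1 : polar q b' (T.1 a') = polar q b' (S.1 a')) (h2 : polar q w' (T.1 a') = polar q w' (S.1 a'))
    (h3 : polar q w' (T.1 b') = polar q w' (S.1 b')) : T = S := by
  have key : ∀ T : OG q, T.1 a = a ∧ T.1 b = b ∧ T.1 w = w ∧ T.1 i = i ∧ T.1 j = j →
      T.1 a' = polar q b' (T.1 a') • b + polar q w' (T.1 a') • w + a' ∧
      T.1 b' = polar q b' (T.1 a') • a + polar q w' (T.1 b') • w + b' ∧
      T.1 w' = polar q w' (T.1 a') • a + polar q w' (T.1 b') • b + w' := fun T ⟨ta, tb, tw, ti, tj⟩ => by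
    have fx : ∀ {u}, T.1 u = u → ∀ v, polar q u (T.1 v) = polar q u v := fun e v => by
      rw [← OG.map_polar T _ v, e]
    have sp : ∀ v, T.1 v = polar q a' (T.1 v) • a + polar q b' (T.1 v) • b + polar q w' (T.1 v) • w +
        (polar q a v • a' + polar q b v • b' + polar q w v • w' + polar q j v • i + polar q i v • j) :=
      fun v => by
        conv_lhs => rw [m.span (T.1 v), fx ta, fx tb, fx tw, fx ti, fx tj]
        abel
    have iv : ∀ v, T.1 (T.1 v) = v := fun v => by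
      have e1 := sp v
      have e2 := m.span v
      rw [add_assoc, add_assoc, add_assoc, add_assoc, ← add_assoc (_ • a'), ← add_assoc (_ • a' + _),
        ← add_assoc (_ • a' + _ + _)] at e2
      generalize polar q a v • a' + polar q b v • b' + polar q w v • w' + polar q j v • i +
        polar q i v • j = n at e1 e2
      have e3 : T.1 v + v = (polar q a' (T.1 v) + polar q a' v) • a + (polar q b' (T.1 v) + polar q b' v) • b +
          (polar q w' (T.1 v) + polar q w' v) • w := by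
        rw [← two_add_add' (_ + _ • w) n]
        conv_lhs => rw [e1]; congr; rfl; rw [e2]
        simp only [add_smul]; abel
      have e4 : T.1 (T.1 v + v) = T.1 v + v := by
        rw [e3]; simp only [map_add, map_smul, ta, tb, tw]
      rw [map_add, add_comm (T.1 v)] at e4
      exact add_right_cancel e4
    have sw : ∀ u v, polar q u (T.1 v) = polar q v (T.1 u) := fun u v => by
      rw [← OG.map_polar T u, iv, polar_comm]
    have dg : ∀ v, q v = 0 → polar q v (T.1 v) = q (v + T.1 v) := fun v hv => by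
      rw [Q_add, OG.map_Q, hv, zero_add, zero_add]
    have qW : ∀ c d e : ZMod 2, q (c • a + d • b + e • w) = 0 := fun c d e => by
      simp [Q_add, QuadraticMap.map_smul, m.qa, m.qb, m.qw, polar_add_left, polar_smul_left,
        polar_smul_right, m.ab, m.aw, m.bw]
    have s1 := sp a'
    have s2 := sp b'
    have s3 := sp w'
    simp only [m.aa', m.ab', m.aw', m.ba', m.bb', m.bw', m.wa', m.wb', m.ww', m.ia', m.ib', m.iw',
      m.ja', m.jb', m.jw', zero_smul, one_smul, add_zero, zero_add] at s1 s2 s3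
    have d1 := dg a' m.qa'
    have d2 := dg b' m.qb'
    have d3 := dg w' m.qw'
    conv_rhs at d1 => rw [s1, add_comm a', two_add_add', qW]
    conv_rhs at d2 => rw [s2, add_comm b', two_add_add', qW]
    conv_rhs at d3 => rw [s3, add_comm w', two_add_add', qW]
    rw [d1, zero_smul, zero_add] at s1
    rw [d2, zero_smul, add_zero, sw a' b'] at s2
    rw [d3, zero_smul, add_zero, sw a' w', sw b' w'] at s3
    exact ⟨s1, s2, s3⟩
  obtain ⟨a1, a2, a3⟩ := key T hT
  obtain ⟨b1, b2, b3⟩ := key S hS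
  rw [h1, h2] at a1
  rw [h1, h3] at a2
  rw [h2, h3] at a3
  refine OG.ext fun v => ?_
  rw [m.span v]
  simp only [map_add, map_smul, hT.1, hT.2.1, hT.2.2.1, hT.2.2.2.1, hT.2.2.2.2, hS.1, hS.2.1,
    hS.2.2.1, hS.2.2.2.1, hS.2.2.2.2, a1.trans b1.symm, a2.trans b2.symm, a3.trans b3.symm]

theorem E9.lemN (h : E9 z) (o : OS z (O2C z) q π r) {a b w i j : G} {a' b' w' : V}
    (m : Mn q (π a) (π b) (π w) a' b' w' (π i) (π j)) (ha : a ∈ O2C z) (hb : b ∈ O2C z)
    (hw : w ∈ O2C z) (hi : i ∈ O2C z) (hj : j ∈ O2C z) {d : G} (hd : IsConj z d) (dz : d * z = z * d)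
    (dQ : d ∉ O2C z) (da : d * a = a * d) (db : d * b = b * d) (dw : d * w = w * d)
    (di : d * i = i * d) (dj : d * j = j * d) : ∃ c, FP z c ∧ d ∈ O2C c := by
  by_contra n
  have h' := h.of_isConj hd
  have zd : z ≠ d := fun e => dQ (e ▸ h.1.xs.z_mem)
  have zn : z ∉ O2C d := fun e => dQ (FP.z_mem ⟨h'.1, hd.symm, e, zd⟩)
  have d0 : ∀ c ∈ O2C z, c ∈ O2C d → c = 1 := fun c h1 h2 => by
    by_contra c1
    have c2 : c * c = 1 := (h.1.xs.sq h1).resolve_right fun e => zn (e ▸ mul_mem h2 h2)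
    exact n ⟨c, h.fp h1 c2 c1 fun e => zn (e ▸ h2),
      (h'.fp h2 c2 c1 fun e => dQ (e ▸ h1)).z_mem⟩
  have h16 := sixteen_le' ⟨h'.1.lx, h.1.zz, dz.symm, zn⟩ h'.1.card
  let ι : (O2C d ⊓ centralizer {z} : Subgroup G) → centralizer ({z} : Set G) := fun g => ⟨g, g.2.2⟩
  have fx : ∀ (g : (O2C d ⊓ centralizer {z} : Subgroup G)) {p}, p ∈ O2C z → d * p = p * d →
      (r (ι g)).1 (π p) = π p := fun g p hp e => o.fix_of_commute (ι g) hp (dd_eq_one.1
    (d0 _ (dd_mem h.1.lx (mem_c.1 g.2.2) hp) (dd_inv_swap p g.1 ▸ inv_mem (dd_mem h'.1.lx e.symm g.2.1))))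
  have := Nat.card_le_card_of_injective (fun g => (polar q b' ((r (ι g)).1 a'),
    polar q w' ((r (ι g)).1 a'), polar q w' ((r (ι g)).1 b'))) fun g k e => by
      simp only [Prod.mk.injEq] at e
      have e1 := m.eight ⟨fx g ha da, fx g hb db, fx g hw dw, fx g hi di, fx g hj dj⟩
        ⟨fx k ha da, fx k hb db, fx k hw dw, fx k hi di, fx k hj dj⟩ e.1 e.2.1 e.2.2
      have e2 := (o.r_eq_one_iff ((ι g)⁻¹ * ι k)).1 (by rw [map_mul, map_inv, e1, inv_mul_cancel])
      exact Subtype.ext (inv_mul_eq_one.1 (d0 _ e2 (mul_mem (inv_mem g.2.1) k.2.1)))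
  simp only [Nat.card_prod, Nat.card_zmod] at this
  omega

theorem E9.minus (h : E9 z) (o : OS z (O2C z) q π r) (le : commutator (OG q) ≤ r.range)
    {a b w a' b' w' i j : V} (m : Mn q a b w a' b' w' i j) : False := by
  obtain ⟨a, ha, rfl⟩ := o.surj a
  obtain ⟨b, hb, rfl⟩ := o.surj b
  obtain ⟨w, hw, rfl⟩ := o.surj w
  obtain ⟨a', ha', rfl⟩ := o.surj a'
  obtain ⟨b', hb', rfl⟩ := o.surj b'
  obtain ⟨w', hw', rfl⟩ := o.surj w'
  obtain ⟨i, hi, rfl⟩ := o.surj i
  obtain ⟨j, hj, rfl⟩ := o.surj j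
  have X := h.1.xs
  have cm : ∀ {x y}, x ∈ O2C z → y ∈ O2C z → polar q (π x) (π y) = 0 → y * x = x * y :=
    fun hx hy e => ((o.comm _ hx _ hy).2 e).symm
  have nc : ∀ {x y}, x ∈ O2C z → y ∈ O2C z → polar q (π x) (π y) = 1 → y * x ≠ x * y :=
    fun hx hy e c => zero_ne_one (((o.comm _ hx _ hy).1 c.symm).symm.trans e)
  have a2 := (o.sq a ha).2 m.qa
  obtain ⟨t, c1, c2, tz, ta, tb, tw, tQ, P1, P2, P3⟩ := h.exists_t ha hb hw ha' hb' hw' a2
    ((o.sq b hb).2 m.qb) ((o.sq w hw).2 m.qw) (cm ha hb m.ab) (cm ha hw m.aw) (cm hb hw m.bw)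
    (nc ha ha' m.aa') (cm ha hb' m.ab') (nc hb hb' m.bb') (cm hw hb' m.wb') (cm ha hw' m.aw')
    (cm hb hw' m.bw') (nc hw hw' m.ww')
  let t' : centralizer ({z} : Set G) := ⟨t, mem_c.2 tz⟩
  have a0 : π a ≠ 0 := fun e => by simpa [e] using m.aa'
  have az := X.z_comm a ha
  obtain ⟨ti, tj⟩ : t * i = i * t ∧ t * j = j * t := by
    obtain ⟨g, hg⟩ := le (commutator_mem_commutator (mem_top (refl q (π i))) (mem_top (refl q (π j))))
    rw [commutatorElement_def, refl_inv, refl_inv] at hg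
    have gx : ∀ {x}, x ∈ O2C z → polar q (π x) (π i) = 0 → polar q (π x) (π j) = 0 →
        (r g).1 (π x) = π x ∧ g.1 * g * x = x * (g.1 * g) := fun {x} hx e1 e2 => by
      have e3 : (r g).1 (π x) = π x := by
        simp only [hg, OG.mul_apply, refl_apply_of_polar_eq_zero e1, refl_apply_of_polar_eq_zero e2]
      refine ⟨e3, comm_of_conj_eq ?_⟩
      rw [show g.1 * g * x * (g.1 * g)⁻¹ = g * (g * x * g.1⁻¹) * g.1⁻¹ by group]
      rcases o.eqv_of_fix g hx e3 with e | e <;> rw [e]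
      · exact e
      · rw [← conj_mul, e, conj_eq_of_comm (mem_c.1 g.2), X.mul_z_z]
    have ji := (polar_comm _ _ _).trans m.ij
    have r1 : (refl q (π i)).1 (π i) = π i := refl_apply_of_polar_eq_zero (polar_two_self _ _)
    have r2 : (refl q (π j)).1 (π j) = π j := refl_apply_of_polar_eq_zero (polar_two_self _ _)
    have r3 : (refl q (π i)).1 (π j) = π j + π i := by rw [refl_two m.qi, ji, one_smul]
    have r4 : (refl q (π j)).1 (π i) = π i + π j := by rw [refl_two m.qj, m.ij, one_smul]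
    have gi : (r g).1 (π i) = π i + π j := by
      rw [hg, OG.mul_apply, OG.mul_apply, OG.mul_apply, r4, map_add, r1, r3, add_comm (π j),
        two_add_add, r2, r3, add_comm]
    have gj : (r g).1 (π j) = π i := by
      rw [hg, OG.mul_apply, OG.mul_apply, OG.mul_apply, r2, r3, map_add, r2, r4, add_comm (π i),
        two_add_add, r1]
    have cK : r t' * r (g * g * (g * g) * (g * g * (g * g))) = r (g * g * (g * g) * (g * g * (g * g))) * r t' := by
      rw [← map_mul, ← map_mul]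
      exact congrArg r (Subtype.ext (P2 (g.1 * g) (mem_c.1 (g * g).2) (gx ha m.ai m.aj).2
        (gx hb m.bi m.bj).2 (gx hw m.wi m.wj).2).symm)
    have Ka : (r (g * g * (g * g) * (g * g * (g * g)))).1 (π a) = π a := by
      simp only [map_mul, OG.mul_apply, (gx ha m.ai m.aj).1]
    have Ki : (r (g * g * (g * g) * (g * g * (g * g)))).1 (π i) = π j := by
      simp [gi, gj, two_add_add, two_add_add', add_comm, two_add_self]
    have Kj : (r (g * g * (g * g) * (g * g * (g * g)))).1 (π j) = π i + π j := by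
      simp [gi, gj, two_add_add, two_add_add', add_comm, two_add_self]
    generalize r (g * g * (g * g) * (g * g * (g * g))) = K at cK Ka Ki Kj
    have e1 := congrArg (fun T : OG q => T.1 (π i)) cK
    have e2 := congrArg (fun T : OG q => T.1 (π j)) cK
    simp only [OG.mul_apply, Ki, Kj, map_add] at e1 e2
    have act : ∀ {x}, x ∈ O2C z → Eqv a (t * x * t⁻¹) x →
        t * x = x * t ∧ (r t').1 (π x) = π x ∨ (r t').1 (π x) = π x + π a := fun {x} hx e => by
      rcases e with e | e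
      · exact Or.inl ⟨comm_of_conj_eq e, o.fix_of_commute t' hx (comm_of_conj_eq e)⟩
      · exact Or.inr (by rw [← o.act t' x hx, ← o.add x hx a ha]; exact congrArg π e)
    rcases act hi (P1 i hi (cm ha hi m.ai) (cm hb hi m.bi) (cm hw hi m.wi)) with f | f <;>
      rcases act hj (P1 j hj (cm ha hj m.aj) (cm hb hj m.bj) (cm hw hj m.wj)) with f' | f'
    · exact ⟨f.1, f'.1⟩
    · rw [f.2, f', Ki, add_eq_left] at e1
      exact absurd e1 a0
    · rw [f, f'.2, map_add, Ki, Ka, left_eq_add] at e1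
      exact absurd e1 a0
    · rw [f, f', map_add, Kj, Ka, add_add_add_comm, two_add_self, add_zero, left_eq_add] at e2
      exact absurd e2 a0
  obtain ⟨c, k, tc⟩ := h.lemN o m ha hb hw hi hj c1 tz tQ ta tb tw ti tj
  have taQ : t * a ∉ O2C z := fun e => tQ ((mul_mem_cancel_right ha).1 e)
  obtain ⟨c', k', tc'⟩ := h.lemN o m ha hb hw hi hj c2 (comm_mul_left tz az) taQ (comm_mul_left ta rfl)
    (comm_mul_left tb (cm ha hb m.ab).symm) (comm_mul_left tw (cm ha hw m.aw).symm)
    (comm_mul_left ti (cm ha hi m.ai).symm) (comm_mul_left tj (cm ha hj m.aj).symm)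
  obtain ⟨y, hy, n⟩ := k.exists_y
  have eT := k.eich o (h.small k) (c := t') tc hy n
  have ce := k.pol_dd o tc tz hy
  have qc := k.qT o
  generalize π (dd t y) = e at eT ce
  replace eT : r t' = eichler q (π c) e := eT
  have : Finite V := Nat.finite_of_card_ne_zero (by have := o.card_V; rw [h.1.card] at this; omega)
  have hm : π a ∈ Submodule.span (ZMod 2) {π c, e} := by
    by_contra n
    obtain ⟨v, v1, v2⟩ := X7.exists_dual o.nd n
    obtain ⟨p, hp, rfl⟩ := o.surj v
    have f1 := o.eqv_of_fix t' hp (by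
      rw [eT, eichler_apply_of_perp_perp (v2 _ (Submodule.subset_span (by simp)))
        (v2 _ (Submodule.subset_span (by simp)))])
    have f2 := h.lemK k tc tz tQ hp (by
      simpa [dd] using f1.mul_right (comm_inv_left (X.z_comm p hp)))
    have f3 := h.lemK k' tc' (comm_mul_left tz az) taQ hp (by
      rw [dd_mul_left, dd_eq_one.2 f2, mul_one]
      simpa using (dd_of_mem h.1.lx ha hp).conj tz)
    rw [mul_assoc, ← mul_assoc p, ← f2, mul_assoc, mul_right_inj] at f3
    exact v1 ((o.comm p hp a ha).1 f3.symm)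
  have ka := h.fp ha a2 (fun c => a0 (c ▸ o.pi_one)) fun c => a0 (c ▸ o.pi_z)
  refine P3 fun u hu ua => ?_
  have m1 := h.1.lx.norm t tz u hu
  rw [ka.pi_inV o (mul_mem (inv_mem hu) m1), o.add _ (inv_mem hu) _ m1, o.pi_inv hu, o.act t' u hu, eT,
    eich_two qc ce, add_assoc, two_add_add]
  have ua' := (o.comm u hu a ha).1 ua
  have qa := m.qa
  rcases X7.mem_pair.1 hm with f | f | f | f
  · exact absurd f a0
  · rw [f] at ua' ⊢
    rw [ua', mul_zero, add_zero, zero_smul, add_zero]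
    rcases z2 (polar q (π u) e) with d | d <;> simp [d]
  · rw [f] at ua' qa ⊢
    rw [ua', qa, zero_mul, add_zero, zero_smul, zero_add]
    rcases z2 (polar q (π u) (π c)) with d | d <;> simp [d]
  · rw [f] at ua' qa ⊢
    rw [Q_add, qc, ce, zero_add, add_zero] at qa
    rw [polar_add_right] at ua'
    rw [qa, zero_mul, add_zero, ← two_eq_of_add ua']
    rcases z2 (polar q (π u) (π c)) with d | d <;> simp [d]

theorem FP.co1 [IsSimpleGroup G] (k : FP z t) (hi : Irr z)
    (h0 : ∀ x ∈ O2C z, x ∈ O2C t → InV z t x) : Cfsg.Spor.IsoCo1 G := by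
  obtain ⟨c, hc, n⟩ : ∃ c, c * z = z * c ∧ c * t * c⁻¹ * t ≠ t * (c * t * c⁻¹) := by
    obtain ⟨V, _, _, q, π, r, o⟩ := exists_OS k.lx (n := 4) k.xh.card
    obtain ⟨γ, l⟩ := k.exists_geo o hi
    obtain ⟨g, hg, e⟩ := Geo.exists_nonperp ((l.hΩ _).2 ⟨t, k, rfl⟩)
    rw [l.hH] at hg
    obtain ⟨c, rfl⟩ := hg
    refine ⟨c, mem_c.1 c.2, fun m => ?_⟩
    rw [← o.act c t k.mem, (o.comm _ k.mem _ (k.cj (mem_c.1 c.2)).mem).1 m.symm] at e
    exact zero_ne_one e
  obtain ⟨-, ⟨⟨e⟩⟩ | ⟨⟨e⟩⟩⟩ := exists_equiv_plus_or_minus k.xs.isExtraspecial (n := 4) k.xh.card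
  · obtain ⟨π, r, o⟩ := exists_OS_aux k.lx (xs_plus (by decide)) e
    have le := k.comm_le o h0 hc n
    have h6 := k.xh.finrank_eight o
    have hi := o.nd.index_commutator_eq_two rfl (by omega) (Or.inr (by omega))
    have h1 : r.range.index = 2 :=
      ((Nat.dvd_prime Nat.prime_two).1 ((index_dvd_of_le le).trans hi.dvd)).resolve_left
        fun e => k.not_surj o (MonoidHom.range_eq_top.1 (index_eq_one.1 e))
    have h2 := S0287.result (F := ZMod 2) (q := 2) (by simp) 4 (by omega)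
    rw [← bPlus_quad, Nat.card_congr (isoEquiv _ _ (LinearMap.BilinMap.toQuadraticMap_apply _)).toEquiv,
      ← r.range.card_mul_index, h1] at h2
    have h3 : r.ker = (O2C z).subgroupOf _ := Subgroup.ext o.r_eq_one_iff
    have h4 := r.ker.card_mul_index
    rw [index_ker, h3, Nat.card_congr (subgroupOfEquivOfLe fun x hx =>
      mem_c.2 (k.xs.z_comm x hx)).toEquiv, k.xh.card] at h4
    replace h2 : Nat.card r.range * 2 = 348364800 := h2.trans (by decide)
    have hC : Nat.card (centralizer ({z} : Set G)) = 89181388800 := by omega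
    obtain ⟨g, rfl⟩ := isConj_iff.1 k.conj
    clear h1 h2 h3 h4 hi h6 le o
    obtain ⟨t, ht⟩ := XSC.CoU.stB k.lx k.xh.card hC k.mem k.ne
    obtain ⟨t, ht⟩ := XSC.CoU.stA (XSC.CoU.stW ht)
    obtain ⟨θ, h1, z0, rfl, h2⟩ := XSC.CoU.final (XSC.CoU.stK (XSC.CoU.stU ht))
    exact ⟨(MulEquiv.ofBijective θ ⟨h1, XSC.co1_surj θ h1 z0
      (by rw [← orderOf_injective θ h1]; exact k.xs.orderOf_z) h2 hC⟩).symm⟩
  · obtain ⟨π, r, o⟩ := exists_OS_aux k.lx (xs_minus _) e
    have le := k.comm_le o h0 hc n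
    have h6 := k.xh.finrank_eight o
    obtain ⟨a, b, w, a', b', w', i, j, m⟩ := mn_model
    refine (E9.minus ⟨k.xh, fun s hs s2 s1 sz => ?_⟩ o le m).elim
    obtain ⟨f, hf⟩ := o.nd.exists_isHyp (k.T0 o) (k.qT o)
    have le' := (o.nd.commutator_eq_EG_of_five_le (by omega)).ge.trans le
    obtain ⟨_, ⟨g, rfl⟩, u, u0, m⟩ := o.nd.exists_map_singular_smul hf (by omega) _
      (fun v => le' (eichler_mem_EG _ _)) (fun v => le' (eichler_mem_EG _ _))
      (fun e => ((o.ker s hs).1 e).elim s1 sz) ((o.sq s hs).1 s2)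
    rw [z2_ne.1 u0, one_smul] at m
    have ks : FP z s := (k.cj (mem_c.1 g⁻¹.2)).of_eqv (o.eqv_of_pi hs (k.cj (mem_c.1 g⁻¹.2)).mem
      (by rw [o.act g⁻¹ t k.mem, map_inv, eq_comm, OG.inv_apply_eq_iff, m]))
    refine ⟨ks.conj, fun x h1 h2 => ?_⟩
    have m1 := k.lx.norm g (mem_c.1 g.2) x h1
    have := (k.pi_inV o m1).1 (h0 _ m1 (ks.E_map o k g m h1 h2))
    rwa [o.act g x h1, ← m, (r g).1.injective.eq_iff, map_eq_zero_iff _ (r g).1.injective,
      ← ks.pi_inV o h1] at this

end Cfsg.Agent.X9
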