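import Cfsg.Agent.X9.KY

/-! `L p` does not have rank two or three. -/

set_option autoImplicit false

namespace Cfsg.Agent.X9

open Subgroup Cfsg.Agent.TT Cfsg.Agent.LES Cfsg.Agent.XSC Cfsg.Agent.XSC.WC Cfsg.Agent.XW
  Cfsg.Agent.U6R Cfsg.Agent.Class.Orth QuadraticMap Module
open Cfsg.Agent.X7 (mem_c eqv_one_iff_mem z2 eich_two)

variable {V : Type} [AddCommGroup V] [Module (ZMod 2) V] {q : QuadraticForm (ZMod 2) V}

/-- Let `k = rank (L p) ∈ {2,3}`; all `x ∈ p^H` have rank `k` (`rank_map`) and `T0 x` (`T0_of_le`), so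
`g ∈ A x` is the Eichler map `ρ_{x,y} : v ↦ v + b(x,v) y + (..) x` (`T0.eich`).  Put
`Y x = ⟨x⟩ + {g e + e | g ∈ A x}` (= `{y ⊥ x | ρ_{x,y} ∈ A x}`, a subspace, H-equivariant),
`Y x ⊓ L x = ⟨x⟩` (`inj`), `Y x ⊔ L x = x^⊥` (`surj`), so `dim Y x = 8 - k`; `D x = (Y x)^⊥` has
dimension `k`, contains `x`, `D x ⊓ (L x)^⊥ = (x^⊥)^⊥ = ⟨x⟩`.
(1) There are `b ≠ x` in `p^H` with `b ⊥ x`: `e ∈ p^H` with `b(p,e)=1` (`exists_nonperp`), a singular
`0 ≠ w ∈ Y p ⊓ e^⊥` (dimension `7-k ≥ 3`: among `u1,u2,u3` and their sums one is singular), and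
`ρ_{p,w} e = e + w ⊥ e`.
(2) For `y ∈ Y' = Y b ⊓ x^⊥` (dimension `≥ 7-k`, contains `b`), `ρ_{b,y} ∈ H` fixes `x`, so it
normalises `S = L x` and `S = D x` (both of dimension `k`).  If `v ∈ S` has `b(b,v)=1` then
`y + c b ∈ S ⊓ b^⊥` for all `y ∈ Y'`, so `Y' ≤ (S ⊓ b^⊥) + ⟨b⟩`, `7-k ≤ k`: false.  So `b ⊥ L x, D x`.
(3) `b ∉ L x` (else `b ∈ L x ⊓ (D x)^⊥ = L x ⊓ Y x = ⟨x⟩`), `b ∉ D x` (else `b ∈ D x ⊓ (L x)^⊥`).  For
`v ∈ S`: `ρ_{b,y} v = v + b(v,y) b ∈ S` so `b(v,y)=0`: `L x + D x ≤ (Y')^⊥ = D b + ⟨x⟩`, dimension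
`≤ k+1 ≤ 2k-1 = dim (L x + D x)` (`L x ⊓ D x = ⟨x⟩`).  So equality, `b = l + d`, `d ⊥ L x`, `d ∈ ⟨x⟩`,
`b ∈ L x`: contradiction. -/
theorem Geo.not_rank (γ : Geo q) {p : V} (hp : p ∈ γ.Ω)
    (h : finrank (ZMod 2) (γ.L p) = 2 ∨ finrank (ZMod 2) (γ.L p) = 3) : False := by
  have := γ.finite
  obtain ⟨g, hg, he⟩ := Geo.exists_nonperp hp
  have hx := γ.mapΩ g hg p hp
  have rx := Geo.rank_map hg hp
  generalize g.1 p = x at he hx rx
  have rp := Geo.rank_Y hp (Geo.T0_of_le hp (by omega))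
  obtain ⟨w, ⟨hw, wx⟩, w0, qw⟩ := exists_singular_mem q (hy q (γ.Y p) x) (by
    have := le_hy (q := q) (γ.Y p) x
    omega)
  replace wx : polar q x w = 0 := wx
  have hb := γ.mapΩ _ (Geo.Y_H hp hw) x hx
  have rb := Geo.rank_map (Geo.Y_H hp hw) hx
  rw [eich_two (Geo.q_eq hp) hw.1, wx, qw, pc he, zero_mul, add_zero, zero_smul, add_zero,
    one_smul] at hb rb
  have bx : polar q x (x + w) = 0 := by rw [polar_add_right, polar_two_self, wx, add_zero]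
  have nb : x + w ≠ x := by simpa using w0
  generalize x + w = b at hb rb bx nb
  have tx := Geo.T0_of_le hx (by omega)
  have yx := Geo.rank_Y hx tx
  have yb := Geo.rank_Y hb (Geo.T0_of_le hb (by omega))
  have y' := le_hy (q := q) (γ.Y b) x
  have dx := γ.nd.finrank_perp (γ.Y x)
  rw [γ.dim] at dx
  have fx : ∀ y ∈ hy q (γ.Y b) x, (eichler q b y).1 x = x := fun y hy =>
    eichler_apply_of_perp_perp bx hy.2
  have iL : ∀ y ∈ hy q (γ.Y b) x, ∀ v ∈ γ.L x, (eichler q b y).1 v ∈ γ.L x := fun y hy v hv => by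
    have := γ.mapL _ (Geo.Y_H hb hy.1) x hx v hv
    rwa [fx y hy] at this
  have iD : ∀ y ∈ hy q (γ.Y b) x, ∀ v ∈ perp q (γ.Y x), (eichler q b y).1 v ∈ perp q (γ.Y x) :=
    fun y hy v hv u hu => by
      have := Geo.Y_map (inv_mem (Geo.Y_H hb hy.1)) hx hu
      rw [(OG.inv_apply_eq_iff _).2 (fx y hy).symm] at this
      rw [← OG.polar_inv_apply_left, hv _ this]
  have k2 : ∀ S : Submodule (ZMod 2) V, finrank (ZMod 2) S = finrank (ZMod 2) (γ.L p) →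
      (∀ y ∈ hy q (γ.Y b) x, ∀ v ∈ S, (eichler q b y).1 v ∈ S) → ∀ v ∈ S, polar q v b = 0 :=
    fun S hS iS v hv => (z2 _).resolve_right fun c => by
      have a1 : hy q (γ.Y b) x ≤ hy q S b ⊔ Submodule.span (ZMod 2) {b} := fun y hy => by
        have := iS y hy v hv
        rw [eich_two (Geo.q_eq hb) hy.1.1, c, one_smul, add_assoc, S.add_mem_iff_right hv,
          add_comm] at this
        rw [← two_add_add' y ((polar q v y + q y * 1) • b)]
        exact Submodule.add_mem_sup (mem_hy.2 ⟨this, by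
          rw [polar_add_right, hy.1.1, polar_smul_right', polar_two_self]; simp⟩)
          (Submodule.smul_mem _ _ (Submodule.mem_span_singleton_self b))
      have a2 := (Submodule.finrank_mono a1).trans (Submodule.finrank_add_le_finrank_add_finrank _ _)
      have a3 := hy_lt hv (pc c)
      rw [finrank_span_singleton (γ.ne b hb)] at a2
      omega
  have bL := k2 _ rx iL
  have bD := k2 _ (by omega) iD
  have nL : b ∉ γ.L x := fun m =>
    (Geo.Y_L hx (γ.nd.perp_perp (γ.Y x) ▸ bD) m).elim (γ.ne b hb) nb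
  have nD : b ∉ perp q (γ.Y x) := fun m => (Geo.perp_YL hx tx m bL).elim (γ.ne b hb) nb
  have k3 : ∀ S : Submodule (ZMod 2) V, b ∉ S → (∀ v ∈ S, polar q v b = 0) →
      (∀ y ∈ hy q (γ.Y b) x, ∀ v ∈ S, (eichler q b y).1 v ∈ S) → S ≤ perp q (hy q (γ.Y b) x) :=
    fun S n h1 iS v hv y hy => pc ((z2 _).resolve_right fun c => n (by
      have := iS y hy v hv
      rwa [eichler_apply_of_perp (Geo.q_eq hb) hy.1.1 (h1 v hv), c, one_smul,
        S.add_mem_iff_right hv] at this))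
  have a1 : γ.L x ⊓ perp q (γ.Y x) ≤ Submodule.span (ZMod 2) {x} := fun v hv =>
    mem_sp.2 (Geo.perp_YL hx tx hv.2 fun y hy => Geo.perpL hx hy hv.1)
  have a2 := Submodule.finrank_mono a1
  rw [finrank_span_singleton (γ.ne x hx)] at a2
  have a3 := Submodule.finrank_sup_add_finrank_inf_eq (γ.L x) (perp q (γ.Y x))
  have a4 := γ.nd.finrank_perp (hy q (γ.Y b) x)
  rw [γ.dim] at a4
  have a5 := Submodule.eq_of_le_of_finrank_le (sup_le (k3 _ nL bL iL) (k3 _ nD bD iD)) (by omega)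
  obtain ⟨l, hl, d, hd, e⟩ := Submodule.mem_sup.1 (a5.ge (show b ∈ _ from fun y hy => pc hy.1.1))
  refine nL (e ▸ add_mem hl ?_)
  rcases Geo.perp_YL hx tx hd (fun y hy => by
    have := bL y hy
    rwa [← e, polar_add_right, Geo.perpL hx hy hl, zero_add] at this) with c | c <;> rw [c]
  exacts [zero_mem _, γ.self x hx]

end Cfsg.Agent.X9
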