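import Cfsg.Agent.X9.KY

/-! Rank four with Eichler groups: `H = L₄(2) . 2`. -/

set_option autoImplicit false

namespace Cfsg.Agent.X9

open Subgroup Cfsg.Agent.TT Cfsg.Agent.LES Cfsg.Agent.XSC Cfsg.Agent.XSC.WC Cfsg.Agent.XW
  Cfsg.Agent.U6R Cfsg.Agent.Class.Orth QuadraticMap Module
open Cfsg.Agent.X7 (mem_c eqv_one_iff_mem z2 eich_two eq_of_perp1 exists_dual)

variable {V : Type} [AddCommGroup V] [Module (ZMod 2) V] {q : QuadraticForm (ZMod 2) V}

/-- `V = U ⊕ W` with `H = GL(U) . 2` and all points in `U ∪ W` -/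
structure UW (γ : Geo q) (U W : Submodule (ZMod 2) V) : Prop where
  dU : finrank (ZMod 2) U = 4
  dW : finrank (ZMod 2) W = 4
  disj : U ⊓ W = ⊥
  sU : ∀ v ∈ U, q v = 0
  sW : ∀ v ∈ W, q v = 0
  om : ∀ p ∈ γ.Ω, p ∈ U ∨ p ∈ W
  act : ∀ g ∈ γ.H, ((∀ v ∈ U, g.1 v ∈ U) ∧ ∀ v ∈ W, g.1 v ∈ W) ∨
    ((∀ v ∈ U, g.1 v ∈ W) ∧ ∀ v ∈ W, g.1 v ∈ U)
  swap : ∃ g ∈ γ.H, ∀ v ∈ U, g.1 v ∈ W
  gl : ∀ g : OG q, (∀ v ∈ U, g.1 v ∈ U) → (∀ v ∈ W, g.1 v ∈ W) → g ∈ γ.H

namespace Geo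

variable {γ : Geo q} (h4 : ∀ p ∈ γ.Ω, finrank (ZMod 2) (γ.L p) = 4) {a e x y u v : V}
include h4

/-- a singular vector of `Y a` orthogonal to `e` lies in `L e` -/
theorem p1 (ha : a ∈ γ.Ω) (he : e ∈ γ.Ω) (te : γ.T0 e) (ae : polar q a e = 1) (hy : y ∈ γ.Y a)
    (ey : polar q e y = 0) (qy : q y = 0) : y ∈ γ.L e := by
  have := γ.finite
  refine mem_L he (h4 e he) fun l hl => (z2 _).resolve_right fun ly => ?_
  obtain ⟨d, hd, da, dy⟩ : ∃ d ∈ γ.L e, polar q d a = 0 ∧ polar q d y = 1 :=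
    ⟨l + polar q l a • e, add_mem hl (Submodule.smul_mem _ _ (γ.self e he)), by
      simp [pc ae, CharTwo.add_self_eq_zero], by simp [ly, ey]⟩
  have H := Y_H ha hy
  have ρ := eich_two (q_eq ha) hy.1
  have k : ∀ u ∈ X9.hy q (X9.hy q (γ.Y e) a) y, u ∈ γ.L e ∨ u + y ∈ γ.L e := fun u hu => by
    have ua : polar q u a = 0 := pc hu.1.2
    have uy : polar q u y = 0 := pc hu.2
    have m := γ.mapL _ (Y_H he hu.1.1) _ (γ.mapΩ _ H e he) _ (γ.mapL _ H e he d hd)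
    have b : polar q ((eichler q a y).1 d) e = 1 := by
      simp [ρ, da, dy, ae, perpL he hd (γ.self e he)]
    rw [eichler_apply_of_perp_perp (by simp [ρ, ey, qy, pc ae, pc ey, -QuadraticMap.polar_self, polar_two_self])
      (by simp [ρ, ey, qy, pc ae, pc uy, hu.1.1.1]), eich_two (q_eq he) hu.1.1.1, b, add_assoc,
      Submodule.add_mem_iff_right _ (γ.mapL _ H e he d hd), one_smul] at m
    generalize _ + q u * 1 = c at m
    have := (mem_map_L (v := u + c • (e + y)) H he).1 (by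
      convert m using 1
      simp [ρ, ua, uy, ey, pc ae, pc hy.1, qy, -QuadraticMap.polar_self, polar_two_self]
      have := two_add_self (c • y)
      grind)
    rcases z2 c with rfl | rfl
    · exact .inl (by simpa using this)
    · rw [one_smul, add_left_comm, Submodule.add_mem_iff_right _ (γ.self e he)] at this
      exact .inr this
  have n : ∀ u ∈ X9.hy q (X9.hy q (γ.Y e) a) y, u ∈ γ.L e → u = 0 := fun u hu m =>
    (Y_L he hu.1.1 m).resolve_right fun c => zero_ne_one (hu.1.2.symm.trans (c ▸ ae))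
  have r : 2 ≤ finrank (ZMod 2) (X9.hy q (X9.hy q (γ.Y e) a) y) := by
    have := rank_Y he te
    have := h4 e he
    have := le_hy (q := q) (γ.Y e) a
    have := le_hy (q := q) (X9.hy q (γ.Y e) a) y
    omega
  obtain ⟨u, hu, u0, -⟩ := ex_ne r 0
  obtain ⟨w, hw, w0, wu⟩ := ex_ne r u
  have := add_mem ((k w hw).resolve_left (mt (n w hw) w0)) ((k u hu).resolve_left (mt (n u hu) u0))
  rw [add_add_add_comm, two_add_self, add_zero] at this
  exact wu (two_eq_of_add (n _ (add_mem hw hu) this))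

theorem p1' (ha : a ∈ γ.Ω) (he : e ∈ γ.Ω) (te : γ.T0 e) (ae : polar q a e = 1)
    (hy : y ∈ X9.hy q (γ.Y a) e) (qy : q y = 0) (hu : u ∈ X9.hy q (γ.Y a) e) : polar q y u = 0 := by
  have m := p1 h4 ha he te ae hy.1 hy.2 qy
  rcases z2 (q u) with c | c
  · exact perpL he m (p1 h4 ha he te ae hu.1 hu.2 c)
  refine (z2 _).resolve_right fun b => zero_ne_one ((γ.sing e he u ?_).symm.trans c)
  exact (Submodule.add_mem_iff_right _ m).1 (p1 h4 ha he te ae (add_mem hy hu).1 (add_mem hy hu).2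
    (by rw [Q_add, qy, c, b]; rfl))

omit h4 in
theorem adj (ha : a ∈ γ.Ω) (ae : polar q a e = 1) (hu : u ∈ γ.Y a) :
    u + polar q e u • a ∈ X9.hy q (γ.Y a) e ∧ q (u + polar q e u • a) = q u :=
  ⟨⟨add_mem hu (Submodule.smul_mem _ _ (self_Y ha)),
    show polar q e _ = 0 by simp [pc ae, CharTwo.add_self_eq_zero]⟩, by
    simp [Q_add, Q_smul, q_eq ha, pc hu.1]⟩

/-- `Y a` is totally singular -/
theorem p2 (ha : a ∈ γ.Ω) (ta : γ.T0 a) (hu : u ∈ γ.Y a) : q u = 0 := by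
  have := γ.finite
  refine (z2 _).resolve_right fun qu => ?_
  obtain ⟨g, hg, ae⟩ := exists_nonperp ha
  have he := γ.mapΩ g hg a ha
  have te := ta.map hg ha
  obtain ⟨w1, hw1, q1⟩ : ∃ w ∈ X9.hy q (γ.Y (g.1 a)) a, q w = 1 :=
    ⟨_, (adj he (pc ae) (Y_map hg ha hu)).1, by
      rw [(adj he (pc ae) (Y_map hg ha hu)).2, OG.map_Q, qu]⟩
  generalize g.1 a = e at ae he te hw1
  obtain ⟨y, hy, y0, qy⟩ := exists_singular_mem q (X9.hy q (γ.Y a) e) (by
    have := rank_Y ha ta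
    have := h4 a ha
    have := le_hy (q := q) (γ.Y a) e
    omega)
  have ye : polar q e y = 0 := hy.2
  have yL := p1 h4 ha he te ae hy.1 hy.2 qy
  obtain ⟨w, hw, qw, wy⟩ : ∃ w ∈ X9.hy q (γ.Y e) a, q w = 1 ∧ polar q w y = 1 := by
    obtain ⟨w0, h0, b0⟩ : ∃ w ∈ γ.Y e, polar q w y = 1 := by
      by_contra! c
      rcases perp_YL he te (fun w hw => (z2 _).resolve_right (c w hw)) fun l hl => perpL he hl yL
        with c | c
      exacts [y0 c, zero_ne_one (hy.1.1.symm.trans (c ▸ ae))]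
    obtain ⟨h2, -⟩ := adj he (pc ae) h0
    replace b0 : polar q (w0 + polar q a w0 • e) y = 1 := by simp [b0, ye]
    generalize w0 + _ = w at h2 b0
    rcases z2 (q w) with c | c
    · rcases z2 (polar q w1 y) with d | d
      · exact ⟨_, add_mem h2 hw1, by rw [Q_add, c, q1, p1' h4 he ha ta (pc ae) h2 c hw1]; rfl, by
          rw [polar_add_left, b0, d, add_zero]⟩
      · exact ⟨w1, hw1, q1, d⟩
    · exact ⟨w, h2, c, b0⟩
  obtain ⟨u, hu, qu, uw⟩ : ∃ u ∈ X9.hy q (γ.Y a) e, q u = 1 ∧ polar q u w = 1 := by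
    obtain ⟨h2, h3⟩ := adj ha ae hu
    rw [qu] at h3
    generalize u + _ = u at h2 h3
    rcases z2 (polar q u w) with d | d
    · exact ⟨_, add_mem hy h2, by rw [Q_add, qy, h3, p1' h4 ha he te ae hy qy h2]; rfl, by
        rw [polar_add_left, pc wy, d, add_zero]⟩
    · exact ⟨u, h2, h3, d⟩
  have H := mul_mem (Y_H he hw.1) (Y_H ha hu.1)
  have ρ := eich_two (q_eq ha) hu.1.1
  have ρ' := eich_two (q_eq he) hw.1.1
  have yu := p1' h4 ha he te ae hy qy hu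
  have aw : polar q a w = 0 := hw.2
  have eu : polar q e u = 0 := hu.2
  have o : (1 : ZMod 2) + 1 = 0 := rfl
  have := p1 h4 ha (γ.mapΩ _ H e he) (te.map H he) (y := y + a) (by
    simp [OG.mul_apply, ρ, ρ', ae, pc ae, eu, pc eu, qu, qw, aw, uw, hw.1.1, hu.1.1, o, -QuadraticMap.polar_self,
      polar_two_self]) (add_mem hy.1 (self_Y ha)) (by
    simp [OG.mul_apply, ρ, ρ', ae, pc ae, eu, pc eu, qu, qw, aw, pc aw, uw, hw.1.1, pc hu.1.1, o,
      -QuadraticMap.polar_self, polar_two_self, ye, wy, hy.1.1, pc yu]) (by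
    simp [Q_add, qy, q_eq ha, pc hy.1.1])
  replace := (mem_map_L (v := y + w) H he).1 (by
    convert this using 1
    simp [OG.mul_apply, ρ, ρ', ae, qu, qw, aw, pc aw, pc uw, pc hw.1.1, -QuadraticMap.polar_self, polar_two_self,
      pc ye, pc wy, pc hy.1.1, yu, o]
    have := two_add_self e
    have := two_add_self w
    grind)
  exact zero_ne_one ((γ.sing e he w ((Submodule.add_mem_iff_right _ yL).1 this)).symm.trans qw)

theorem LY (ha : a ∈ γ.Ω) (ta : γ.T0 a) (he : e ∈ γ.Ω) (te : γ.T0 e) (ae : polar q a e = 1)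
    (hy : y ∈ γ.L e) (ay : polar q a y = 0) : y ∈ γ.Y a := by
  have := γ.finite
  refine ((Submodule.eq_of_le_of_finrank_le (S₁ := X9.hy q (γ.Y a) e) (S₂ := X9.hy q (γ.L e) a)
    (fun y hy => ⟨p1 h4 ha he te ae hy.1 hy.2 (p2 h4 ha ta hy.1), hy.1.1⟩) ?_).ge ⟨hy, ay⟩).1
  have := rank_Y ha ta
  have := h4 a ha
  have := h4 e he
  have := le_hy (q := q) (γ.Y a) e
  have := hy_lt (γ.self e he) ae
  omega

theorem LL (ha : a ∈ γ.Ω) (ta : γ.T0 a) (he : e ∈ γ.Ω) (te : γ.T0 e) (ae : polar q a e = 1)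
    (h1 : v ∈ γ.L a) (h2 : v ∈ γ.L e) : v = 0 :=
  (Y_L ha (LY h4 ha ta he te ae h2 (perpL ha (γ.self a ha) h1)) h1).resolve_right fun c =>
    zero_ne_one ((perpL he (c ▸ h2) (γ.self e he)).symm.trans ae)

omit h4 in
theorem L_map {g : OG q} (hg : g ∈ γ.H) (hx : x ∈ γ.Ω) (h : ∀ v ∈ γ.L x, g.1 v ∈ γ.L x) :
    γ.L (g.1 x) = γ.L x := by
  have := γ.finite
  refine Submodule.eq_of_le_of_finrank_eq (fun v hv => ?_) (rank_map hg hx)
  obtain ⟨v, rfl⟩ := g.1.surjective v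
  exact h v ((mem_map_L hg hx).1 hv)

theorem all_L (ha : a ∈ γ.Ω) (ta : γ.T0 a) (he : e ∈ γ.Ω) (te : γ.T0 e) (ae : polar q a e = 1)
    (hu : u ∈ γ.L a) (u0 : u ≠ 0) : u ∈ γ.Ω ∧ γ.T0 u ∧ γ.L u = γ.L a := by
  have o : (1 : ZMod 2) + 1 = 0 := rfl
  have k : ∀ u ∈ γ.L a, polar q u e = 1 → u ∈ γ.Ω ∧ γ.T0 u ∧ γ.L u = γ.L a := fun u hu ue => by
    have m := add_mem (γ.self a ha) hu
    have hd := LY h4 he te ha ta (pc ae) m (by simp [pc ae, pc ue, o])
    have ρ : ∀ v ∈ γ.L a, (eichler q e (a + u)).1 v = v + polar q v e • (a + u) := fun v hv => by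
      simp only [eich_two (q_eq he) hd.1, perpL ha hv m, γ.sing a ha _ m, zero_mul, add_zero,
        zero_smul]
    have H := Y_H he hd
    have := And.intro (γ.mapΩ _ H a ha) (And.intro (ta.map H ha) (L_map H ha fun v hv =>
      ρ v hv ▸ add_mem hv (Submodule.smul_mem _ _ m)))
    rwa [ρ a (γ.self a ha), ae, one_smul, two_add_add] at this
  refine (z2 (polar q u e)).elim (fun ue => ?_) (k u hu)
  obtain ⟨y, hy, ay, yu⟩ : ∃ y ∈ γ.L e, polar q a y = 0 ∧ polar q y u = 1 := by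
    by_contra! c
    refine u0 (LL h4 ha ta he te ae hu (mem_L he (h4 e he) fun w hw => ?_))
    have := (z2 _).resolve_right (c _ (add_mem hw (Submodule.smul_mem _ (polar q a w) (γ.self e he)))
      (by simp [ae, CharTwo.add_self_eq_zero]))
    simpa [pc ue] using this
  have hd := LY h4 ha ta he te ae hy ay
  have H := Y_H ha hd
  obtain ⟨h1, h2, h3⟩ := k _ (add_mem (γ.self a ha) hu) (by rw [polar_add_left, ae, ue, add_zero])
  have := And.intro (γ.mapΩ _ H _ h1) (And.intro (h2.map H h1) (L_map H h1 fun v hv => by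
    have := γ.mapL _ H a ha v (h3 ▸ hv)
    rwa [eichler_apply_self (q_eq ha) ay, ← h3] at this))
  rwa [eichler_apply_of_perp (q_eq ha) ay (perpL ha (add_mem (γ.self a ha) hu) (γ.self a ha)),
    polar_add_left, ay, pc yu, zero_add, one_smul, add_right_comm, two_add_self, zero_add, h3] at this

end Geo

/-- two complementary solids consisting of points -/
structure St (γ : Geo q) (U W : Submodule (ZMod 2) V) : Prop where
  h4 : ∀ p ∈ γ.Ω, finrank (ZMod 2) (γ.L p) = 4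
  dU : finrank (ZMod 2) U = 4
  dW : finrank (ZMod 2) W = 4
  disj : ∀ v ∈ U, v ∈ W → v = 0
  sU : ∀ v ∈ U, q v = 0
  sW : ∀ v ∈ W, q v = 0
  gU : ∀ u ∈ U, u ≠ 0 → u ∈ γ.Ω ∧ γ.T0 u ∧ γ.L u = U
  gW : ∀ u ∈ W, u ≠ 0 → u ∈ γ.Ω ∧ γ.T0 u ∧ γ.L u = W

namespace St

variable {γ : Geo q} {U W : Submodule (ZMod 2) V} (h : St γ U W) {u v χ x : V}
include h

theorem symm : St γ W U := ⟨h.h4, h.dW, h.dU, fun v a b => h.disj v b a, h.sW, h.sU, h.gW, h.gU⟩

theorem pU (hu : u ∈ U) (hv : v ∈ U) : polar q u v = 0 := by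
  have := Q_add q u v
  rwa [h.sU _ (add_mem hu hv), h.sU u hu, h.sU v hv, add_zero, zero_add, eq_comm] at this

theorem dec (x : V) : ∃ v ∈ U, ∃ φ ∈ W, v + φ = x := by
  have := γ.finite
  have a := Submodule.finrank_sup_add_finrank_inf_eq U W
  rw [show U ⊓ W = ⊥ from eq_bot_iff.2 fun v hv => h.disj v hv.1 hv.2, finrank_bot, h.dU, h.dW] at a
  exact Submodule.mem_sup.1 ((Submodule.eq_top_of_finrank_eq (a.trans γ.dim.symm)).ge trivial)

theorem du (hu : u ∈ U) (hv : v ∈ U) (k : ∀ χ ∈ W, polar q u χ = 0 → polar q v χ = 0) :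
    v = 0 ∨ v = u := eq_of_perp1 γ.nd fun x hx => by
  obtain ⟨a, ha, b, hb, rfl⟩ := h.dec x
  rw [polar_add_right, h.pU hu ha, zero_add] at hx
  rw [polar_add_right, h.pU hv ha, zero_add, k b hb hx]

theorem z0 (hv : v ∈ U) (k : ∀ χ ∈ W, polar q v χ = 0) : v = 0 :=
  (h.du (zero_mem _) hv fun χ hχ _ => k χ hχ).elim id id

theorem eH (hu : u ∈ U) (hχ : χ ∈ W) (b : polar q u χ = 0) : eichler q u χ ∈ γ.H := by
  by_cases u0 : u = 0
  · rw [u0, eichler_zero_left]; exact one_mem _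
  obtain ⟨e, he, c⟩ : ∃ e ∈ W, polar q u e ≠ 0 := by
    by_contra! c
    exact u0 (h.z0 hu c)
  obtain ⟨h1, h2, -⟩ := h.gU u hu u0
  obtain ⟨h3, h4, h5⟩ := h.gW e he fun d => c (d ▸ polar_zero_right _ _)
  exact Geo.Y_H h1 (Geo.LY h.h4 h1 h2 h3 h4 (z2_ne.1 c) (h5 ▸ hχ) b)

theorem eq (hu : u ∈ U) (hχ : χ ∈ W) (b : polar q u χ = 0) (x : V) :
    (eichler q u χ).1 x = x + (polar q x χ • u + polar q x u • χ) := by
  rw [eich_two (h.sU u hu) b, h.sW χ hχ, zero_mul, add_zero, add_assoc]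

theorem aux (hu : u ∈ U) (hχ : χ ∈ W) (b : polar q u χ = 0) (hx : x ∈ γ.Ω) (h1 : polar q x u = 0)
    (h2 : polar q x χ = 0) (hv : v ∈ γ.L x) : polar q v χ • u + polar q v u • χ ∈ γ.L x := by
  have := γ.mapL _ (h.eH hu hχ b) x hx v hv
  rwa [eichler_apply_of_perp_perp h1 h2, h.eq hu hχ b, Submodule.add_mem_iff_right _ hv] at this

theorem not_mem (hv : v ∈ U) (v0 : v ≠ 0) (hχ : χ ∈ W) (χ0 : χ ≠ 0) (hx : v + χ ∈ γ.Ω) :
    v ∉ γ.L (v + χ) := fun m => by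
  obtain ⟨h1, -, h2⟩ := h.gU v hv v0
  have := γ.symm _ hx v h1 m
  rw [h2, U.add_mem_iff_right hv] at this
  exact χ0 (h.disj χ this hχ)

theorem om (hx : x ∈ γ.Ω) : x ∈ U ∨ x ∈ W := by
  have := γ.finite
  obtain ⟨v, hv, φ, hφ, rfl⟩ := h.dec x
  by_contra! c
  have v0 : v ≠ 0 := fun e => c.2 (by rwa [e, zero_add])
  have φ0 : φ ≠ 0 := fun e => c.1 (by rwa [e, add_zero])
  have b : polar q v φ = 0 := by
    simpa [Q_add, h.sU v hv, h.sW φ hφ] using Geo.q_eq hx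
  have n1 := h.not_mem hv v0 hφ φ0 hx
  have n2 := h.symm.not_mem hφ φ0 hv v0 (add_comm v φ ▸ hx)
  rw [add_comm] at n2
  obtain ⟨l, hl, l0, lx⟩ := ex_ne (W := γ.L (v + φ)) (by rw [h.h4 _ hx]; omega) (v + φ)
  obtain ⟨u, hu, ψ, hψ, rfl⟩ := h.dec l
  have k1 : ∀ χ ∈ W, polar q v χ = 0 → polar q u χ • v + polar q ψ v • χ ∈ γ.L (v + φ) :=
    fun χ hχ d => by
      simpa [h.symm.pU hψ hχ, h.pU hu hv] using h.aux hv hχ d hx (by simp [h.pU hv hv, pc b])
        (by simp [d, h.symm.pU hφ hχ]) hl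
  have k2 : ∀ w ∈ U, polar q φ w = 0 → polar q u φ • w + polar q ψ w • φ ∈ γ.L (v + φ) :=
    fun w hw d => by
      simpa [h.symm.pU hψ hφ, h.pU hu hw] using h.aux hw hφ (pc d) hx (by simp [d, h.pU hv hw])
        (by simp [b, h.symm.pU hφ hφ]) hl
  have e : polar q u φ = polar q ψ v := by
    have := Geo.perpL hx hl (γ.self _ hx)
    simp only [polar_add_left, polar_add_right, h.pU hu hv, h.symm.pU hψ hφ, zero_add,
      add_zero] at this
    exact (CharTwo.add_eq_zero.1 this).symm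
  rcases z2 (polar q ψ v) with d | d <;> rw [e, d] at k2 <;> rw [d] at k1
  · have a1 := h.du hv hu fun χ hχ c => (z2 _).resolve_right fun t => n1 (by simpa [t] using k1 χ hχ c)
    have a2 := h.symm.du hφ hψ fun w hw c =>
      (z2 _).resolve_right fun t => n2 (by simpa [t] using k2 w hw c)
    rcases a1 with rfl | rfl <;> rcases a2 with rfl | rfl
    exacts [l0 (add_zero _), n2 (by simpa using hl), n1 (by simpa using hl), lx rfl]
  · obtain ⟨w, hw, w0, wv⟩ := ex_ne (W := hy q U φ) (by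
      have := le_hy (q := q) U φ
      have := h.dU
      omega) v
    refine (h.du hv hw.1 fun χ hχ c => ?_).elim w0 wv
    simpa [h.pU hv hw.1, b, h.symm.pU hχ hφ, polar_comm q χ] using
      Geo.perpL hx (k1 χ hχ c) (k2 w hw.1 hw.2)

theorem gl (S : Submodule (ZMod 2) V) (hS : S ≤ U) (g : OG q) (h1 : ∀ v ∈ U, g.1 v ∈ U)
    (h2 : ∀ v ∈ W, g.1 v ∈ W) (h3 : ∀ v ∈ S, g.1 v = v) : g ∈ γ.H := by
  have := γ.finite
  induction S using WellFoundedGT.induction generalizing g with | ind S ih => ?_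
  by_cases c : ∀ v ∈ U, g.1 v = v
  · rw [show g = 1 from OG.ext fun x => ?_]
    · exact one_mem _
    obtain ⟨a, ha, b, hb, rfl⟩ := h.dec x
    rw [map_add, c a ha, two_eq_of_add (h.symm.z0 (add_mem (h2 b hb) hb) fun w hw => ?_)]
    · rfl
    · rw [polar_add_left, ← OG.map_polar g b, c w hw, CharTwo.add_self_eq_zero]
  push Not at c
  obtain ⟨u, hu, n⟩ := c
  have k : ∀ x ∈ U, x ∉ S → ∃ χ ∈ W, polar q x χ = 1 ∧ ∀ s ∈ S, polar q s χ = 0 := fun x hx m => by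
    obtain ⟨v, c, d⟩ := exists_dual γ.nd m
    obtain ⟨a, ha, b, hb, rfl⟩ := h.dec v
    exact ⟨b, hb, pc (z2_ne.1 (by simpa [h.pU ha hx] using c)), fun s hs =>
      pc (by simpa [h.pU ha (hS hs)] using d s hs)⟩
  have uS : u ∉ S := fun m => n (h3 u m)
  obtain ⟨χ, hχ, a1, a2, a3⟩ : ∃ χ ∈ W, polar q u χ = 1 ∧ polar q (g.1 u) χ = 1 ∧
      ∀ s ∈ S, polar q s χ = 0 := by
    obtain ⟨χ, hχ, a1, a2⟩ := k u hu uS
    obtain ⟨ψ, hψ, b1, b2⟩ := k _ (h1 u hu) fun m => n (g.1.injective (h3 _ m))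
    rcases z2 (polar q (g.1 u) χ) with c | c
    · rcases z2 (polar q u ψ) with d | d
      · exact ⟨_, add_mem hχ hψ, by simp [a1, d], by simp [b1, c], fun s hs => by simp [a2 s hs, b2 s hs]⟩
      · exact ⟨ψ, hψ, d, b1, b2⟩
    · exact ⟨χ, hχ, a1, c, a2⟩
  have m := add_mem (h1 u hu) hu
  have b : polar q (g.1 u + u) χ = 0 := by rw [polar_add_left, a1, a2]; rfl
  have ρ := h.eq m hχ b
  refine (mul_mem_cancel_left (h.eH m hχ b)).1 (ih (S ⊔ Submodule.span (ZMod 2) {u})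
    (lt_of_le_of_ne le_sup_left fun e => uS (e ▸ Submodule.mem_sup_right
      (Submodule.mem_span_singleton_self u)))
    (sup_le hS ((Submodule.span_singleton_le_iff_mem _ _).2 hu)) _ (fun v hv => ?_) (fun v hv => ?_)
    (mem_fixer_sup_span (fun s hs => ?_) ?_))
  · rw [OG.mul_apply, ρ, h.pU (h1 v hv) m, zero_smul, add_zero]
    exact add_mem (h1 v hv) (U.smul_mem _ m)
  · rw [OG.mul_apply, ρ, h.symm.pU (h2 v hv) hχ, zero_smul, zero_add]
    exact add_mem (h2 v hv) (W.smul_mem _ hχ)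
  · rw [OG.mul_apply, h3 s hs, eichler_apply_of_perp_perp (h.pU (hS hs) m) (a3 s hs)]
  · rintro _ rfl
    rw [OG.mul_apply, ρ, h.pU (h1 _ hu) m, a2, zero_smul, add_zero, one_smul, two_add_add]

end St

theorem Geo.exists_UW (γ : Geo q) (h4 : ∀ p ∈ γ.Ω, finrank (ZMod 2) (γ.L p) = 4) {a : V}
    (ha : a ∈ γ.Ω) (h0 : γ.T0 a) : ∃ U W, UW γ U W := by
  obtain ⟨g, hg, ae⟩ := Geo.exists_nonperp ha
  have he := γ.mapΩ g hg a ha
  have te := h0.map hg ha
  have sw := γ.mapL g hg a ha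
  generalize g.1 a = e at ae he te sw
  have h : St γ (γ.L a) (γ.L e) := ⟨h4, h4 a ha, h4 e he, fun v => Geo.LL h4 ha h0 he te ae,
    γ.sing a ha, γ.sing e he, fun u => Geo.all_L h4 ha h0 he te ae,
    fun u => Geo.all_L h4 he te ha h0 (pc ae)⟩
  refine ⟨_, _, h.dU, h.dW, eq_bot_iff.2 fun v hv => h.disj v hv.1 hv.2, h.sU, h.sW, fun p => h.om,
    fun k hk => ?_, ⟨g, hg, sw⟩, fun k h1 h2 => h.gl ⊥ bot_le k h1 h2 fun v hv => by
      rw [(Submodule.mem_bot _).1 hv, map_zero]⟩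
  have a0 := OG.apply_ne_zero k (γ.ne a ha)
  have e0 := OG.apply_ne_zero k (γ.ne e he)
  have a1 := γ.mapL k hk a ha
  have e1 := γ.mapL k hk e he
  rw [← OG.map_polar k] at ae
  rcases h.om (γ.mapΩ k hk a ha) with c | c <;> rcases h.om (γ.mapΩ k hk e he) with d | d
  · exact absurd ((h.pU c d).symm.trans ae) zero_ne_one
  · exact .inl ⟨(h.gU _ c a0).2.2 ▸ a1, (h.gW _ d e0).2.2 ▸ e1⟩
  · exact .inr ⟨(h.gW _ c a0).2.2 ▸ a1, (h.gU _ d e0).2.2 ▸ e1⟩
  · exact absurd ((h.symm.pU c d).symm.trans ae) zero_ne_one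

end Cfsg.Agent.X9
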