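import Cfsg.Agent.X9.K4B1

/-! `C(z)/Q = L₄(2) . 2` does not occur in a simple group. -/

set_option autoImplicit false

namespace Cfsg.Agent.X9

open Subgroup Cfsg.Agent.TT Cfsg.Agent.LES Cfsg.Agent.XSC Cfsg.Agent.XSC.WC Cfsg.Agent.XW
  Cfsg.Agent.U6R Cfsg.Agent.Class.Orth QuadraticMap Module
open Cfsg.Agent.X7 (mem_c eqv_one_iff_mem z2)

variable {G : Type*} [Group G] [Finite G] {z : G}
  {V : Type} [AddCommGroup V] [Module (ZMod 2) V] {q : QuadraticForm (ZMod 2) V}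
  {π : G → V} {r : centralizer ({z} : Set G) →* OG q} {γ : Geo q}

theorem two_lt_card {Q : Subgroup G} {s : G} (h : Sa Q z s) (hc : Nat.card Q = 512) :
    2 < Nat.card (Q ⊓ centralizer {s} : Subgroup G) := by
  have a := h.toXS.card_mul_card_centralizer (hat_le h) (z_mem_hat h)
  have b := card_le_of_le (X7.hat_le_Q0 h)
  have c := X7.card_Q0_le h
  rw [hc] at a
  by_contra n
  nlinarith

section

variable {U W : Submodule (ZMod 2) V} {i : OG q} (o : OS z (O2C z) q π r) (p : Pol U W i)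
  {y : centralizer ({z} : Set G)} (hy : r y = i) {x e : G}
include o p hy

omit [Finite G] p in
theorem k4_pi_dd (hx : x ∈ O2C z) : π (dd y x) = π x + i.1 (π x) := by
  rw [add_comm, ← hy]; exact (o.pi_comm y hx)

omit [Finite G] in
/-- a lift of the polarity with square in `⟨z⟩` centralises the preimage of `Δ` -/
theorem k4_cent (y2 : Eqv z (y * y : G) 1) (he : e ∈ O2C z) (f : i.1 (π e) = π e) :
    e * y = y * e := by
  obtain ⟨a, -, k⟩ := p.of_fix f
  obtain ⟨x, hx, rfl⟩ := o.surj a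
  have yz := mem_c.1 y.2
  have m := dd_mem o.lx yz hx
  have c : (y * y : G) * x = x * (y * y) :=
    comm_of_eqv (o.lx.z_comm x hx).symm y2 (by simp)
  have s : dd y.1 x * dd y.1 x = 1 := (o.sq _ m).2 (by rw [k4_pi_dd o hy hx, ← k]; exact p.q_fix f)
  refine comm_of_eqv yz.symm (o.eqv_of_pi he m (by rw [k4_pi_dd o hy hx, k])) ?_
  refine (comm_of_conj_eq ?_).symm
  rw [eq_inv_of_mul_eq_one_left s]
  conv_lhs => rw [← eq_inv_of_mul_eq_one_left s]
  calc _ = y.1 * y * x * (y.1 * y)⁻¹ * (y * x⁻¹ * y.1⁻¹) := by simp only [dd]; group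
    _ = _ := by rw [conj_eq_of_comm c]; simp only [dd]; group

theorem k4_adjust : ∃ u : centralizer ({z} : Set G), r u = i ∧ Eqv z (u * u : G) 1 := by
  have m : (y * y : G) ∈ O2C z := (o.r_eq_one_iff (y * y)).1 (by
    rw [map_mul, hy]; exact OG.ext p.ii)
  have f : i.1 (π (y * y : G)) = π (y * y : G) := hy ▸ o.fix_of_commute y m (by
    exact (Commute.refl y.1).mul_right (Commute.refl _))
  obtain ⟨a, -, k⟩ := p.of_fix f
  obtain ⟨x, hx, rfl⟩ := o.surj a
  let x' : centralizer ({z} : Set G) := ⟨x, mem_c.2 (o.lx.z_comm x hx)⟩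
  have m' := o.lx.norm _ (mem_c.1 y.2) x hx
  have e : ((y * x' : centralizer ({z} : Set G)) : G) * (y * x' : centralizer ({z} : Set G)) =
      y * x * y.1⁻¹ * (y * y) * x := by
    simp only [coe_mul, x']; group
  refine ⟨y * x', by rw [map_mul, (o.r_eq_one_iff x').2 hx, mul_one, hy], ?_⟩
  rw [e, eqv_one_iff, ← o.ker _ (mul_mem (mul_mem m' m) hx), o.add _ (mul_mem m' m) _ hx,
    o.add _ m' _ m, o.act y x hx, k, hy, add_comm (π x), two_add_add, two_add_self]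

/-- an element of order three commuting with the polarity has a lift centralising `y` -/
theorem k4_lift (y2 : (y * y : G) = 1) {σ : OG q} (hσ : σ ∈ r.range) (c : σ * i = i * σ)
    (s4 : σ ^ 4 = σ) : ∃ s : centralizer ({z} : Set G), r s = σ ∧ (s * y : G) = y * s := by
  obtain ⟨t, rfl⟩ := hσ
  have m : dd t.1 y ∈ O2C z := (o.r_eq_one_iff (t * y * t⁻¹ * y⁻¹)).1 (by
    simp only [map_mul, map_inv, hy, c]; group)
  have f : i.1 (π (dd t.1 y)) = π (dd t.1 y) := by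
    rw [← hy, ← o.act y _ m, ← o.pi_inv m]
    congr 1
    have h1 : y.1⁻¹ = y := inv_eq_of_mul_eq_one_right y2
    simp only [dd, mul_inv_rev, inv_inv, h1]
    calc _ = y.1 * (t * y * t.1⁻¹) * (y * y) := by simp only [mul_assoc]
      _ = _ := by rw [y2]; simp only [mul_assoc, mul_one]
  obtain ⟨a, -, k⟩ := p.of_fix f
  obtain ⟨x, hx, rfl⟩ := o.surj a
  let x' : centralizer ({z} : Set G) := ⟨x, mem_c.2 (o.lx.z_comm x hx)⟩
  have m' := dd_mem o.lx (mem_c.1 y.2) hx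
  have e : Eqv z (dd t.1 y) (dd x y) := dd_inv_swap y.1 x ▸
    o.eqv_of_pi m (inv_mem m') (by rw [o.pi_inv m', k4_pi_dd o hy hx, k])
  have e1 := (e.mul_right (mem_c.1 y.2)).conj (comm_inv_left (o.lx.z_comm x hx))
  rw [dd_mul_self, dd_mul_self, show x⁻¹ * (x * y * x⁻¹) * x⁻¹⁻¹ = y by group,
    show x⁻¹ * (t * y * t.1⁻¹) * x⁻¹⁻¹ = (x'⁻¹ * t).1 * y * (x'⁻¹ * t).1⁻¹ by
      simp only [coe_mul, coe_inv, x']; group] at e1
  have rt : r (x'⁻¹ * t) = r t := by rw [map_mul, map_inv, (o.r_eq_one_iff x').2 hx, inv_one, one_mul]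
  generalize x'⁻¹ * t = w at e1 rt
  refine ⟨w ^ 4, by rw [map_pow, rt, s4], ?_⟩
  have w2 : (w * w : G) * y = y * (w * w) := comm_of_conj_eq (by
    have wz := mem_c.1 w.2
    rw [show (w * w : G) * y * (w * w : G)⁻¹ = w * (w * y * w.1⁻¹) * w.1⁻¹ by group]
    rcases e1 with e1 | e1
    · rw [e1, e1]
    · rw [e1, ← conj_mul, e1, conj_eq_of_comm wz, mul_assoc, o.zz, mul_one])
  rw [coe_pow, show w.1 ^ 4 = w * w * (w * w) by simp [pow_succ, mul_assoc]]
  exact comm_mul_left w2 w2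

end

/-- `C0 = ` preimage of the stabiliser of `U` has index 2 in `C(z)`; transfer gives a conjugate `y` of
`z` over the symplectic polarity `i`; `D = Q ⊓ Q_y` is a complement to `⟨z⟩` in `C_Q(y)`, which
contradicts the action of the elements of order 3 of `Sp(U)`. -/
theorem Lk.not_UW [IsSimpleGroup G] (l : Lk z π r γ) {U W : Submodule (ZMod 2) V} (h : UW γ U W) :
    False := by
  have o := l.os
  have lx := o.lx
  obtain ⟨i, p⟩ := h.exists_pol
  obtain ⟨a0, ha0, b0, hb0, n0, n1, n2, n3⟩ := p.two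
  have iH : i ∈ r.range := by
    obtain ⟨g, hg, k⟩ := h.swap
    have k' := (h.act g hg).resolve_left fun c =>
      n0 (g.1.map_eq_zero_iff.1 (p.disj _ (c.1 a0 ha0) (k a0 ha0)))
    have := mul_mem (h.gl (i * g) (fun v hv => p.WU _ (k'.1 v hv)) fun v hv => p.UW _ (k'.2 v hv))
      (inv_mem hg)
    rwa [mul_inv_cancel_right, l.hH] at this
  obtain ⟨u0, hu0⟩ := iH
  obtain ⟨u, hu, u2⟩ := k4_adjust o p hu0
  have act := fun c : centralizer ({z} : Set G) => h.act (r c) (l.hH ▸ ⟨c, rfl⟩)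
  let S : Subgroup (OG q) :=
    { carrier := {g | ∀ v, g.1 v ∈ U ↔ v ∈ U}
      one_mem' := fun v => Iff.rfl
      mul_mem' := fun {g k} hg hk v => (hg _).trans (hk v)
      inv_mem' := fun {g} hg v => by rw [← hg, OG.apply_inv_apply] }
  have mS : ∀ g : OG q, (∀ v ∈ U, g.1 v ∈ U) → (∀ v ∈ W, g.1 v ∈ W) → g ∈ S := fun g k1 k2 v => by
    refine ⟨fun m => ?_, k1 v⟩
    obtain ⟨a, ha, w, hw, rfl⟩ := p.dec v
    rw [map_add, U.add_mem_iff_right (k1 a ha)] at m
    rwa [g.1.map_eq_zero_iff.1 (p.disj _ m (k2 w hw)), add_zero]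
  have iS : i ∉ S := fun m => n0 (i.1.map_eq_zero_iff.1 (p.disj _ ((m a0).2 ha0) (p.UW a0 ha0)))
  have sub : ((S.comap r).map (centralizer ({z} : Set G)).subtype).subgroupOf (centralizer {z}) =
    S.comap r := comap_map_eq_self_of_injective (subtype_injective _) _
  have ix : ((S.comap r).map (centralizer ({z} : Set G)).subtype).relIndex (centralizer {z}) = 2 := by
    rw [relIndex, sub]
    refine index_eq_two_iff.2 ⟨u, fun c => ?_⟩
    simp only [mem_comap, map_mul, hu]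
    have x : ¬ (r c * i ∈ S ∧ r c ∈ S) := fun m => iS ((mul_mem_cancel_left m.2).1 m.1)
    rcases act c with k | k
    · exact Or.inr ⟨mS _ k.1 k.2, fun m => x ⟨m, mS _ k.1 k.2⟩⟩
    · have := mS (r c * i) (fun v hv => k.2 _ (p.UW v hv)) fun v hv => k.1 _ (p.WU v hv)
      exact Or.inl ⟨this, fun m => x ⟨this, m⟩⟩
  have un : u.1 ∉ (S.comap r).map (centralizer ({z} : Set G)).subtype := fun m =>
    iS (hu ▸ sub.le (show u ∈ _ from m))
  have uz := mem_c.1 u.2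
  obtain ⟨T, t1, t2, t3, t4⟩ := l.xh.exists_T uz (u2.mem lx.z_mem (one_mem _))
  have qq : ∀ a ∈ U, ∀ b ∈ U, q (a + i.1 b) = polar q a (i.1 b) := fun a ha b hb => by
    rw [polar, p.sU a ha, p.sW _ (p.UW b hb), sub_zero, sub_zero]
  obtain ⟨y0, y1, y2, y3⟩ : ∃ y, IsConj z y ∧ y ≠ z ∧ ∀ x ∈ T, x * y = y * x := by
    rcases eqv_one_iff.1 u2 with e | e
    · exact l.xh.transfer (map_subtype_le _) ix uz un e t1 t2
    · obtain ⟨b, hb, k⟩ := p.exists_one ha0 n0
      obtain ⟨x, hx, e1⟩ := o.surj (a0 + i.1 b)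
      obtain ⟨w, hw, e2⟩ := o.surj (b + i.1 (a0 + b))
      refine l.xh.transfer4 (map_subtype_le _) ix uz un e (o.sq_z hx ?_) (o.sq_z hw ?_)
        (o.sq_z (mul_mem hx hw) ?_) t1 t2
      · rw [e1, qq _ ha0 _ hb, k]
      · rw [e2, qq _ hb _ (add_mem ha0 hb), map_add, polar_add_right, p.alt b hb, p.sw, k, add_zero]
      · rw [o.add _ hx _ hw, e1, e2, map_add i.1, show a0 + i.1 b + (b + (i.1 a0 + i.1 b)) =
          a0 + b + i.1 a0 + (i.1 b + i.1 b) by abel, two_add_self, add_zero,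
          qq _ (add_mem ha0 hb) _ ha0, polar_add_left, p.alt _ ha0, p.sw, k, zero_add]
  let y : centralizer ({z} : Set G) := ⟨y0, mem_c.2 (y3 z (t4 z lx.z_mem uz.symm)).symm⟩
  have triv : ∀ c : centralizer ({z} : Set G), (∀ e ∈ O2C z, i.1 (π e) = π e → c * e = e * c) →
      c.1 ∈ O2C z ∨ r c = i := fun c k =>
    (p.triv (act c) fun v f => by
      obtain ⟨e, he, rfl⟩ := o.surj v
      exact o.fix_of_commute c he (k e he f)).imp_left (o.r_eq_one_iff c).1
  have hy : r y = i := (triv y fun e he f =>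
    (y3 e (t4 e he (k4_cent o p hu u2 he f))).symm).resolve_left fun m => by
      have k : FP z y0 := ⟨l.xh, y1, m, y2⟩
      exact k.T0 o (p.eq_zero (hu ▸ o.fix_of_commute u m (y3 u t3)) (h.om _ ((l.hΩ _).2 ⟨_, k, rfl⟩)))
  have h' := l.xh.of_isConj y1
  have yQ : y0 ∉ O2C z := fun m => p.ne_one (hy.symm.trans ((o.r_eq_one_iff y).2 m))
  have zn : z ∉ O2C y0 := fun m => yQ (FP.z_mem ⟨h', y1.symm, m, y2.symm⟩)
  have yz : y0 * z = z * y0 := mem_c.1 y.2
  have cE : ∀ e ∈ O2C z, i.1 (π e) = π e → e * y0 = y0 * e := fun e he f =>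
    k4_cent o p hy (Or.inl h'.zz) he f
  obtain ⟨d, d1, d2, d3⟩ : ∃ d ∈ O2C z, d ∈ O2C y0 ∧ d ≠ 1 := by
    by_contra n
    push Not at n
    refine (two_lt_card ⟨h'.lx, o.zz, yz.symm, zn⟩ h'.card).not_ge
      ((card_le_of_le (fun t ht => (mem_zpowers_invol h'.zz).2 ?_)).trans_eq
        ((Nat.card_zpowers y0).trans h'.xs.orderOf_z))
    rcases triv ⟨t, ht.2⟩ fun e he f => dd_eq_one.1 (n _ (dd_mem lx (mem_c.1 ht.2) he)
      (dd_inv_swap e t ▸ (O2C y0).inv_mem (dd_mem h'.lx (cE e he f) ht.1))) with m | m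
    · exact Or.inl (n t m ht.1)
    · have := (o.r_eq_one_iff (⟨t, ht.2⟩ * y⁻¹)).1 (by rw [map_mul, map_inv, m, hy, mul_inv_cancel])
      exact Or.inr (mul_inv_eq_one.1 (n _ this ((O2C y0).mul_mem ht.1 (inv_mem h'.xs.z_mem))))
  have three : ∀ a ∈ U, ∀ b ∈ U, polar q a (i.1 b) = 1 → ∃ s : centralizer ({z} : Set G),
      (s * y0 : G) = y0 * s ∧ (r s).1 a = b ∧ (r s).1 b = a + b ∧ (r s).1 (i.1 a) = i.1 b :=
    fun a ha b hb k => by
      obtain ⟨σ, s1, s2, s3, s4, s5, s6⟩ := p.exists_three ha hb k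
      obtain ⟨s, rfl, c⟩ := k4_lift o p hy h'.zz (l.hH ▸ h.gl σ s1 s2) s3 s4
      exact ⟨s, c, s5, s6, by rw [← OG.mul_apply, s3, OG.mul_apply, s5]⟩
  have full : ∀ c ∈ U, ∃ e ∈ O2C z ⊓ O2C y0, π e = c + i.1 c := by
    obtain ⟨a, ha, k⟩ := p.of_fix (hy ▸ o.fix_of_commute y d1 (h'.xs.z_comm d d2).symm)
    have a0 : a ≠ 0 := fun e => ((o.ker d d1).1 (by rw [k, e, map_zero, add_zero])).elim d3
      fun e => zn (e ▸ d2)
    have one : ∀ c ∈ U, polar q a (i.1 c) = 1 → ∃ e ∈ O2C z ⊓ O2C y0, π e = c + i.1 c :=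
      fun c hc f => by
        obtain ⟨s, s1, s2, -, s4⟩ := three a ha c hc f
        exact ⟨_, ⟨lx.norm s (mem_c.1 s.2) d d1, h'.lx.norm s s1 d d2⟩,
          by rw [o.act s d d1, k, map_add, s2, s4]⟩
    intro c hc
    rcases z2 (polar q a (i.1 c)) with f | f
    · obtain ⟨b, hb, g⟩ := p.exists_one ha a0
      obtain ⟨e, he, e1⟩ := one b hb g
      obtain ⟨e', he', e2⟩ := one (b + c) (add_mem hb hc) (by
        rw [map_add, polar_add_right, f, g, add_zero])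
      refine ⟨_, mul_mem he he', ?_⟩
      rw [o.add _ he.1 _ he'.1, e1, e2, map_add, show b + i.1 b + (b + c + (i.1 b + i.1 c)) =
        b + b + (i.1 b + i.1 b) + (c + i.1 c) by abel, two_add_self, two_add_self, add_zero, zero_add]
    · exact one c hc f
  have pd : ∀ x ∈ O2C z, π (dd y0 x) = π x + i.1 (π x) := fun x hx => k4_pi_dd o hy hx
  have mul : ∀ x ∈ O2C z, ∀ w ∈ O2C z, π x ∈ U → π w ∈ U → dd y0 (x * w) = dd y0 x * dd y0 w ∧
      polar q (π x) (i.1 (π w)) = 0 ∨ dd y0 (x * w) = dd y0 x * (dd y0 w * z) ∧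
      polar q (π x) (i.1 (π w)) = 1 := fun x hx w hw m1 m2 => by
    have m := dd_mem lx yz hw
    have c := o.comm x hx _ m
    rw [pd w hw, polar_add_right, polar_of_sing p.sU m1 m2, zero_add] at c
    rw [dd_mul_right]
    exact (z2 _).imp (fun f => ⟨by rw [conj_eq_of_comm (c.2 f)], f⟩) fun f =>
      ⟨by rw [lx.toXS.conj_of_ne hx m fun k => zero_ne_one ((c.1 k).symm.trans f)], f⟩
  have A : ∀ x ∈ O2C z, π x ∈ U → π x ≠ 0 → dd y0 x ∉ O2C y0 := fun x hx m n k => by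
    obtain ⟨b, hb, g⟩ := p.exists_one m n
    obtain ⟨s, s1, s2, s3, -⟩ := three _ m b hb g
    have sz := mem_c.1 s.2
    have cj : ∀ x, dd y0 x ∈ O2C y0 → dd y0 (s * x * s.1⁻¹) ∈ O2C y0 := fun x k => by
      have := h'.lx.norm s s1 _ k
      rwa [conj_dd, conj_eq_of_comm s1] at this
    have x2 := lx.norm s sz x hx
    have x3 := lx.norm s sz _ x2
    have p2 : π (s * x * s.1⁻¹) = b := by rw [o.act s x hx, s2]
    have k3 := cj _ (cj x k)
    rw [dd_eqv yz (lx.z_comm _ (mul_mem hx x2)) (o.eqv_of_pi x3 (mul_mem hx x2) (by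
      rw [o.act s _ x2, p2, s3, o.add _ hx _ x2, p2]))] at k3
    rcases mul x hx _ x2 m (p2 ▸ hb) with f | f
    · exact zero_ne_one (f.2.symm.trans (p2 ▸ g))
    · rw [f.1, mul_mem_cancel_left k, mul_mem_cancel_left (cj x k)] at k3
      exact zn k3
  have B : ∀ x ∈ O2C z, π x ∈ U → π x ≠ 0 → dd y0 x * z ∈ O2C y0 := fun x hx m n => by
    obtain ⟨e, he, k⟩ := full _ m
    rcases o.eqv_of_pi (dd_mem lx yz hx) he.1 ((pd x hx).trans k.symm) with f | f
    · exact absurd (f ▸ he.2) (A x hx m n)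
    · rw [f, mul_assoc, o.zz, mul_one]; exact he.2
  obtain ⟨x, hx, rfl⟩ := o.surj a0
  obtain ⟨w, hw, rfl⟩ := o.surj b0
  refine A _ (mul_mem hx hw) (o.add _ hx _ hw ▸ add_mem ha0 hb0)
    (fun e => n2 (two_eq_of_add (o.add _ hx _ hw ▸ e))) ?_
  rcases mul x hx w hw ha0 hb0 with f | f
  · have := mul_mem (B x hx ha0 n0) (B w hw hb0 n1)
    rwa [mul_assoc, ← mul_assoc z, ← lx.z_comm _ (dd_mem lx yz hw), mul_assoc, o.zz, mul_one,
      ← f.1] at this
  · exact absurd (n3.symm.trans f.2) zero_ne_one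

end Cfsg.Agent.X9
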