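import Cfsg.Agent.X9.BdB

/-! Conjugates of `z` in `C(z) \ Q`.  The finite check is in `X9/BdA`, the main bound in `X9/BdB`.

Setting: `t ~ z`, `tz = zt`, `t ∉ Q = Q_z`, so `z ∉ Q_t` (`FP.z_mem`); `Cs t φ d` by `Cs.of_isConj`.
`D = Q ⊓ Q_t` is elementary abelian, `z ∉ D`; `T = C_Q(t)`, `T' = C_{Q_t}(z) ∋ t`; `[T,T'] ≤ D`, `D` centralises
`T` and `T'` (`[D,T'] ≤ ⟨t⟩ ⊓ Q = 1`), squares and commutators of `T'` lie in `⟨t⟩`; `T' ⊓ Q = D`.
* If `D` contains a conjugate `s` of `z` then `FP z s`, `FP t s`, so `t ∈ Q_s` (neighbour); then (`trans`, `aA'`) `t`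
  acts as a conjugate of `tr i`, `i ≠ 0`, which fixes 16 vectors: `|T| ≤ 32`.  Having a neighbour is symmetric in
  `z, t`.
* MAIN BOUND (no neighbour): `|T'| ≤ 32`; `|T'| ≤ 16` if `t` is not of type c4 (rank 4 and `b(v, t v) = 1` for
  some `v`); `|T'| ≤ 8` if `t` is c4 and `d = d9`, or `d = d15` and `t ∈ C0`.  Proof: `exists_fix` for the
  2-group `T'` (conjugate `t` by `c ∈ C0 z`): all `g ∈ T'` act by matrices of `d.na`, `t` by an involution `M`.
  The codes of `T` form `Tt = {v | M v = v, b(w,v) = 0}` for a `w` with `b(w,·) = q` on `[V,M]`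
  (`x ↦ [x,t] ∈ ⟨z⟩` is a homomorphism on `{x | M x̃ = x̃}`, equal to `x ↦ x²` on `dd t y`; one may instead
  run over the subspaces `Tt` of index ≤ 2 of `C_V(M)` with `Tt ∩ [V,M] = singular vectors of [V,M]`); the codes
  of `D` form a subspace `Dt ≤ {v ∈ Tt | q v = 0, v ⊥ Tt}` without points of `d.om`, `|D| = |Dt|`;
  `|T'| ≤ |Dt| · #K`, `K = {N ∈ na | NM = MN, N² ∈ {1,M}, N fixes Dt, (N+1) Tt ⊆ Dt}`.  bd.py lists
  `(type, |T|, |Dt|, #K)`: always `|Dt| ≤ 4` and the bounds above hold without using that `|T'|` is a power of 2.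
  (Generate certificates: for every involution `M` of `na` the list of `(Tt, Dt)`; `Dt = {0,a,b,a^^^b}`.)
* `nr`: apply the main bound to the pair `(t,z)`.
* `nb`: `t` of alternating type.  By `nr` it fixes at most 32 codes·, so `M` is a4, `T = π⁻¹[V,M]` has order 32.
  Without neighbour the main bound for `(t,z)` shows that `z` is c4 on `Q_t`: there is `y ∈ Q_t` with
  `x = dd z y` of order 4, `x² = t`, inverted by `z`; conjugation by `x` swaps `z` and `zt`.  So `zt ~ z` acts on `Q_z`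
  like `t` and `z` acts on `Q_{zt}` of alternating type; the main bound for `(zt, z)` gives `|C_Q(zt)| = 32 ≤ 16` unless
  `z, zt` have a neighbour `s`; then `z, zt ∈ Q_s`, `t ∈ Q_s`.
* `na9`, `na15`: without neighbour `t` and (symmetrically) `z` are not alternating; all involutions of `na` for
  `d9, d15` are a2, a4 or c4; so both are c4, `|T| = 16` (c4: `C_V(M) = [V,M]`) against the bound 8 for `(t,z)`.
  For `d15` membership in `C0` excludes the class c4o: use `Cs.mem_C0` and the orbit of the pair `(3,12)` under the letters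
  (180 pairs, tools/x9/trc.py), as a bit mask on `256 v + w`; `centralizer {t} ≤ C0 t` by conjugation. -/

set_option autoImplicit false

namespace Cfsg.Agent.X9

open Subgroup Cfsg.Agent.TT Cfsg.Agent.LES Cfsg.Agent.XSC Cfsg.Agent.XSC.WC Cfsg.Agent.XW
  Cfsg.Agent.J4 Cfsg.Agent.Comp
open Cfsg.Agent.Comp.BN (nth ev ev_cons)
open Cfsg.Agent.X7 (mem_c eqv_one_iff_mem)
open Cfsg.Agent.ThT (x8 p8 l12 i8 app_i8 mw)

variable {G : Type*} [Group G] [Finite G] {z : G} {ψ : ℕ → G} {d : Dt}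

namespace Bd

variable {t : G}

theorem main' (h : Cs z ψ d) (hd : d = d27 ∨ d = d81 ∨ d = d75 ∨ d = d15 ∨ d = d9) (o : Out z t)
    (n : ¬ Nb z t) : Nat.card (O2C t ⊓ centralizer {z} : Subgroup G) ≤ 32 ∧
      (Alt z t → Nat.card (O2C t ⊓ centralizer {z} : Subgroup G) ≤ 16) := by
  have k : d.ok = true ∧ d.odd ∧ ∃ β cs, top d β cs = true ∧ ∀ M, β M ≤ 32 := by
    rcases hd with rfl | rfl | rfl | rfl | rfl
    exacts [⟨ok27, odd27, _, _, top27, fun _ => le_rfl⟩, ⟨ok81, odd81, _, _, top81, fun _ => le_rfl⟩,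
      ⟨ok75, odd75, _, _, top75, fun _ => le_rfl⟩, ⟨ok15, odd15, _, _, top15, β15_le⟩,
      ⟨ok9, odd9, _, _, top9, fun _ => by decide⟩]
  obtain ⟨ok, od, β, cs, tp, le⟩ := k
  obtain ⟨φ, M, h', a, e⟩ := main h ok od o n tp
  rw [ite'_eq] at e
  refine ⟨e.trans ?_, fun c => by rwa [if_pos ((Out.alt_iff h'.toCF a).1 c)] at e⟩
  split_ifs
  exacts [by decide, le M]

theorem nb (h : Cs z ψ d) (hd : d = d27 ∨ d = d81 ∨ d = d75 ∨ d = d15 ∨ d = d9) (o : Out z t)
    (a : Alt z t) : Nb z t := by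
  by_contra n
  have xt := o.ht.xs
  have key : ∀ {s}, Out z s → Alt z s → Alt s z → Nb s z := fun {s} o a c => by
    by_contra n
    obtain ⟨φ, h'⟩ := h.of_isConj o.conj
    exact absurd ((main' h' hd o.symm n).2 c) (not_le.2 (o.lower_alt a))
  have c : ¬ Alt t z := fun c => n (o.symm.nb_symm (key o a c))
  simp only [Alt, not_forall] at c
  obtain ⟨y, hy, c⟩ := c
  have hx := dd_mem o.ht.lx o.tz.symm hy
  have x2 : dd z y * dd z y = t := (xt.sq hx).resolve_left fun e => c <| by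
    rw [← sqv_eq_zero, sqv_dd o.ht.lx o.tz.symm hy, cmv_eq_zero] at e
    rw [← dd_mul_self, ← mul_assoc, ← e]
  have xi := o.symm.dd_inv y
  generalize dd z y = x at hx x2 xi
  have e1 : x * z * x⁻¹ = t * z := by rw [← xi, ← x2]; simp [mul_assoc, h.xs.z_inv, ← mul_assoc z z, h.zz]
  have e2 : x * (t * z) * x⁻¹ = z := by
    rw [← conj_mul, e1, conj_eq_of_comm (xt.z_comm x hx), ← mul_assoc, xt.z_sq, one_mul]
  have o' : Out z (t * z) := ⟨o.xh, e1 ▸ isConj_cj x z, comm_mul_left o.tz rfl,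
    fun m => o.out (by simpa using mul_mem m (inv_mem h.xs.z_mem))⟩
  have a' : Alt z (t * z) := fun w hw => by
    rw [show t * z * w * (t * z)⁻¹ = t * (z * w * z⁻¹) * t⁻¹ by group,
      conj_eq_of_comm (h.xs.z_comm w hw).symm]
    exact a w hw
  obtain ⟨s, k, m⟩ := o'.symm.nb_symm (key o' a' fun w hw => by
    rw [← e1, mem_O2C_conj] at hw
    have := (comm_conj_iff x _ _).2 (a' _ hw)
    rw [← conj_mul (a := t * z * _), ← conj_mul (a := t * z), ← conj_inv, e2] at this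
    simpa [mul_assoc] using this)
  exact n ⟨s, k, by simpa using mul_mem m (inv_mem k.z_mem)⟩

theorem na (h : Cs z ψ d) (hd : d = d27 ∨ d = d81 ∨ d = d75 ∨ d = d15 ∨ d = d9) (ok : d.ok = true)
    (od : d.odd) {β : ℕ → ℕ} {cs : List (ℕ × List ℕ)} (tp : top d β cs = true) (o : Out z t)
    (hβ : ∀ φ M, Cs t φ d → Ac t φ z M → β M ≤ 8) : Nb z t := by
  by_contra n
  have n' : ¬ Nb t z := fun c => n (o.symm.nb_symm c)
  obtain ⟨φ, h'⟩ := h.of_isConj o.conj
  obtain ⟨φ, M, h', a, e⟩ := main h' ok od o.symm n' tp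
  rw [ite'_eq, if_neg fun c => n' (nb h' hd o.symm ((Out.alt_iff h'.toCF a).2 c))] at e
  exact absurd (e.trans (hβ φ M h' a)) (not_le.2 o.lower)

end Bd

theorem Cs.nr (h : Cs z ψ d) (hd : d = d27 ∨ d = d81 ∨ d = d75 ∨ d = d15 ∨ d = d9) : NR z :=
  fun t a b c => by
  have o : Bd.Out z t := ⟨h.xh, a, b, c⟩
  by_cases n : Bd.Nb z t
  · refine Bd.nb_le h ?_ o n
    rcases hd with rfl | rfl | rfl | rfl | rfl
    exacts [ok27, ok81, ok75, ok15, ok9]
  · obtain ⟨φ, h'⟩ := h.of_isConj a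
    exact (Bd.main' h' hd o.symm fun e => n (o.symm.nb_symm e)).1

theorem Cs.nb (h : Cs z ψ d) (hd : d = d27 ∨ d = d81 ∨ d = d75 ∨ d = d15 ∨ d = d9) : NB z :=
  fun _ a b c => Bd.nb h hd ⟨h.xh, a, b, c⟩

theorem Cs.na9 (h : Cs z ψ d9) : NA z := fun _ a b c =>
  Bd.na h (by simp) ok9 odd9 Bd.top9 ⟨h.xh, a, b, c⟩ fun _ _ _ _ => le_rfl

theorem Cs.na15 (h : Cs z ψ d15) (hC : centralizer {z} ≤ C0 z) : NA z := fun t a b c =>
  Bd.na h (by simp) ok15 odd15 Bd.top15 ⟨h.xh, a, b, c⟩ fun φ M h' e => by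
    obtain ⟨g, rfl⟩ := isConj_iff.1 a
    obtain ⟨W, f⟩ := (h.mem_C0 ok15).1 (hC (mem_c.2 (show g⁻¹ * z * g * z = z * (g⁻¹ * z * g) by
      simpa [mul_assoc] using (comm_conj_iff g⁻¹ _ _).2 b.symm)))
    have := f.map_conj g
    rw [show g * (g⁻¹ * z * g) * g⁻¹ = z by group] at this
    obtain ⟨U, k⟩ := (h'.mem_C0 ok15).1 (((h.map_conj g).mem_C0 ok15).2 ⟨W, this⟩)
    rw [Bd.β15, h'.ac_unique e k (by decide), h'.ac_unique e k (by decide),
      show Bd.mem (Nat.add (Nat.mul _ _) _) _ = true from Bd.mem_iff.2 (Bd.o15_word U).2.2]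
    exact le_rfl

end Cfsg.Agent.X9
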