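import Cfsg.Agent.X9.Def2
import Cfsg.Agent.Mon.HNd

/-! The case `A₅ ≀ 2`: the Harada–Norton group. -/

set_option autoImplicit false

namespace Cfsg.Agent.X9

open Subgroup Cfsg.Agent.TT Cfsg.Agent.LES Cfsg.Agent.XSC Cfsg.Agent.XSC.WC Cfsg.Agent.XW
  Cfsg.Agent.J4 Cfsg.Agent.Comp
open Cfsg.Agent.Comp.BN (nth ev ev_cons)
open Cfsg.Agent.X7 (mem_c eqv_one_iff_mem)
open Cfsg.Agent.ThT (x8 p8 l12 i8 app_i8 mw)

variable {G : Type*} [Group G] [Finite G] {z : G} {ψ : ℕ → G} {d : Dt}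

namespace HNa

/-- change of coordinates -/
def P : ℕ := 0xf0cc0cf0800a5033053028

def Pi : ℕ := 0x100b00b60d20b70570990f9

/-- an involution in one of the two factors `A₅` -/
def M3 : ℕ := 0xba0750ea0d50ae05d0ab057

/-- ten sets of vectors permuted by `A₅ ≀ 2` -/
def ms : List ℕ := [0x1668c404808a0110a30000120014669980104502018c686822063cc05aa07ef9,
  0x166880048a020b10d10050120014668880b001a20104686800063cc05aa57eed,
  0x166880c4800201d08d0000120c146688b01001023104686800063cc35aa07eeb,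
  0x1668880ca02201108100081a20346688c05001020104696940463cc05aa07fe9,
  0x966980048002053081000252101c66888010110a0344686804263cc05aa0fee9,
  0x68804153091d80070017c145890b18602127801580131781a131422824480101,
  0x68800d1301158c0730178105b103186001c7801580d316808111422b24480003,
  0x6880019b2315800744178105810318710107809da2131680c511422824480011,
  0x6880011301b580a70a178b05810318605107d0158013168081114228244d0005,
  0xe8810113011582470017910d8523186001078435901b16808351422824488001]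

noncomputable def mp (M a b : ℕ) : Bool :=
  allLT 256 fun v => or' (not' (tb a v)) (and' (Nat.blt (app M v) 256) (tb b (app M v)))

noncomputable def pm (M : ℕ) : Bool := force M fun M => allL ms fun a => anyL ms (mp M a)

theorem pm_iff {M : ℕ} : pm M = true ↔ ∀ a ∈ ms, ∃ b ∈ ms, ∀ v < 256, a.testBit v = true →
    app M v < 256 ∧ b.testBit (app M v) = true := by
  simp only [pm, mp, force_eq, allL_iff, anyL_iff, allLT_iff, or'_eq_true, not'_eq_true, and'_eq_true,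
    tb_eq, blt_iff, ← imp_iff_not_or]

theorem pm_word (W : List ℕ) : pm (mw d75.ls W) = true := by
  induction W with
  | nil => decide +kernel
  | cons k W ih =>
    have a : pm (d75.ls k) = true := Comp.BN.nth_prop (fun M => pm M = true) _ _ (by decide +kernel)
      (by decide +kernel) k
    rw [pm_iff] at a ih ⊢
    intro x hx
    obtain ⟨y, hy, e⟩ := ih x hx
    obtain ⟨w, hw, f⟩ := a y hy
    refine ⟨w, hw, fun v hv c => ?_⟩
    rw [show mw d75.ls (k :: W) = mm (d75.ls k) (mw d75.ls W) from rfl, app_mm _ _ (l12 hv)]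
    exact f _ (e v hv c).1 (e v hv c).2

theorem eq8_of {M N : ℕ} (h : ∀ v < 256, app M v = app N v) : eq8 M N = true :=
  (allLT_iff _ _).2 fun i hi => (beq_iff _ _).2 (by
    rw [← app_two_pow M (by omega), ← app_two_pow N (by omega), h _ (p8 hi)])

/-- `M` is conjugate to a member of `Ns` -/
noncomputable def cj (Ws : List (List ℕ)) (Ns : List ℕ) (M : ℕ) : Bool :=
  force M fun M => anyL Ws fun W => force (mw d75.ls W) fun T => anyL Ns fun N => eq8 (mm T N) (mm M T)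

noncomputable def c1 : ℕ → Bool := cj [[], [5, 4], [2, 5, 4]] ([1, 2, 3, 4, 5, 6, 7].map tr)

noncomputable def c3 : ℕ → Bool := cj [[], [2], [5, 4], [5, 4, 2], [4, 0, 3], [5, 0, 3]] [M3]

theorem fa : ∀ M ∈ d75.na, eq8 (mm M M) i8 = true → pm M = true →
    eq8 M i8 = true ∨ c1 M = true ∨ c3 M = true := by decide +kernel

theorem fb : ∀ i < 8, eq8 (mm (mm M3 (tr i)) (mm M3 (tr i))) i8 = true →
    eq8 (mm M3 (tr i)) i8 = false ∧ (i = 0 ∨ i = 2 ∨ c1 (mm M3 (tr i)) = true) := by decide +kernel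

theorem fc : ∀ v < 256, bil d75.b v 255 = 0 → ∃ l < 256, la.testBit l = true ∧
    d75.om.testBit (v ^^^ l) = true := by decide +kernel

theorem fd : ∀ i ∈ [1, 2, 3, 4, 5, 6, 7], i < 8 ∧ ∀ v < 256, app (tr i) v < 256 ∧
    (app (tr i) v = v → ∃ w < 256, app (tr i) w ^^^ w = v) := by decide +kernel

theorem fe : ∀ v < 256, app M3 v < 256 ∧ (app M3 v = v → bil d75.u v v = 0 ∧
    (∃ w < 256, app M3 w ^^^ w = v) ∧
      (la.testBit v = true → v = 0 ∨ v = 15 ∨ v ^^^ 255 = 0 ∨ v ^^^ 255 = 15)) := by decide +kernel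

/-- the matrix `M` corresponds to the word `u` -/
noncomputable def lk (M : ℕ) (u : List ℕ) : Bool :=
  withRL 256 8 fun R L => force (appW R Mont.C5.ns u L) fun T => force M fun M =>
    allLT 256 fun i => Nat.beq (app M (app P i)) (app P (val 256 R T i))

theorem of_lk {M : ℕ} {u : List ℕ} (h : lk M u = true) :
    ∀ i < 256, app M (app P i) = app P (wp Mont.C5.ns u i) := fun i hi => by
  simp only [lk, withRL_eq Mont.C5.ctx.pos, force_eq, allLT_iff, beq_iff] at h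
  rw [h i hi, ((tab_idP Mont.C5.ctx.le).appW Mont.C5.ctx.ok _).val (by norm_num) Mont.C5.ctx.le hi,
    one_mul]

theorem fq : ∀ i < 256, app P i < 256 ∧ app Pi i < 256 ∧ app P (app Pi i) = i ∧ app Pi (app P i) = i ∧
    (bil d75.u (app P i) (app P i) = 0 ↔ Mon.HN.Qf.testBit i = false) ∧
    (Mont.C5.D4.testBit i = true → d75.om.testBit (app P i) = true) := by decide +kernel

theorem lk_word (W : List ℕ) : ∃ p ∈ Mon.HN.Γ, ∀ i < 256, app (mw d75.ls W) (app P i) = app P (p i) := by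
  induction W with
  | nil => exact ⟨1, one_mem _, fun i hi => app_i8 _ (fq i hi).1⟩
  | cons k W ih =>
    obtain ⟨u, a⟩ : ∃ u, lk (d75.ls k) (subW Mont.C5.G_ss0 u) = true :=
      Comp.BN.nth_prop (fun M => ∃ u, lk M (subW Mont.C5.G_ss0 u) = true) _ _ ⟨[], by decide +kernel⟩
        (fun M hM => ((by decide +kernel : ∀ M ∈ tr 1 :: tr 2 :: tr 4 :: d75.gs.map Prod.snd,
          ∃ u ∈ [[2, 1, 2, 0, 0, 3, 0, 3], [1, 2, 0, 0, 3, 0], [2, 1, 3, 0, 0, 3, 0, 2, 0, 2],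
            [3, 1, 2, 0, 2, 0, 2, 0, 0, 2], [2, 0, 0, 3], [3, 1, 2, 0, 0, 2, 0, 2, 1]],
              lk M (subW Mont.C5.G_ss0 u) = true) M hM).imp fun _ a => a.2) k
    obtain ⟨p, hp, e⟩ := ih
    refine ⟨_, mul_mem (subW_mem _ _ u) hp, fun i hi => ?_⟩
    rw [show mw d75.ls (k :: W) = mm (d75.ls k) (mw d75.ls W) from rfl, app_mm _ _ (l12 (fq i hi).1),
      e i hi, of_lk a _ (Mon.HN.lt256 hp hi)]
    rfl

variable {u x y g c : G} {M N T v w : ℕ}

omit [Finite G] in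
theorem recoord (h : Cs z ψ d) (hc : c * z = z * c) (a : Ac z ψ (c⁻¹ * u * c) N) :
    ∃ φ, Cs z φ d ∧ Ac z φ u N := by
  have h1 := h.map_conj c
  have h2 := a.map_conj c
  rw [conj_eq_of_comm hc] at h1 h2
  exact ⟨_, h1, by simpa [mul_assoc] using h2⟩

omit [Finite G] in
theorem of_cj (h : Cs z ψ d75) (a : Ac z ψ u M) {Ws : List (List ℕ)} {Ns : List ℕ}
    (e : cj Ws Ns M = true) (hN : ∀ N ∈ Ns, ∀ v < 256, app N v < 256) :
    ∃ N ∈ Ns, ∃ φ, Cs z φ d75 ∧ Ac z φ u N := by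
  simp only [cj, force_eq, anyL_iff] at e
  obtain ⟨W, -, N, hN', e⟩ := e
  obtain ⟨ρ, hρ⟩ := h.exists_ls ok75
  have b := h.ac_word (fun k => (hρ k).2) W
  refine ⟨N, hN', recoord h b.1 ⟨comm_mul_left (comm_mul_left (comm_inv_left b.1) a.1) b.1,
    fun v hv => ⟨hN N hN' v hv, ?_⟩⟩⟩
  have c := (((h.ac_mul a b).of_eq8 e).2 v hv).2
  rw [app_mm _ _ (l12 hv)] at c
  simpa [mul_assoc] using (c.trans h.zz ((b.2 _ (hN N hN' v hv)).2.symm h.zz)).conj (comm_inv_left b.1)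

omit [Finite G] in
theorem cm (h : Cs z ψ d) (a : Ac z ψ x M) (x2 : x * x = 1) (e : Eqv z y (ψ v)) (hw : w < 256)
    (f : app M w ^^^ w = v) : Eqv z (x * y) (ψ w * x * (ψ w)⁻¹) := by
  have := (e.trans h.zz (f ▸ (h.mul_eqv (a.2 w hw).1 hw (a.2 w hw).2
    (eqv_inv h.xs (h.mem w))).symm h.zz)).mul_left x
  rwa [← mul_assoc, ← mul_assoc, ← mul_assoc, x2, one_mul, inv_eq_of_mul_eq_one_right x2] at this

theorem swap (h : Cs z ψ d75) : ∃ φ, Cs (ψ 255) φ d75 ∧ φ 255 = z := by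
  have k := h.fp ok75
  obtain ⟨φ, a⟩ := h.of_isConj k.conj
  obtain ⟨ρ, hρ⟩ := a.exists_ls ok75
  obtain ⟨e, -, b⟩ := a.trans ok75 (fun k => (hρ k).2) k.symm
  have c := (a.ac_word (fun k => (hρ k).2) e.2).1
  have l := (a.fp ok75).cj c
  obtain ⟨q, hq, f⟩ := exists_conj_of_eqv a.xs l.mem l.t_ne l.ne (b.symm a.zz)
  have := a.map_conj (q * ev ρ e.2)
  rw [conj_eq_of_comm (comm_mul_left (a.xs.z_comm q hq) c)] at this
  exact ⟨_, this, f ▸ by group⟩

theorem T0 (h : Cs z ψ d75) {i : ℕ} (hi : i < 8) : ∃ x, IsConj z x ∧ x * x = 1 ∧ Ac z ψ x (tr i) := by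
  obtain ⟨φ, k, e⟩ := swap h
  obtain ⟨x, hx, a⟩ := h.aA i hi
  obtain ⟨v, hv, b⟩ := k.onto x hx
  obtain ⟨l, hl, c, f⟩ := fc v hv ((k.comm_iff hv (by decide) b (Eqv.refl _ _)).1 (e ▸ a.1))
  have m := (k.fp_iff (k.mul_eqv hv hl b (Eqv.refl _ _))).2 ((k.om _ (x8 hv hl)).2 f)
  refine ⟨_, (h.fp ok75).conj.trans m.conj, m.tt, (h.ac_mul a (h.ac_of_mem (e ▸ (k.aL l hl).2 c))).congr
    fun v hv => ?_⟩
  rw [app_mm _ _ (l12 hv), app_i8 v hv]

theorem T1 (h : Cs z ψ d75) (a : Ac z ψ u M) (e : c1 M = true) (u2 : u * u = 1) :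
    IsConj z u ∨ IsConj z (u * z) := by
  obtain ⟨N, hN, φ, k, b⟩ := of_cj h a e (by
    simp only [List.forall_mem_map]
    exact fun i hi v hv => ((fd i hi).2 v hv).1)
  obtain ⟨i, hi, rfl⟩ := List.mem_map.1 hN
  obtain ⟨x, x1, x2, c⟩ := T0 k (fd i hi).1
  have m := k.inv_mul_mem c b
  obtain ⟨v, hv, f⟩ := k.onto _ m
  obtain ⟨w, hw, o⟩ := ((fd i hi).2 v hv).2 (k.inj _ (c.2 v hv).1 _ hv
    (((k.ac_eqv c hv f).symm k.zz).trans k.zz (Eqv.trans k.zz (by
      rw [mul_inv_cancel_left, mul_inv_rev, inv_inv, inv_eq_of_mul_eq_one_right u2,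
        inv_eq_of_mul_eq_one_right x2]
      exact Eqv.refl _ _) ((eqv_inv k.xs m).trans k.zz f))))
  have := cm k c x2 f hw o
  rw [mul_inv_cancel_left] at this
  rcases this with p | p
  · exact Or.inl (p ▸ x1.trans (isConj_cj _ _))
  · exact Or.inr (by rw [p, mul_assoc _ z, k.zz, mul_one]; exact x1.trans (isConj_cj _ _))

/-- neither `u` nor `u z` is conjugate to `z` -/
structure Gd (z u : G) : Prop where
  sq : u * u = 1
  cm : u * z = z * u
  n1 : ¬ IsConj z u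
  n2 : ¬ IsConj z (u * z)

/-- the classification of such elements -/
def Cl (z : G) : Prop := ∀ u, Gd z u → u ∉ O2C z → ∃ φ, Cs z φ d75 ∧ Ac z φ u M3

omit [Finite G] in
theorem Cl.conj (h : Cl z) {s : G} (e : IsConj z s) : Cl s := by
  obtain ⟨c, rfl⟩ := isConj_iff.1 e
  intro u a b
  obtain ⟨u, rfl⟩ : ∃ y, u = c * y * c⁻¹ := ⟨c⁻¹ * u * c, by group⟩
  obtain ⟨φ, k, f⟩ := h u ⟨by simpa only [conj_mul, conj_eq_one_iff] using a.sq,
    (comm_conj_iff c _ _).1 a.cm, fun m => a.n1 ((e.symm.trans m).trans (isConj_cj _ _)),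
    fun m => a.n2 (by rw [conj_mul]; exact (e.symm.trans m).trans (isConj_cj _ _))⟩
    fun m => b (conj_mem_O2C_conj c m)
  exact ⟨_, k.map_conj c, f.map_conj c⟩

theorem cl (h : Cs z ψ d75) (hC : centralizer {z} ≤ C0 z) : Cl z := fun u a b => by
  have := Fact.mk Nat.prime_two
  obtain ⟨c, hc, e⟩ := h.exists_fix ok75 odd75 (P := zpowers u) (IsPGroup.of_card (n := 1) (by
    rw [Nat.card_zpowers, pow_one]
    exact orderOf_eq_prime (by rw [sq, a.sq]) fun e => b (e ▸ one_mem _)))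
    (zpowers_le.2 (mem_c.2 a.cm))
  obtain ⟨M, hM, e⟩ := e u (mem_zpowers u)
  obtain ⟨φ, k, f⟩ := recoord h (mem_c.1 (C0_le h.xh hc)) e
  obtain ⟨W, m⟩ := (k.mem_C0 ok75).1 (hC (mem_c.2 a.cm))
  rcases fa M hM (eq8_of fun v hv => k.ac_unique (k.ac_mul f f) (a.sq ▸ k.ac_of_mem (one_mem _)) hv)
    (pm_iff.2 fun x hx => (pm_iff.1 (pm_word W) x hx).imp fun y hy =>
      ⟨hy.1, fun v hv => k.ac_unique m f hv ▸ hy.2 v hv⟩) with p | p | p
  · exact (b (k.mem_of_ac f fun v hv => (app_eq8 p v hv).trans (app_i8 v hv))).elim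
  · exact ((T1 k f p a.sq).elim a.n1 a.n2).elim
  · obtain ⟨N, hN, r⟩ := of_cj k f p (by simpa using fun v hv => (fe v hv).1)
    exact List.mem_singleton.1 hN ▸ r

omit [Finite G] in
theorem fix3 (h : Cs z ψ d75) (a : Gd z u) (b : Ac z ψ u M3) (hv : v < 256) (e : Eqv z y (ψ v))
    (f : app M3 v = v) : y * y = 1 ∧ u * y = y * u ∧ ¬ IsConj z (u * y) := by
  obtain ⟨f1, ⟨w, hw, f2⟩, -⟩ := (fe v hv).2 f
  have y2 := (h.sq_iff hv e).2 f1
  have k : ∃ r, r * r = 1 ∧ ¬ IsConj z r ∧ u * y = ψ w * r * (ψ w)⁻¹ := by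
    rcases cm h b a.sq e hw f2 with c | c
    · exact ⟨u, a.sq, a.n1, c⟩
    · refine ⟨u * z, by rw [mul_assoc, ← mul_assoc z, ← a.cm, mul_assoc, h.zz, mul_one, a.sq], a.n2, ?_⟩
      rw [c, ← conj_mul, conj_eq_of_comm (h.xs.z_comm _ (h.mem w))]
  obtain ⟨r, r2, r1, c⟩ := k
  refine ⟨y2, ?_, fun m => r1 (m.trans (c ▸ (isConj_cj _ _).symm))⟩
  rw [← inv_eq_of_mul_eq_one_right (show u * y * (u * y) = 1 by rw [c, conj_mul, r2]; simp),
    mul_inv_rev, inv_eq_of_mul_eq_one_right y2, inv_eq_of_mul_eq_one_right a.sq]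

omit [Finite G] in
theorem fix3' (h : Cs z ψ d75) (a : Gd z u) (b : Ac z ψ u M3) (hy : y ∈ O2C z) (c : u * y = y * u) :
    ∃ v < 256, Eqv z y (ψ v) ∧ app M3 v = v := by
  obtain ⟨v, hv, e⟩ := h.onto y hy
  have := h.ac_eqv b hv e
  rw [conj_eq_of_comm c] at this
  exact ⟨v, hv, e, h.inj _ (fe v hv).1 _ hv ((this.symm h.zz).trans h.zz e)⟩

theorem no3 (h : Cs z ψ d75) (hc : Cl z) (a : Gd z u) (b : Ac z ψ u M3) : False := by
  have k := h.fp ok75
  obtain ⟨s2, us, ns⟩ := fix3 h a b (v := 255) (by decide) (Eqv.refl _ _) (by decide +kernel)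
  have a' : Gd (ψ 255) u := ⟨a.sq, us, fun m => a.n1 (k.conj.trans m), fun m => ns (k.conj.trans m)⟩
  obtain ⟨φ, l, b'⟩ := hc.conj k.conj u a' fun m => by
    obtain ⟨i, hi, e⟩ := h.aA' u m a.cm
    exact (by decide +kernel : ∀ i < 8, eq8 M3 (tr i) = false) i hi ▸ Bool.false_ne_true
      |> fun n => n (eq8_of fun v hv => h.ac_unique b e hv)
  have F : ∀ x ∈ O2C (ψ 255), u * x = x * u → x * x = 1 ∧ ¬ IsConj z (u * x) := fun x hx c => by
    obtain ⟨v, hv, e, f⟩ := fix3' l a' b' hx c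
    exact ⟨(fix3 l a' b' hv e f).1, fun m => (fix3 l a' b' hv e f).2.2 (k.conj.symm.trans m)⟩
  have A : ∀ x ∈ O2C (ψ 255), u * x = x * u → x ∈ O2C z ∨ Ac z ψ x (tr 2) := fun x hx c => by
    have p := F x hx c
    have q := F _ (mul_mem hx k.z_mem) (Commute.mul_right c a.cm)
    have xz : x * z = z * x := by
      rw [← inv_eq_of_mul_eq_one_right q.1, mul_inv_rev, inv_eq_of_mul_eq_one_right p.1,
        inv_eq_of_mul_eq_one_right h.zz]
    obtain ⟨i, hi, e⟩ := h.aA' x hx xz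
    have f := h.ac_mul b e
    have x2 : u * x * (u * x) = 1 := by rw [mul_assoc, ← mul_assoc x, ← c, mul_assoc, p.1, mul_one, a.sq]
    rcases (fb i hi (eq8_of fun v hv =>
      h.ac_unique (h.ac_mul f f) (x2 ▸ h.ac_of_mem (one_mem _)) hv)).2 with rfl | rfl | m
    · exact Or.inl (h.mem_of_ac e (by decide +kernel))
    · exact Or.inr e
    · exact ((T1 h f m x2).elim p.2 (mul_assoc u x z ▸ q.2)).elim
  obtain ⟨x₀, m0, c0, A'⟩ : ∃ x₀ ∈ O2C (ψ 255), u * x₀ = x₀ * u ∧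
      ∀ x ∈ O2C (ψ 255), u * x = x * u → x ∈ O2C z ∨ x₀⁻¹ * x ∈ O2C z := by
    by_cases c : ∃ x₀ ∈ O2C (ψ 255), u * x₀ = x₀ * u ∧ Ac z ψ x₀ (tr 2)
    · obtain ⟨x₀, c1, c2, c3⟩ := c
      exact ⟨x₀, c1, c2, fun x hx e => (A x hx e).imp_right (h.inv_mul_mem c3)⟩
    · exact ⟨1, one_mem _, by simp, fun x hx e => Or.inl ((A x hx e).resolve_right fun f => c ⟨x, hx, e, f⟩)⟩
  have E : ∀ x ∈ O2C (ψ 255), u * x = x * u → x ∈ O2C z →
      ∃ r ∈ [1, 1 * z, ψ 15, ψ 15 * z], Eqv (ψ 255) x r := fun x hx c m => by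
    obtain ⟨v, hv, e, f⟩ := fix3' h a b m c
    have p := h.mul_eqv hv (by decide : 255 < 256) e (Eqv.refl _ _)
    have q : Eqv (ψ 255) x (x * ψ 255) := Or.inr (by rw [mul_assoc, s2, mul_one])
    rcases ((fe v hv).2 f).2.2 ((h.aL v hv).1 ((e.symm h.zz).mem k.z_mem hx)) with o | o | o | o
    · rcases (o ▸ e).trans h.zz h.zero with o | o <;> exact ⟨_, by simp [o], Eqv.refl _ _⟩
    · rcases o ▸ e with o | o <;> exact ⟨_, by simp [o], Eqv.refl _ _⟩
    · rcases (o ▸ p).trans h.zz h.zero with o | o <;> exact ⟨_, by simp [o], q⟩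
    · rcases o ▸ p with o | o <;> exact ⟨_, by simp [o], q⟩
  have cd : ∀ r, ∃ n, ∀ v < 256, Eqv (ψ 255) (φ v) r → v = n := fun r => by
    by_cases c : ∃ v < 256, Eqv (ψ 255) (φ v) r
    · obtain ⟨n, hn, c⟩ := c
      exact ⟨n, fun v hv e => l.inj v hv n hn (e.trans s2 (c.symm s2))⟩
    · exact ⟨0, fun v hv e => (c ⟨v, hv, e⟩).elim⟩
  choose cd hcd using cd
  have := (Finset.card_le_card (s := (Finset.range 256).filter fun v => app M3 v = v)
    (t := (([1, 1 * z, ψ 15, ψ 15 * z] ++ [1, 1 * z, ψ 15, ψ 15 * z].map (x₀ * ·)).map cd).toFinset)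
    fun v hv => by
      obtain ⟨hv, f⟩ := Finset.mem_filter.1 hv
      rw [Finset.mem_range] at hv
      have c := (fix3 l a' b' hv (Eqv.refl _ _) f).2.1
      rw [List.mem_toFinset, List.mem_map]
      rcases A' _ (l.mem v) c with m | m
      · obtain ⟨r, hr, e⟩ := E _ (l.mem v) c m
        exact ⟨r, List.mem_append_left _ hr, (hcd r v hv e).symm⟩
      · obtain ⟨r, hr, e⟩ := E _ (mul_mem (inv_mem m0) (l.mem v))
          (Commute.mul_right (Commute.inv_right c0) c) m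
        exact ⟨_, List.mem_append_right _ (List.mem_map_of_mem hr),
          (hcd _ v hv (by simpa using e.mul_left x₀)).symm⟩).trans (List.toFinset_card_le _)
  rw [(by decide +kernel : ((Finset.range 256).filter fun v => app M3 v = v).card = 16)] at this
  simp at this

end HNa

open HNa in
/-- The case `A₅ ≀ 2`. -/
theorem Cs.hn (h : Cs z ψ d75) (hC : centralizer {z} ≤ C0 z) : Cfsg.Spor.IsoHN G := by
  have n : ¬ IsConj z (ψ (app P 1)) := fun m => absurd ((h.om _ (fq 1 (by decide)).1).1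
    ⟨h.xh, m, h.mem _, fun e => absurd ((h.eqv_one (fq 1 (by decide)).1).1 (Or.inr (e.trans (one_mul z).symm)))
      (by decide +kernel)⟩) (by decide +kernel)
  have t2 : ψ (app P 1) * ψ (app P 1) = 1 := (h.sq _ (fq 1 (by decide)).1).2 (by decide +kernel)
  have sq : ∀ a, IsConj (ψ (app P 1)) a → a * a = 1 := fun a e => by
    obtain ⟨c, rfl⟩ := isConj_iff.1 e
    rw [conj_mul, t2]; simp
  have ac : ∀ {g M} {p : Equiv.Perm ℕ}, Ac z ψ g M → (∀ i < 256, app M (app P i) = app P (p i)) →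
      Mon.HN.Ac z (fun i => ψ (app P i)) g p := fun a e i hi => by
    beta_reduce
    rw [← e i hi]
    exact (a.2 _ (fq i hi).1).2.symm h.zz
  refine Mon.HN.HD.isoHN (z := z) (R := O2C z) (ψ := fun i => ψ (app P i))
    (A := {a | IsConj (ψ (app P 1)) a}) ⟨h.xh.lx, fun i => h.mem _, fun i hi j hj => ?_, fun r hr => ?_,
    fun i hi j hj e => ?_, fun i hi => (h.sq _ (fq i hi).1).trans (fq i hi).2.2.2.2.1, fun g hg => ?_,
    fun p hp => ?_, fun a ha g => ha.trans (isConj_cj g a), sq, fun e => ?_, fun e => n e.symm,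
    fun i hi e => ((h.om _ (fq i hi).1).2 ((fq i hi).2.2.2.2.2 e)).conj, IsConj.refl _,
    fun u a b => by_contra fun c => ?_⟩
  · rw [app_xor _ (l12 hi) (l12 hj)]
    exact h.add _ (fq i hi).1 _ (fq j hj).1
  · obtain ⟨v, hv, e⟩ := h.onto r hr
    exact ⟨_, (fq v hv).2.1, by rwa [(fq v hv).2.2.1]⟩
  · rw [← (fq i hi).2.2.2.1, h.inj _ (fq i hi).1 _ (fq j hj).1 e, (fq j hj).2.2.2.1]
  · obtain ⟨W, e⟩ := (h.mem_C0 ok75).1 (hC (mem_c.2 hg))
    obtain ⟨p, hp, f⟩ := lk_word W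
    exact ⟨p, hp, ac e f⟩
  · obtain ⟨ρ, hρ⟩ := h.exists_ls ok75
    have w := h.ac_word fun k => (hρ k).2
    induction hp using closure_induction with
    | mem p hp =>
      obtain ⟨u, hu, rfl⟩ := hp
      obtain ⟨W, -, e⟩ := (by decide +kernel : ∀ u ∈ Mont.C5.G_ss0,
        ∃ W ∈ [[2, 5, 4, 0, 3], [1, 4, 2, 5, 0, 4]], lk (mw d75.ls W) u = true) u hu
      exact ⟨_, (w W).1, ac (w W) (of_lk e)⟩
    | one => exact ⟨1, by simp, fun i _ => by simpa using Eqv.refl _ _⟩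
    | mul p q hp hq e f =>
      obtain ⟨a, a1, a2⟩ := e
      obtain ⟨b, b1, b2⟩ := f
      refine ⟨a * b, comm_mul_left a1 b1, fun i hi => (a2 _ (Mon.HN.lt256 hq hi)).trans h.zz ?_⟩
      simpa [mul_assoc] using (b2 i hi).conj a1
    | inv p hp e =>
      obtain ⟨a, a1, a2⟩ := e
      refine ⟨a⁻¹, comm_inv_left a1, fun i hi => ?_⟩
      simpa [mul_assoc] using
        ((a2 _ (Mon.HN.lt256 (inv_mem hp) hi)).conj (comm_inv_left a1)).symm h.zz
  · exact absurd ((h.eqv_one (fq 1 (by decide)).1).1 (Or.inl (isConj_one_left.1 e))) (by decide +kernel)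
  · have g : Gd z u := ⟨sq u a, by
      rw [← inv_eq_of_mul_eq_one_right (sq _ b), mul_inv_rev, inv_eq_of_mul_eq_one_right (sq u a),
        inv_eq_of_mul_eq_one_right h.zz], fun m => n (m.trans a.symm), fun m => n (m.trans b.symm)⟩
    obtain ⟨φ, k, e⟩ := cl h hC u g c
    exact no3 k (cl h hC) g e

end Cfsg.Agent.X9
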