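import Cfsg.Agent.X9.OPA1

/-! The embedding of `Ω₈⁺(2)` from a frame. -/

set_option autoImplicit false
set_option maxRecDepth 100000

namespace Cfsg.Agent.X9

open Subgroup Cfsg.Agent.TT Cfsg.Agent.XSC Cfsg.Agent.Comp.BN Cfsg.Agent.O8C
open Cfsg.Agent.LES hiding tup

variable {G : Type*} [Group G]

namespace OA

/-- the letters commuting with the letters `0` and `2 ^ i` -/
def msk (i : Fin 3) : ℕ := ![319, 351, 375] i

/-- known graphs and relators -/
structure SB (z : G) (t : ℕ → G × Mo) (Ss : List ℕ) (Ks : List (List ℕ)) : Prop where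
  st : St t m val X.I Ss Ks
  co : CP z t
  cq : ∀ i g, (∀ k < 9, (msk i).testBit k = true → g * (t k).1 = (t k).1 * g) →
    ∃ γ ∈ genOn t 262143, γ.1 = g

variable [Finite G] {z : G} {t : ℕ → G × Mo}

theorem CP.cent_le (h : CP z t) (o : Ov t m val X.I) {bs : List (List ℕ)} {n : ℕ}
    (hl : Lev t 262143 bs n) {ts Us : List (List ℕ)} (e : centC val 262143 bs ts Us n 110592 = true)
    {γ : G × Mo} (hγ : γ ∈ genOn t 262143) (hb : ∀ b ∈ bs, γ.1 * (ev t b).1 = (ev t b).1 * γ.1) :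
    ∃ U ∈ Us, (ev t (subst ts U)).1 = γ.1 := by
  simp only [centC, band_eq, Nat.blt_eq] at e
  obtain ⟨e1, e2, e3⟩ := e
  have hb' : ∀ b ∈ bs, ev t b ∈ genOn t 262143 := fun b hb =>
    ev_mem_genOn ((allL_eq _ _).1 ((band_eq _ _).1 e1).1 b hb)
  have h1 : γ ∈ CC t 262143 bs := mem_CC.2 ⟨hγ, fun b hb0 =>
    h.gl.eq (mul_mem hγ (hb' b hb0)) (mul_mem (hb' b hb0) hγ) (hb b hb0)⟩
  have h3 : Nat.card (CC t 262143 bs) ≤ Us.length :=
    Nat.lt_succ_iff.1 (Nat.lt_of_mul_lt_mul_left ((hl.trans h.card).trans_lt e3))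
  classical
  have h4 : (Us.map fun U => ev t (subst ts U)).Nodup := by
    refine List.Nodup.of_map (fun γ : G × Mo => valM m val γ.2) ?_
    rw [List.map_map]
    convert (incC_spec e2).2 using 2
    funext U
    exact (congrArg _ (o.snd_ev _)).trans (o.orc.valM_ev _)
  have h5 : ((Us.map fun U => ev t (subst ts U)).toFinset : Set (G × Mo)) = CC t 262143 bs := by
    refine Set.eq_of_subset_of_ncard_le (fun a ha => ?_) ?_ (Set.toFinite _)
    · obtain ⟨U, -, rfl⟩ := List.mem_map.1 (List.mem_toFinset.1 ha)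
      exact o.le_CC h.gr e1 (ev_subst_mem t ts U)
    · rw [Set.ncard_coe_finset, List.toFinset_card_of_nodup h4, List.length_map]
      exact h3
  have h6 : γ ∈ ((Us.map fun U => ev t (subst ts U)).toFinset : Set (G × Mo)) := h5 ▸ h1
  obtain ⟨U, hU, rfl⟩ := List.mem_map.1 (List.mem_toFinset.1 h6)
  exact ⟨U, hU, rfl⟩

theorem SB.ct {Ss : List ℕ} {Ks : List (List ℕ)} (h : SB z t Ss Ks) (i : Fin 3) {bs : List (List ℕ)}
    {n : ℕ} (hl : Lev t 262143 bs n) {us Us : List (List ℕ)}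
    (e : centC val 262143 bs us Us n 110592 = true) {ts : List (List ℕ)}
    (e1 : band (allL (onC 262143) ts) (allL (fun b => anyL (eqL b) ts) (bs ++ us)) = true)
    (e2 : ∀ k < 9, (msk i).testBit k = true → [k] ∈ ts) : CT t ts us Us := by
  rw [band_eq] at e1
  have h1 : ∀ b ∈ bs ++ us, ev t b ∈ genW t ts := fun b hb => by
    obtain ⟨W, h2, h3⟩ := (anyL_eq _ _).1 ((allL_eq _ _).1 e1.2 b hb)
    rw [eqL_spec h3]; exact mem_genW h2
  have h2 := genW_le_genOn (x := t) e1.1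
  refine ⟨h.co.gr.mono h2, h.co.gl.mono h2, genW_le fun W hW => h1 W (by simp [hW]), fun g hg => ?_⟩
  obtain ⟨γ, hγ, rfl⟩ := h.cq i g fun k hk c => by simpa using hg _ (mem_genW (e2 k hk c))
  exact h.co.cent_le h.st.toOv hl e hγ fun b hb => hg _ (h1 b (by simp [hb]))

theorem sbV (h : SB z t [262143] Kx) : SB z t [266239, 262143] [] := by
  have o := h.st
  have ct := h.ct 0 (levV o.toOv h.co.gr) v1
    (ts := [[8], [0], [1], [2], [4], [3], [5], [6], [9], [10], [11]]) (by decide +kernel) (by decide)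
  have o1 := o.addK (ct.fpf o.toOv (normD_spec o v2) [0, 1] 3 (by decide +kernel))
  have o0 : St t m val X.I [] [] := ⟨o.toOv, trivial, trivial⟩
  exact ⟨⟨o.toOv, ⟨(o.toOv.step AV.done (o1.sat v3) h.co.gr AV_l v4).mono (o0.le_genW v5), o.gr⟩,
    trivial⟩, h.co, h.cq⟩

theorem sbL0 (h : SB z t [266239, 262143] []) : Gr (genOn t 275072) := by
  have o := h.st
  have ct := h.ct 0 (levL0 o.toOv h.co.gr) l1_0
    (ts := [[8], [0], [1], [2], [3], [4], [5], [10], [11]]) (by decide +kernel) (by decide)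
  have hn := o.norm l2_0
  have o1 := (o.addK (ct.fpf o.toOv hn [0, 1, 3, 2] 7 (by decide +kernel))).addK
    (ct.pow o.toOv hn (k := 2) (by decide +kernel) [1, 2, 3, 1, 2, 3, 2, 1, 3] (by decide +kernel))
  have o0 : St t m val X.I [262143] [] := ⟨o.toOv, o.gr.2, trivial⟩
  exact (o.toOv.step AL.done (o1.sat l3_0) h.co.gr AL_l l4_0).mono (o0.le_genW l5_0)

theorem sbL1 (h : SB z t [266239, 262143] []) : Gr (genOn t 312448) := by
  have o := h.st
  have ct := h.ct 1 (levL1 o.toOv h.co.gr) l1_1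
    (ts := [[8], [0], [2], [1], [3], [4], [6], [9], [11]]) (by decide +kernel) (by decide)
  have hn := o.norm l2_1
  have o1 := (o.addK (ct.fpf o.toOv hn [0, 1, 3, 2] 7 (by decide +kernel))).addK
    (ct.pow o.toOv hn (k := 2) (by decide +kernel) [1, 2, 3, 1, 2, 3, 2, 1, 3] (by decide +kernel))
  have o0 : St t m val X.I [262143] [] := ⟨o.toOv, o.gr.2, trivial⟩
  exact (o.toOv.step AL.done (o1.sat l3_1) h.co.gr AL_l l4_1).mono (o0.le_genW l5_1)

theorem sbL2 (h : SB z t [266239, 262143] []) : Gr (genOn t 460928) := by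
  have o := h.st
  have ct := h.ct 2 (levL2 o.toOv h.co.gr) l1_2
    (ts := [[8], [0], [4], [1], [2], [5], [6], [9], [10]]) (by decide +kernel) (by decide)
  have hn := o.norm l2_2
  have o1 := (o.addK (ct.fpf o.toOv hn [0, 1, 3, 2] 7 (by decide +kernel))).addK
    (ct.pow o.toOv hn (k := 2) (by decide +kernel) [1, 2, 3, 1, 2, 3, 2, 1, 3] (by decide +kernel))
  have o0 : St t m val X.I [262143] [] := ⟨o.toOv, o.gr.2, trivial⟩
  exact (o.toOv.step AL.done (o1.sat l3_2) h.co.gr AL_l l4_2).mono (o0.le_genW l5_2)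

theorem sbF (h : SB z t [262143] Kx) : Gr (genW t wsF) ∧ genOn t 262143 ≤ genW t wsF := by
  have h1 := sbV h
  have o1 := ((h1.st.addS (sbL0 h1)).addS (sbL1 h1)).addS (sbL2 h1)
  have o0 : St t m val X.I [262143] [] := ⟨h.st.toOv, h.st.gr, trivial⟩
  exact ⟨h.st.toOv.step AF.done (o1.sat f3) h.co.gr AF_l f4, o0.le_genW f5⟩

theorem k3 : ∀ i : Fin 3, allL (fun V => bor (ncomC val V [0]) (bor (ncomC val V [2 ^ (i : ℕ)])
    (onC (msk i) V))) (nfL [8] Ql) = true := by decide +kernel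

theorem exists_sb {Q P : Subgroup G} {q : ℕ → G} {a r0 d : Fin 3 → G} (h1 : Bt Q P z q a r0 d)
    (hr : ∀ g a b, g * z = z * g → a ∈ Q → b ∈ Q → a * a = 1 → b * b = 1 → a * b = b * a →
      (∀ x ∈ Q, x * a = a * x → x * b = b * x → Eqv z (g * x * g⁻¹) x) → g ∈ Q) :
    ∃ r x, Bt Q P z q a r d ∧ x ∈ P ∧ SB z (tup z q r d x) [262143] Kx := by
  obtain ⟨r, x, h, hx, hk⟩ := h1.twist
  have o := h.ov hx.xx
  have r2 : ∀ i, r i * r i = 1 := fun i => congrArg Prod.fst (h.rr i)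
  have a : ∀ b, x * b = b * x → b * b = 1 → x * (b * (x * b)) = 1 := fun b e e' => by
    rw [e, ← mul_assoc b, e', one_mul, hx.xx]
  have c : ∀ i : Fin 3, x * (q (7 - 2 ^ (i : ℕ)) * (x * (q (7 - 2 ^ (i : ℕ)) * r i))) = 1 := fun i => by
    have := hk i
    rw [inv_eq_of_mul_eq_one_right (h.qq _)] at this
    rw [← mul_assoc x (q _) (r i), ← mul_assoc (q _), ← mul_assoc (q _), this, mul_assoc, r2, mul_one,
      hx.xx]
  have k : ∀ W ∈ Kx, (ev (tup z q r d x) W).1 = 1 := by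
    simp only [Kx, List.forall_mem_cons, ev_cons, ev_nil, mul_one, Prod.fst_mul]
    refine ⟨a _ (h.pr.hP.z_comm x hx.xP) (h.qq 0), a _ (hx.xf 0) (h.qq _), a _ (hx.xf 1) (h.qq _),
      a _ (hx.xf 2) (h.qq _), a _ (hx.xr 0) (r2 0), a _ (hx.xr 1) (r2 1), a _ (hx.xr 2) (r2 2), ?_,
      c 0, c 1, c 2, by simp⟩
    change x * (z * (x * (q 0 * z))) = 1
    rw [← mul_assoc x (q 0), ← mul_assoc z, ← mul_assoc z,
      ← h.pr.hP.toXS.comm_of_ne hx.xP h.pr.z_mem hx.xz, mul_assoc x z, h.dl.lx.z_sq, mul_one, hx.xx]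
  refine ⟨r, x, h, hx.xP, ⟨o, ⟨(h.co x).gr, trivial⟩, allP_of fun W hW =>
    Prod.ext (k W hW) (o.snd_eq ((allL_eq _ _).1 k1 W hW))⟩, h.co x, fun i g hg => ?_⟩
  have m0 : ∀ b < 8, (q b, m b) ∈ Dq z q := fun b hb => by
    simpa [tup_q hb] using low_mem (z := z) (q := q) (r := 1) (d := 1) (x := 1) (W := [b])
      (by simpa using hb.trans (by decide))
  have hi : 2 ^ (i : ℕ) < 8 := by clear * -; revert i; decide
  have nc : ∀ b < 8, ∀ V, ev (tup z q 1 1 1) V ∈ Dq z q → ncomC val V [b] = true →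
      (ev (tup z q 1 1 1) V).1 * q b ≠ q b * (ev (tup z q 1 1 1) V).1 := fun b hb V hV e1 e =>
    orc.ne e1 (by
      simpa [appendL_eq, snd_tup] using (com_iff h.dl.gr h.dl.gl hV (m0 b hb)).1 e)
  have gQ : g ∈ Q := hr g (q 0) (q (2 ^ (i : ℕ))) (hg 8 (by decide) (by clear * -; revert i; decide))
    (h.dl.fst_mem (m0 0 (by decide))) (h.dl.fst_mem (m0 _ hi)) (h.qq _) (h.qq _)
    (h.pr.hP.z_comm _ (h.fP i)).symm fun y hy e0 e1 => by
      obtain ⟨δ, hδ, rfl⟩ := h.dl.exists_of_mem hy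
      obtain ⟨V, hV, rfl⟩ := h.xg.nf hδ
      have e2 := (allL_eq _ _).1 (k3 i) V hV
      rw [bor_eq, bor_eq] at e2
      have e3 := (e2.resolve_left fun e => nc 0 (by decide) V hδ e e0).resolve_left
        fun e => nc _ hi V hδ e e1
      refine Or.inl (conj_eq_of_comm (mem_centralizer_singleton_iff.1 (genOn_le
        (H := (centralizer {g}).comap (MonoidHom.fst G Mo)) (fun k hk => ?_) (ev_mem_genOn e3))).symm)
      have h9 : k < 9 := by
        by_contra h9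
        rw [Nat.testBit_lt_two_pow (lt_of_lt_of_le (by clear * -; revert i; decide : msk i < 2 ^ 9)
          (Nat.pow_le_pow_right (by norm_num) (by omega)))] at hk
        exact Bool.noConfusion hk
      refine mem_centralizer_singleton_iff.2 ?_
      have := (hg k h9 hk).symm
      clear * - this h9
      interval_cases k <;> exact this
  obtain ⟨δ, hδ, e⟩ := h.dl.exists_of_mem gQ
  exact ⟨δ, genW_le_genOn (by decide +kernel) (genW_Dq.ge hδ), e⟩

end OA

open OA in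
theorem exists_theta' [Finite G] {Q P : Subgroup G} {z : G} {q : ℕ → G} {a d : Fin 3 → G} (lx : LX Q z)
    (hQ : Nat.card Q = 2 ^ 9) (p : LXPair Q P z (q 0)) (hP : Nat.card P = 2 ^ 9) (f : Fm' Q P z q a d)
    (r2 : ∀ g a b, g * z = z * g → a ∈ Q → b ∈ Q → a * a = 1 → b * b = 1 → a * b = b * a →
      (∀ x ∈ Q, x * a = a * x → x * b = b * x → Eqv z (g * x * g⁻¹) x) → g ∈ Q) :
    ∃ θ : Mo →* G, Function.Injective θ ∧ θ (m 8) = z ∧ (∀ b < 8, θ (m b) = q b) ∧ θ (m 18) ∈ P ∧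
      ∀ i : Fin 3, (a i)⁻¹ * θ (m (9 + i)) ∈ Q ∧ θ (m (9 + i)) ∈ P := by
  obtain ⟨r0, d0, h0⟩ := exists_bt lx hQ p hP f
  obtain ⟨r, x, hb, xP, h⟩ := exists_sb h0 r2
  obtain ⟨h1, h2⟩ := sbF h
  have k0 : ∀ k < 19, tup z q r d0 x k ∈ genW (tup z q r d0 x) wsF := fun k hk => by
    by_cases hk' : k < 18
    · exact h2 (mem_genOn ((testBit_ones 18 k).trans (by simpa using hk')))
    · obtain rfl : k = 18 := by omega
      simpa using mem_genW (x := tup z q r d0 x) (ws := wsF) (W := [18]) (by decide)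
  have h3 : (genW (tup z q r d0 x) wsF).map (MonoidHom.snd G Mo) = ⊤ := eq_top_of fun k => by
    by_cases hk : k < 19
    · exact ⟨_, k0 k hk, rfl⟩
    · rw [m, cut_le _ (by omega)]; exact one_mem _
  obtain ⟨θ, hθ⟩ := h1.exists_hom (MonoidHom.id Mo) fun a => mem_map.1 (h3 ▸ mem_top a)
  have k1 : ∀ k < 19, θ (m k) = (tup z q r d0 x k).1 := fun k hk =>
    congrArg Prod.fst (h1.eq (hθ (m k)) (k0 k hk) rfl)
  have hz : θ (m 8) = z := k1 8 (by decide)
  refine ⟨θ, ?_, hz, fun b hb => by rw [k1 b (by omega), tup_q hb], k1 18 (by decide) ▸ xP, fun i => ?_⟩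
  · rcases θ.normal_ker.eq_bot_or_eq_top with e | e
    · exact (MonoidHom.ker_eq_bot_iff θ).1 e
    · exact absurd (hz ▸ (MonoidHom.mem_ker.1 (e ▸ mem_top _))) lx.z_ne
  · rw [k1 _ (by omega), tup_r]
    exact ⟨hb.ar i, hb.rP i⟩

end Cfsg.Agent.X9
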