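import Cfsg.Agent.X9.Def2
import Cfsg.Agent.X9.OPA2

/-! The embedding of `Ω₈⁺(2)` from a frame (`C(z)` may be larger than `2^(1+8).(S₃ × S₃ × S₃)`). -/

set_option autoImplicit false
set_option maxRecDepth 100000

namespace Cfsg.Agent.X9

open Subgroup Cfsg.Agent.TT Cfsg.Agent.LES Cfsg.Agent.XSC Cfsg.Agent.Comp.BN Cfsg.Agent.O8C

variable {G : Type*} [Group G] [Finite G]

/-- the frames -/
def fr27 (b : ℕ) : ℕ := [255, 150, 170, 130, 204, 132, 136, 128].getD b 255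
def fr81 (b : ℕ) : ℕ := [255, 170, 150, 125, 204, 119, 123, 112].getD b 255

namespace OA

/-- the code of a word in the frame -/
def xr (fr : ℕ → ℕ) (W : List ℕ) : ℕ := W.foldr (fun k a => fr k ^^^ a) 0

omit [Finite G] in
theorem xr_eqv {z : G} {ψ : ℕ → G} {u b : ℕ} (h : CF z ψ u b) {fr : ℕ → ℕ} (hf : ∀ k, fr k < 256)
    (W : List ℕ) : xr fr W < 256 ∧ Eqv z (ev (fun k => ψ (fr k)) W) (ψ (xr fr W)) := by
  induction W with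
  | nil => exact ⟨show 0 < 256 by decide, h.zero.symm h.zz⟩
  | cons k V ih =>
    rw [ev_cons]
    exact ⟨ThT.x8 (hf k) ih.1, h.mul_eqv (hf k) ih.1 (Eqv.refl _ _) ih.2⟩

theorem theta {z : G} {ψ : ℕ → G} {d : Dt} (h : Cs z ψ d) (ok : d.ok = true) (r2 : R2 z) {fr : ℕ → ℕ}
    (ia : Fin 3 → ℕ) (wd : Fin 3 → List ℕ) (f0 : fr 0 = 255) (f8 : ∀ b, 8 ≤ b → fr b = 255)
    (c1 : ∀ b < 8, fr b < 256 ∧ J4.bil d.u (fr b) (fr b) = 0 ∧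
      ∀ c < 8, J4.bil d.b (fr b) (fr c) = 0 ↔ c ≠ 7 - b)
    (c2 : ∀ i : Fin 3, la.testBit (fr (2 ^ (i : ℕ))) = true ∧ ia i < 8 ∧ ∀ b < 8,
      J4.app (tr (ia i)) (fr b) = xr fr (aR i b) ∧
      J4.app (ThT.mw d.ls (wd i)) (fr b) = xr fr (aD i b)) :
    ∃ θ : Mo →* G, Function.Injective θ ∧ θ (m 8) = z ∧ (∀ b < 8, θ (m b) = ψ (fr b)) ∧
      θ (m 18) ∈ O2C (ψ 255) ∧ ∀ i : Fin 3, θ (m (9 + i)) ∈ O2C (ψ 255) := by
  have k := h.fp ok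
  have c0 : ∀ b, fr b < 256 ∧ J4.bil d.u (fr b) (fr b) = 0 := fun b => by
    by_cases hb : b < 8
    · exact ⟨(c1 b hb).1, (c1 b hb).2.1⟩
    · rw [f8 b (by omega), ← f0]
      exact ⟨(c1 0 (by decide)).1, (c1 0 (by decide)).2.1⟩
  have hf := fun b => (c0 b).1
  choose a ha using fun i => h.aA (ia i) (c2 i).2.1
  obtain ⟨σ, hσ⟩ := h.exists_ls ok
  have hd := fun i => h.ac_word (fun k => (hσ k).2) (wd i)
  obtain ⟨θ, h1, h2, h3, h4, h5⟩ := exists_theta' (q := fun b => ψ (fr b)) (a := a)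
    (d := fun i => ev σ (wd i)) h.xh.lx h.xh.card (P := O2C (ψ 255)) (by rw [f0]; exact k.pair)
    k.ht.card ⟨fun b => h.mem _, fun b => (h.sq _ (hf b)).2 (c0 b).2,
      fun b hb c hc => (h.comm _ (hf b) _ (hf c)).trans ((c1 b hb).2.2 c hc),
      fun i => (h.aL _ (hf _)).2 (c2 i).1, fun i => (ha i).1, fun i => (ha i).2.1, fun i => (hd i).1,
      fun i b hb => (((c2 i).2.2 b hb).1 ▸ ((ha i).2.2 _ (hf b)).2).trans h.zz
        ((xr_eqv h.toCF hf _).2.symm h.zz),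
      fun i b hb => (((c2 i).2.2 b hb).2 ▸ ((hd i).2 _ (hf b)).2).trans h.zz
        ((xr_eqv h.toCF hf _).2.symm h.zz)⟩ r2
  exact ⟨θ, h1, h2, h3, h4, fun i => (h5 i).2⟩

end OA

theorem Cs.theta27 {z : G} {ψ : ℕ → G} (h : Cs z ψ d27) (r2 : R2 z) :
    ∃ θ : Mo →* G, Function.Injective θ ∧ θ (m 8) = z ∧ (∀ b < 8, θ (m b) = ψ (fr27 b)) ∧
      θ (m 18) ∈ O2C (ψ 255) ∧ ∀ i : Fin 3, θ (m (9 + i)) ∈ O2C (ψ 255) :=
  OA.theta h ok27 r2 ![4, 5, 6] ![[5, 2], [4, 2, 0], [3, 2, 1]] rfl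
    (fun _ hb => List.getD_eq_default _ _ hb) (by decide +kernel) (by decide +kernel)

theorem Cs.theta81 {z : G} {ψ : ℕ → G} (h : Cs z ψ d81) (r2 : R2 z) :
    ∃ θ : Mo →* G, Function.Injective θ ∧ θ (m 8) = z ∧ (∀ b < 8, θ (m b) = ψ (fr81 b)) ∧
      θ (m 18) ∈ O2C (ψ 255) ∧ ∀ i : Fin 3, θ (m (9 + i)) ∈ O2C (ψ 255) :=
  OA.theta h ok81 r2 ![5, 4, 6] ![[4, 0, 4, 0], [5, 0, 5, 0], [3, 1, 3, 1]] rfl
    (fun _ hb => List.getD_eq_default _ _ hb) (by decide +kernel) (by decide +kernel)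

end Cfsg.Agent.X9
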