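import Cfsg.Agent.X9.OMx

/-! The parabolic subgroups and the whole group in the case `S₃ × A₅`. -/

set_option autoImplicit false
set_option maxRecDepth 100000

namespace Cfsg.Agent.X9.OM

open Subgroup Cfsg.Agent.XSC Cfsg.Agent.Comp.BN
open Cfsg.Agent.O8C (X PL normD normD_spec allP_of)

def wsV : List (List ℕ) := [[0], [1], [2], [3], [4], [5], [6], [7], [8], [9], [10], [11], [16], [17], [18]]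
def tsV : List (List ℕ) := [[8], [0], [1], [2], [4], [3], [5], [6], [9], [10], [11]]
def wsL : List (List ℕ) := [[9], [9, 12], [7], [18]]
def tsL : List (List ℕ) := [[8], [0], [1], [2], [3], [4], [5], [10], [11]]
def wsM : List (List ℕ) := [[7], [18], [10], [11], [14], [15], [16], [17]]
def tsM : List (List ℕ) := [[8], [0], [2], [4], [6], [9]]
def wsF : List (List ℕ) := [[9], [9, 12], [7], [18], [10], [11], [14], [15], [16], [17]]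

theorem v1 : ctC tsV [[8], [0]] [[], [0], [1], [0, 1]] = true :=
  by decide +kernel

theorem v2 : normD val X.I [266007, 262143] Kx tsV [[7], [18]] [[[0], [0, 1], [2], [3], [4], [5], [6], [7], [7, 8], [2, 6, 9], [2, 5, 10]], [[0, 1], [1], [2], [3], [4], [2, 10, 5], [2, 9, 6], [8, 7], [8], [9], [10]]] = true :=
  by decide +kernel

theorem v3 : satC val X.I [266007, 262143] (subst [[7], [18]] (powW [0, 1] 3) :: Kx) PV wsV (List.replicate 25 []) = true :=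
  by decide +kernel

theorem v4 : stepC val X.I 262143 19 wsV [[0], [1], [2], [3], [4], [5], [6], [7], [8], [9], [10], [11], [12]] [8] [[], [14]] AV.doneC.n = true :=
  by decide +kernel

theorem v5 : subWC val X.I [] 462847 19 wsV [[0], [1], [2], [3], [4], [5], [6], [7], [8], [9], [10], [11], [], [], [], [], [12], [13], [14]] = true :=
  by decide +kernel

theorem l1 : ctC tsL [[8], [0], [1]] [[], [0], [1], [0, 1], [2], [0, 2], [1, 2], [0, 1, 2]] = true :=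
  by decide +kernel

theorem l2 : normC val X.I [462847, 262143] tsL wsL [[[0], [1], [1, 2], [3], [0, 3, 4], [5], [0, 5, 6], [7], [8]], [[0], [1, 2], [2], [0, 3, 4], [4], [0, 5, 6], [6], [7], [8]], [[0], [0, 1], [2], [3], [4], [5], [6], [2, 6, 7], [2, 4, 8]], [[0, 1], [1], [2], [3], [2, 4, 8], [5], [2, 6, 7], [7], [8]]] = true :=
  by decide +kernel

theorem l3 : satC val X.I [462847, 262143] [subst wsL (powW [1, 2, 3, 1, 2, 3, 2, 1, 3] 2), subst wsL (powW [0, 1, 3, 2] 7)] PL wsL (List.replicate 12 []) = true :=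
  by decide +kernel

theorem l4 : stepC val X.I 262143 19 wsL [[0], [1], [2]] [8] [[], [2, 3], [3], [1, 3]] O8C.AL.doneC.n = true :=
  by decide +kernel

theorem l5 : subWC val X.I [462847, 262143] 275072 19 wsL [[], [], [], [], [], [], [], [2], [], [0], [], [], [0, 1], [1, 0], [], [], [], [], [3]] = true :=
  by decide +kernel

theorem m1 : ctC tsM tsM [[], [0], [1], [0, 1], [2], [0, 2], [1, 2], [0, 1, 2], [3], [0, 3], [1, 3], [0, 1, 3], [2, 3], [0, 2, 3], [1, 2, 3], [0, 1, 2, 3], [4], [0, 4], [1, 4], [0, 1, 4], [2, 4], [0, 2, 4], [1, 2, 4], [0, 1, 2, 4], [3, 4], [0, 3, 4], [1, 3, 4], [0, 1, 3, 4], [2, 3, 4], [0, 2, 3, 4], [1, 2, 3, 4], [0, 1, 2, 3, 4], [5], [0, 5], [1, 5], [0, 1, 5], [2, 5], [0, 2, 5], [1, 2, 5], [0,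 1, 2, 5], [3, 5], [0, 3, 5], [1, 3, 5], [0, 1, 3, 5], [2, 3, 5], [0, 2, 3, 5], [1, 2, 3, 5], [0, 1, 2, 3, 5], [4, 5], [0, 4, 5], [1, 4, 5], [0, 1, 4, 5], [2, 4, 5], [0, 2, 4, 5], [1, 2, 4, 5], [0, 1, 2, 4, 5], [3, 4, 5], [0, 3, 4, 5], [1, 3, 4, 5], [0, 1, 3, 4, 5], [2, 3, 4, 5], [0, 2, 3, 4, 5], [1, 2, 3, 4, 5], [0, 1, 2, 3, 4, 5]] = true :=
  by decide +kernel

theorem m2 : normC val X.I [462847, 262143] tsM wsM [[[0], [0, 1], [2], [3], [4], [4, 5]], [[0, 1], [1], [2], [3], [4, 5], [5]], [[0], [1], [1, 2], [3], [1, 3, 4], [5]], [[0], [1], [2], [1, 3], [1, 2, 4], [5]], [[0], [1, 2, 4], [2], [1, 2, 3], [1], [5]], [[0], [4], [2], [2, 3, 4], [1, 2, 4], [5]], [[0], [1], [2, 3], [2], [4], [5]], [[0], [1], [3], [2, 3], [4], [5]]]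 = true :=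
  by decide +kernel

theorem m3 : satC val X.I [462847, 262143] [subst wsM (powW [0, 4, 2, 1, 7] 9)] PM wsM (List.replicate 64 []) = true :=
  by decide +kernel

theorem m4 : stepC val X.I 262143 19 wsM [[0], [2], [3], [4], [6]] [8] [[5, 0, 1], [], [5, 1], [0, 1], [1], [1, 5, 1], [7, 4, 0, 1], [7, 4, 1], [1, 4, 1], [4, 0, 1], [1, 4, 0, 1], [4, 1], [2, 4, 0, 1], [2, 4, 1]] AM.doneC.n = true :=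
  by decide +kernel

theorem m5 : subWC val X.I [462847, 262143] 511104 19 wsM [[], [], [], [], [], [], [], [0], [], [], [2], [3], [], [], [4], [5], [6], [7], [1]] = true :=
  by decide +kernel

theorem f3 : satC val X.I [511104, 275072, 462847, 262143] [] PF wsF (List.replicate 19 []) = true :=
  by decide +kernel

theorem f4 : stepC val X.I 262143 19 wsF [[0], [1], [2], [4], [5], [6], [8]] [8] [[6, 4, 2, 3, 1, 3, 6, 3], [6, 4, 3, 1, 3, 6, 3], [4, 6, 4, 3, 1, 3, 6, 3], [3, 6, 4, 3, 1, 3, 6, 3], [6, 4, 0, 1, 3, 6, 1, 3], [6, 4, 3, 1, 3, 6, 2, 3], [6, 4, 3, 6, 0, 2, 1, 3], [6, 4, 3, 6, 1, 3], [4, 6, 4, 3, 6, 1, 3], [6, 4, 3, 6, 0, 1, 3], [6, 4, 3, 6, 2, 1, 3], [4, 6, 4, 3, 6, 2, 1, 3], [4, 6, 4, 3, 6, 0, 1, 3], [6, 8, 2,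 3, 6, 1, 3], [3, 6, 4, 3, 6, 1, 3], [6, 8, 2, 3, 6, 0, 1, 3], [2, 6, 9, 3, 6, 1, 3], [2, 4, 6, 3, 6, 1, 3], [2, 4, 6, 3, 6, 0, 1, 3], [6, 4, 1, 3, 6, 2, 1, 3], [6, 4, 1, 3, 6, 0, 1, 3], [3, 6, 4, 1, 3, 6, 0, 1, 3], [4, 6, 4, 1, 3, 6, 0, 1, 3], [6, 4, 1, 3, 6, 1, 3], [4, 6, 4, 1, 3, 6, 1, 3], [6, 8, 2, 1, 3, 6, 0, 1, 3], [2, 6, 9, 1, 3, 6, 1, 3], [2, 4, 6, 1, 3, 6, 0, 1, 3], [2, 4, 6, 1, 3, 6, 1, 3], [6, 8, 2, 1, 3, 6, 1, 3], [3, 6, 4, 1, 3, 6, 1, 3], [1, 3, 6, 4, 3, 6, 1, 3], [4, 7, 2, 3, 6, 0, 1, 3], [4, 7, 2, 1, 3, 6, 0, 1, 3], [2, 4, 7, 3, 7, 0, 1, 3], [2, 4, 7, 3, 1, 3, 7, 3], [4, 7, 0, 1, 3, 7, 1, 3], [4, 7, 2, 3, 6, 1, 3], [4, 3, 6, 3, 6, 0, 1, 3], [4, 7, 1, 3, 7, 2, 1, 3], [4, 7, 1, 3, 7, 1, 3], [2, 4, 7, 3, 7, 1,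 3], [3, 6, 9, 3, 6, 1, 3], [9, 6, 4, 1, 3, 6, 1, 3], [4, 7, 3, 7, 0, 2, 1, 3], [4, 7, 3, 7, 0, 1, 3], [4, 7, 1, 3, 7, 0, 1, 3], [9, 6, 4, 3, 6, 0, 1, 3], [9, 6, 4, 1, 3, 6, 0, 1, 3], [4, 7, 3, 1, 3, 7, 3], [4, 7, 3, 1, 3, 7, 2, 3], [4, 7, 3, 7, 1, 3], [4, 7, 3, 7, 2, 1, 3], [4, 7, 3, 2, 1, 3, 6, 3], [4, 7, 2, 1, 3, 6, 1, 3], [9, 6, 4, 3, 1, 3, 6, 3], [9, 6, 4, 3, 6, 2, 1, 3], [9, 6, 4, 3, 6, 1, 3], [1, 3, 6, 9, 3, 6, 1, 3], [2, 4, 7, 1, 3, 7, 1, 3], [4, 3, 6, 1, 3, 6, 0, 1, 3], [4, 3, 6, 1, 3, 6, 1, 3], [3, 6, 9, 1, 3, 6, 0, 1, 3], [3, 6, 9, 1, 3, 6, 1, 3], [4, 6, 2, 3, 1, 3, 6, 3], [4, 6, 3, 1, 3, 6, 2, 3], [6, 9, 2, 3, 1, 3, 6, 3], [6, 9, 3, 1, 3, 6, 2, 3], [4, 6, 3, 1, 3, 6, 3], [4, 6, 0, 1, 3, 6, 1, 3], [6, 9, 0, 1,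 3, 6, 1, 3], [6, 9, 3, 1, 3, 6, 3], [4, 6, 0, 2, 3, 6, 0, 1, 3], [4, 3, 7, 3, 7, 0, 1, 3], [2, 6, 4, 3, 6, 1, 3], [4, 3, 7, 3, 1, 3, 7, 3], [4, 6, 2, 3, 6, 1, 3], [4, 6, 2, 3, 6, 0, 1, 3], [6, 9, 2, 3, 6, 0, 1, 3], [6, 9, 2, 3, 6, 1, 3], [4, 6, 3, 6, 0, 2, 1, 3], [4, 6, 3, 6, 2, 1, 3], [6, 9, 3, 6, 0, 2, 1, 3], [6, 9, 3, 6, 2, 1, 3], [4, 6, 3, 6, 1, 3], [4, 6, 3, 6, 0, 1, 3], [4, 3, 7, 1, 3, 7, 1, 3], [6, 9, 3, 6, 0, 1, 3], [6, 9, 3, 6, 1, 3], [4, 6, 2, 1, 3, 6, 0, 1, 3], [4, 6, 2, 1, 3, 6, 1, 3], [6, 9, 2, 1, 3, 6, 0, 1, 3], [6, 9, 2, 1, 3, 6, 1, 3], [4, 3, 6, 3, 1, 3, 6, 3], [4, 6, 3, 2, 1, 3, 6, 3], [2, 6, 4, 1, 3, 6, 1, 3], [3, 6, 9, 3, 1, 3, 6, 3], [4, 6, 1, 3, 6, 2, 1, 3], [6, 9, 1, 3, 6, 2, 1, 3], [4, 6, 1, 3, 6,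 0, 1, 3], [4, 6, 1, 3, 6, 1, 3], [6, 9, 1, 3, 6, 1, 3], [6, 9, 1, 3, 6, 0, 1, 3], [7, 2, 3, 1, 3, 6, 3], [7, 1, 3, 6, 2, 1, 3], [7, 0, 1, 3, 6, 1, 3], [7, 1, 3, 6, 1, 3], [7, 3, 6, 0, 2, 1, 3], [7, 3, 6, 0, 1, 3], [7, 1, 3, 6, 0, 2, 1, 3], [7, 1, 3, 6, 0, 1, 3], [7, 3, 6, 2, 1, 3], [7, 3, 6, 1, 3], [7, 3, 1, 3, 6, 2, 3], [7, 3, 1, 3, 6, 3], [0, 1, 3, 7, 2, 1, 3], [3, 1, 3, 7, 2, 3], [3, 7, 2, 1, 3, 7, 1, 3], [0, 1, 3, 7, 1, 3], [3, 1, 3, 7, 3], [3, 7, 0, 2, 1, 3], [3, 7, 2, 1, 3], [3, 7, 2, 3, 1, 3, 6, 3], [3, 7, 1, 3, 6, 2, 1, 3], [3, 7, 0, 1, 3], [3, 7, 1, 3], [1, 3, 7, 2, 1, 3], [1, 3, 7, 0, 2, 1, 3], [2, 3, 7, 1, 3, 6, 0, 1, 3], [1, 3, 7, 1, 3], [3, 7, 3, 1, 3, 6, 2, 3], [1, 3, 7, 0, 1, 3], [1, 3, 7, 1, 3, 6, 1, 3],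 [2, 1, 3, 7, 2, 3], [7, 2, 1, 3, 7, 2, 1, 3], [7, 2, 3, 7, 0, 2, 1, 3], [2, 3, 7, 2, 3], [7, 2, 3, 7, 2, 1, 3], [7, 2, 3], [7, 2, 3, 7, 0, 1, 3], [3, 7, 2, 3], [7, 2, 3, 7, 1, 3], [], [7, 3], [0, 2, 1, 3, 7, 2, 3], [3, 7, 0, 1, 3, 6, 1, 3], [3, 7, 1, 3, 6, 1, 3], [1, 3, 7, 2, 3], [7, 2, 1, 3, 7, 1, 3], [7, 0, 2, 1, 3], [7, 2, 1, 3], [7, 2, 1, 3, 7, 0, 1, 3], [7, 0, 1, 3], [7, 1, 3], [0, 1, 3, 7, 2, 3], [7, 0, 2, 1, 3, 7, 1, 3], [2, 3], [2, 3, 7, 3], [3], [3, 7, 3], [0, 2, 1, 3], [0, 1, 3], [0, 2, 1, 3, 7, 3], [0, 1, 3, 7, 3], [2, 1, 3, 7, 3], [2, 1, 3], [1, 3], [1, 3, 7, 3], [0, 2, 1, 3, 7, 2, 1, 3], [2, 3, 7, 3, 1, 3, 6, 3], [0, 2, 1, 3, 7, 0, 1, 3], [0, 2, 1, 3, 7, 1, 3], [3, 7, 3, 1, 3, 6, 3], [2, 3, 7, 0, 2, 1, 3],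 [2, 3, 7, 2, 1, 3], [1, 3, 7, 1, 3, 6, 0, 1, 3], [2, 3, 7, 0, 1, 3], [2, 3, 7, 1, 3], [2, 1, 3, 7, 2, 1, 3], [2, 1, 3, 7, 0, 2, 1, 3], [6, 3, 7, 1, 3, 6, 1, 3], [2, 1, 3, 7, 1, 3], [2, 1, 3, 7, 0, 1, 3], [3, 7, 1, 3, 6, 0, 1, 3], [9, 2, 3, 6, 3], [9, 3, 6, 3], [9, 6, 2, 3], [9, 3, 6, 2, 3], [9, 6, 3, 6, 3], [9, 6, 3], [6, 4, 0, 1, 3, 6, 3], [9, 0, 1, 3, 6, 3], [9, 6, 0, 1, 3, 6, 3], [9, 6, 0, 2, 1, 3], [9, 6, 0, 1, 3], [9, 0, 1, 3, 6, 2, 3], [9, 2, 1, 3, 6, 3], [9, 1, 3, 6, 3], [9, 6, 1, 3, 6, 3], [9, 1, 3, 6, 2, 3], [9, 6, 2, 1, 3], [9, 6, 1, 3], [9, 0, 2, 1, 3, 6, 0, 1, 3], [9, 0, 2, 3, 6, 0, 1, 3], [9, 2, 3, 6, 0, 1, 3], [9, 2, 1, 3, 6, 0, 1, 3], [9, 1, 0, 2, 3, 6, 0, 1, 3], [9, 2, 3, 1, 3, 6, 3], [9, 0, 1, 3, 6, 1,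 3], [9, 1, 3, 6, 2, 1, 3], [9, 1, 3, 6, 1, 3], [9, 2, 3, 6, 1, 3], [9, 2, 3, 6, 2, 1, 3], [9, 3, 6, 0, 2, 1, 3], [9, 3, 6, 0, 1, 3], [9, 1, 3, 6, 0, 1, 3], [9, 1, 3, 6, 0, 2, 1, 3], [3, 6, 4, 0, 1, 3, 6, 3], [9, 0, 2, 1, 3, 6, 1, 3], [9, 3, 1, 3, 6, 3], [9, 3, 1, 3, 6, 2, 3], [9, 3, 6, 1, 3], [9, 3, 6, 2, 1, 3], [9, 3, 2, 1, 3, 6, 3], [9, 2, 1, 3, 6, 1, 3], [4, 3, 7, 3, 1, 3, 6, 3], [4, 7, 2, 3, 1, 3, 6, 3], [4, 7, 3, 1, 3, 6, 2, 3], [4, 7, 3, 1, 3, 6, 3], [4, 7, 0, 1, 3, 6, 1, 3], [9, 2, 6, 3, 6, 2, 1, 3], [9, 2, 6, 3, 6, 0, 1, 3], [9, 2, 6, 3, 6, 1, 3], [4, 7, 3, 6, 0, 2, 1, 3], [4, 7, 3, 6, 2, 1, 3], [4, 7, 3, 6, 1, 3], [4, 7, 3, 6, 0, 1, 3], [4, 3, 7, 1, 3, 6, 0, 1, 3], [4, 3, 7, 1, 3, 6, 1, 3], [9, 2, 6, 1, 3, 6, 1,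 3], [9, 2, 6, 1, 3, 6, 0, 1, 3], [4, 7, 1, 3, 6, 2, 1, 3], [4, 7, 1, 3, 6, 0, 1, 3], [4, 7, 1, 3, 6, 1, 3], [9, 7, 2, 1, 3, 6, 0, 1, 3], [9, 7, 2, 3, 6, 0, 1, 3], [7, 9, 2, 3, 1, 3, 6, 3], [7, 9, 1, 3, 6, 2, 1, 3], [7, 9, 1, 3, 6, 1, 3], [7, 9, 0, 1, 3, 6, 1, 3], [9, 7, 2, 3, 6, 1, 3], [7, 8, 2, 3, 6, 1, 3], [7, 9, 1, 3, 6, 0, 1, 3], [7, 9, 3, 6, 0, 2, 1, 3], [7, 9, 3, 6, 0, 1, 3], [7, 9, 3, 1, 3, 6, 3], [7, 9, 3, 6, 2, 1, 3], [7, 9, 3, 6, 1, 3], [7, 9, 3, 1, 3, 6, 2, 3], [7, 8, 2, 1, 3, 6, 1, 3], [9, 7, 2, 1, 3, 6, 1, 3], [9, 6, 2, 3, 1, 3, 6, 3], [9, 6, 3, 1, 3, 6, 2, 3], [9, 6, 3, 1, 3, 6, 3], [9, 6, 0, 1, 3, 6, 1, 3], [9, 3, 6, 1, 3, 6, 0, 1, 3], [9, 3, 6, 1, 3, 6, 1, 3], [9, 6, 3, 6, 0, 2, 1, 3], [9, 6, 3, 6, 2, 1,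 3], [9, 6, 3, 6, 1, 3], [9, 6, 3, 6, 0, 1, 3], [3, 7, 9, 1, 3, 6, 1, 3], [3, 7, 9, 1, 3, 6, 0, 1, 3], [3, 7, 9, 3, 6, 0, 1, 3], [3, 7, 9, 3, 1, 3, 6, 3], [9, 6, 2, 3, 6, 1, 3], [9, 6, 2, 3, 6, 0, 1, 3], [9, 6, 1, 3, 6, 2, 1, 3], [9, 6, 1, 3, 6, 0, 1, 3], [9, 6, 1, 3, 6, 1, 3], [9, 6, 2, 1, 3, 6, 0, 1, 3], [9, 6, 2, 1, 3, 6, 1, 3], [9, 3, 6, 3, 1, 3, 6, 3], [9, 6, 3, 2, 1, 3, 6, 3], [2, 3, 6, 3], [3, 6, 3], [6, 2, 3], [3, 6, 2, 3], [6, 3, 6, 3], [6, 3], [8, 2, 3, 6, 3], [4, 3, 6, 3], [4, 6, 2, 3], [4, 3, 6, 2, 3], [7, 4, 3, 6, 3], [4, 6, 3], [0, 2, 1, 3, 6, 3], [0, 1, 3, 6, 3], [6, 0, 1, 3, 6, 3], [6, 0, 2, 1, 3], [6, 0, 1, 3], [0, 1, 3, 6, 2, 3], [6, 9, 0, 1, 3, 6, 3], [4, 0, 1, 3, 6, 3], [7, 4, 0, 1, 3, 6, 3], [4, 6, 0,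 2, 1, 3], [4, 6, 0, 1, 3], [4, 0, 1, 3, 6, 2, 3], [2, 1, 3, 6, 3], [1, 3, 6, 3], [6, 1, 3, 6, 3], [1, 3, 6, 2, 3], [6, 2, 1, 3], [6, 1, 3], [8, 2, 1, 3, 6, 3], [4, 1, 3, 6, 3], [7, 4, 1, 3, 6, 3], [4, 1, 3, 6, 2, 3], [4, 6, 2, 1, 3], [4, 6, 1, 3], [0, 2, 1, 3, 6, 0, 1, 3], [2, 0, 2, 1, 3, 6, 1, 3], [0, 2, 3, 6, 0, 1, 3], [2, 3, 6, 0, 1, 3], [2, 1, 3, 6, 0, 1, 3], [1, 0, 2, 3, 6, 0, 1, 3], [8, 0, 2, 1, 3, 6, 0, 1, 3], [8, 0, 2, 3, 6, 0, 1, 3], [8, 2, 3, 6, 0, 1, 3], [8, 2, 1, 3, 6, 0, 1, 3], [8, 1, 0, 2, 3, 6, 0, 1, 3], [2, 3, 1, 3, 6, 3], [0, 1, 3, 6, 1, 3], [1, 3, 6, 2, 1, 3], [1, 3, 6, 1, 3], [2, 3, 6, 1, 3], [2, 3, 6, 2, 1, 3], [4, 2, 3, 1, 3, 6, 3], [4, 0, 1, 3, 6, 1, 3], [4, 1, 3, 6, 2, 1, 3], [4, 1, 3, 6, 1, 3], [8,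 2, 3, 6, 1, 3], [8, 2, 3, 6, 2, 1, 3], [3, 6, 0, 2, 1, 3], [3, 6, 0, 1, 3], [1, 3, 6, 0, 1, 3], [1, 3, 6, 0, 2, 1, 3], [3, 0, 2, 1, 3, 6, 3], [0, 2, 1, 3, 6, 1, 3], [4, 3, 6, 0, 2, 1, 3], [4, 3, 6, 0, 1, 3], [4, 1, 3, 6, 0, 1, 3], [4, 1, 3, 6, 0, 2, 1, 3], [3, 6, 9, 0, 1, 3, 6, 3], [8, 0, 2, 1, 3, 6, 1, 3], [3, 1, 3, 6, 3], [3, 1, 3, 6, 2, 3], [3, 6, 1, 3], [3, 6, 2, 1, 3], [3, 2, 1, 3, 6, 3], [2, 1, 3, 6, 1, 3], [4, 3, 1, 3, 6, 3], [4, 3, 1, 3, 6, 2, 3], [4, 3, 6, 1, 3], [4, 3, 6, 2, 1, 3], [8, 3, 2, 1, 3, 6, 3], [8, 2, 1, 3, 6, 1, 3], [2, 3, 6, 3, 1, 3, 7, 3], [3, 6, 3, 1, 3, 7, 3], [7, 3, 7, 3, 1, 3, 6, 3], [3, 6, 0, 1, 3, 7, 1, 3], [0, 2, 6, 1, 3, 6, 0, 1, 3], [0, 2, 6, 1, 3, 6, 1, 3], [4, 3, 6, 3, 1, 3, 7, 3], [2,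 6, 3, 1, 3, 7, 3], [6, 3, 1, 3, 7, 2, 3], [3, 6, 3, 1, 3, 7, 2, 3], [3, 2, 6, 3, 1, 3, 7, 3], [4, 2, 6, 3, 1, 3, 7, 3], [4, 6, 3, 1, 3, 7, 2, 3], [6, 3, 1, 3, 7, 3], [6, 0, 1, 3, 7, 1, 3], [4, 6, 3, 1, 3, 7, 3], [4, 6, 0, 1, 3, 7, 1, 3], [2, 6, 3, 6, 0, 2, 1, 3], [2, 6, 3, 6, 2, 1, 3], [4, 2, 6, 3, 6, 2, 1, 3], [2, 3, 7, 1, 3, 7, 1, 3], [1, 3, 6, 1, 3, 7, 1, 3], [2, 6, 3, 6, 0, 1, 3], [2, 6, 3, 6, 1, 3], [4, 2, 6, 3, 6, 0, 1, 3], [4, 2, 6, 3, 6, 1, 3], [6, 3, 7, 0, 2, 1, 3], [6, 3, 7, 2, 1, 3], [4, 6, 3, 7, 0, 2, 1, 3], [4, 6, 3, 7, 2, 1, 3], [6, 3, 7, 1, 3], [6, 3, 7, 0, 1, 3], [7, 3, 6, 1, 3, 6, 1, 3], [4, 6, 3, 7, 1, 3], [4, 6, 3, 7, 0, 1, 3], [2, 6, 1, 3, 6, 2, 1, 3], [3, 6, 1, 3, 7, 0, 1, 3], [7, 3, 7, 1, 3, 6, 0,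 1, 3], [3, 6, 1, 3, 7, 1, 3], [2, 6, 1, 3, 6, 1, 3], [2, 6, 1, 3, 6, 0, 1, 3], [4, 3, 6, 1, 3, 7, 1, 3], [4, 2, 6, 1, 3, 6, 1, 3], [4, 2, 6, 1, 3, 6, 0, 1, 3], [3, 6, 1, 3, 7, 2, 1, 3], [6, 1, 3, 7, 2, 1, 3], [6, 1, 3, 7, 0, 2, 1, 3], [2, 3, 6, 3, 1, 3, 6, 3], [4, 6, 1, 3, 7, 2, 1, 3], [3, 2, 6, 1, 3, 6, 0, 1, 3], [3, 2, 6, 1, 3, 6, 1, 3], [6, 1, 3, 7, 0, 1, 3], [6, 1, 3, 7, 1, 3], [4, 6, 1, 3, 7, 0, 1, 3], [4, 6, 1, 3, 7, 1, 3], [7, 0, 2, 1, 3, 6, 0, 1, 3], [7, 2, 1, 3, 6, 0, 1, 3], [7, 0, 2, 3, 6, 0, 1, 3], [7, 1, 0, 2, 3, 6, 0, 1, 3], [7, 2, 3, 6, 0, 1, 3], [8, 7, 2, 1, 3, 6, 0, 1, 3], [8, 7, 2, 3, 6, 0, 1, 3], [7, 0, 1, 3, 7, 2, 1, 3], [7, 1, 3, 7, 2, 1, 3], [7, 1, 3, 7, 1, 3], [7, 0, 1, 3, 7, 1, 3], [7, 2, 3, 6, 1,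 3], [3, 6, 3, 6, 0, 1, 3], [7, 4, 2, 3, 1, 3, 6, 3], [7, 4, 1, 3, 6, 2, 1, 3], [7, 4, 1, 3, 6, 1, 3], [7, 4, 0, 1, 3, 6, 1, 3], [8, 7, 2, 3, 6, 1, 3], [7, 9, 2, 3, 6, 1, 3], [7, 1, 3, 7, 0, 1, 3], [7, 3, 7, 0, 2, 1, 3], [7, 3, 7, 0, 1, 3], [7, 1, 3, 7, 0, 2, 1, 3], [7, 3, 0, 2, 1, 3, 6, 3], [7, 0, 2, 1, 3, 6, 1, 3], [7, 4, 1, 3, 6, 0, 1, 3], [7, 4, 3, 6, 0, 2, 1, 3], [7, 4, 3, 6, 0, 1, 3], [7, 3, 1, 3, 7, 3], [7, 3, 7, 2, 1, 3], [7, 3, 7, 1, 3], [7, 3, 1, 3, 7, 2, 3], [7, 3, 2, 1, 3, 6, 3], [7, 2, 1, 3, 6, 1, 3], [7, 4, 3, 1, 3, 6, 3], [7, 4, 3, 6, 2, 1, 3], [7, 4, 3, 6, 1, 3], [7, 4, 3, 1, 3, 6, 2, 3], [7, 9, 2, 1, 3, 6, 1, 3], [8, 7, 2, 1, 3, 6, 1, 3], [6, 2, 3, 1, 3, 6, 3], [3, 6, 1, 3, 6, 2, 1, 3], [6, 3, 1, 3, 6, 2,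 3], [8, 6, 2, 3, 1, 3, 6, 3], [8, 6, 3, 1, 3, 6, 2, 3], [6, 3, 1, 3, 6, 3], [6, 0, 1, 3, 6, 1, 3], [3, 6, 3, 2, 1, 3, 6, 3], [8, 6, 3, 1, 3, 6, 3], [8, 6, 0, 1, 3, 6, 1, 3], [3, 6, 2, 1, 3, 6, 1, 3], [2, 3, 6, 1, 3, 6, 1, 3], [6, 0, 2, 1, 3, 6, 0, 1, 3], [6, 0, 2, 1, 3, 6, 1, 3], [1, 3, 6, 1, 3, 6, 1, 3], [3, 6, 2, 1, 3, 6, 0, 1, 3], [3, 6, 1, 3, 6, 0, 1, 3], [6, 3, 0, 2, 1, 3, 6, 3], [3, 6, 1, 3, 6, 1, 3], [8, 3, 6, 1, 3, 6, 0, 1, 3], [8, 3, 6, 1, 3, 6, 1, 3], [6, 3, 6, 0, 2, 1, 3], [6, 3, 6, 2, 1, 3], [3, 7, 2, 1, 3, 6, 0, 1, 3], [8, 6, 3, 6, 0, 2, 1, 3], [8, 6, 3, 6, 2, 1, 3], [3, 7, 1, 3, 7, 2, 1, 3], [6, 3, 6, 1, 3], [6, 3, 6, 0, 1, 3], [3, 7, 1, 3, 7, 1, 3], [3, 7, 0, 1, 3, 7, 1, 3], [8, 6, 3, 6, 1, 3], [8, 6, 3,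 6, 0, 1, 3], [3, 7, 4, 1, 3, 6, 1, 3], [3, 7, 1, 3, 7, 0, 1, 3], [1, 3, 6, 3, 1, 3, 6, 3], [6, 0, 2, 3, 6, 0, 1, 3], [3, 7, 3, 7, 0, 1, 3], [3, 7, 4, 1, 3, 6, 0, 1, 3], [8, 6, 0, 2, 3, 6, 0, 1, 3], [3, 7, 4, 3, 6, 0, 1, 3], [3, 7, 2, 1, 3, 6, 1, 3], [3, 7, 3, 1, 3, 7, 3], [3, 7, 3, 1, 3, 7, 2, 3], [6, 2, 3, 6, 1, 3], [6, 2, 3, 6, 0, 1, 3], [3, 7, 3, 2, 1, 3, 6, 3], [3, 7, 4, 3, 1, 3, 6, 3], [8, 6, 2, 3, 6, 1, 3], [8, 6, 2, 3, 6, 0, 1, 3], [3, 6, 2, 3, 1, 3, 6, 3], [6, 1, 3, 6, 2, 1, 3], [6, 1, 3, 6, 0, 2, 1, 3], [3, 6, 3, 1, 3, 6, 2, 3], [8, 6, 1, 3, 6, 2, 1, 3], [6, 1, 3, 6, 0, 1, 3], [6, 1, 3, 6, 1, 3], [2, 3, 6, 1, 3, 7, 1, 3], [1, 3, 7, 1, 3, 7, 1, 3], [8, 6, 1, 3, 6, 0, 1, 3], [8, 6, 1, 3, 6, 1, 3], [6, 3, 6, 1, 3,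 6, 0, 1, 3], [1, 3, 7, 3, 1, 3, 7, 3], [6, 2, 1, 3, 6, 0, 1, 3], [6, 2, 1, 3, 6, 1, 3], [8, 6, 2, 1, 3, 6, 0, 1, 3], [8, 6, 2, 1, 3, 6, 1, 3], [7, 3, 7, 3, 1, 3, 7, 3], [3, 6, 3, 1, 3, 6, 3], [3, 6, 0, 1, 3, 6, 1, 3], [6, 3, 2, 1, 3, 6, 3], [6, 1, 0, 2, 3, 6, 0, 1, 3], [8, 3, 6, 3, 1, 3, 6, 3], [8, 6, 3, 2, 1, 3, 6, 3]] AF.doneC.n = true :=
  by decide +kernel

theorem f5 : subWC val X.I [462847, 262143] 524287 19 wsF [[0, 6, 2, 0, 2, 7], [6, 2, 7], [1, 0, 2, 6, 2, 6, 2, 0, 1, 6], [2, 6, 2, 6, 2, 6], [1, 0, 4, 5, 2, 4, 2, 0, 1, 5], [4, 5, 2, 4, 2, 5], [0, 2, 0, 2], [2], [0, 2, 0, 4, 2, 0, 4, 2, 0, 4, 2, 4], [0], [4], [5], [0, 1], [1, 0], [6], [7], [8], [9], [3]] = true :=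
  by decide +kernel

theorem Bs.all {G : Type*} [Group G] [Finite G] {z : G} {ψ : ℕ → G} {r a d b x : G} (h : Bs z ψ r a d b)
    (hx : Xs z ψ r a d b x) (h6 : ψ 36 * x * (ψ 36)⁻¹ = x * r) : Gr (genOn (tup z ψ r a d b x) 524287) := by
  have o := h.ov hx.xx
  have gC := h.gr hx.xx
  have s1 : St _ m val X.I [266007, 262143] Kx :=
    ⟨o, ⟨(h.dlP hx).gr.mono Bs.leP, gC, trivial⟩, allP_of (h.kx hx h6)⟩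
  have s2 : St _ m val X.I [462847, 262143] [] := ⟨o, ⟨(o.step AV.done ((s1.addK ((h.ct hx.xx v1).fpf o
    (normD_spec s1 v2) [0, 1] 3 (by decide +kernel))).sat v3) gC AV_l v4).mono
      (St.le_genW (Ss := []) (Ks := []) ⟨o, trivial, trivial⟩ v5), gC, trivial⟩, trivial⟩
  have cL := h.ct hx.xx l1
  have gL := (o.step O8C.AL.done (((s2.addK (cL.fpf o (s2.norm l2) [0, 1, 3, 2] 7 (by decide +kernel))).addK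
    (cL.pow o (s2.norm l2) (k := 2) (by decide +kernel) [1, 2, 3, 1, 2, 3, 2, 1, 3] (by decide +kernel))).sat
      l3) gC O8C.AL_l l4).mono (s2.le_genW l5)
  have gM := (o.step AM.done ((s2.addK ((h.ct hx.xx m1).fpf o (s2.norm m2) [0, 4, 2, 1, 7] 9
    (by decide +kernel))).sat m3) gC AM_l m4).mono (s2.le_genW m5)
  exact (o.step AF.done (((s2.addS gL).addS gM).sat f3) gC AF_l f4).mono (s2.le_genW f5)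

end Cfsg.Agent.X9.OM
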