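import Cfsg.Agent.X9.Cnt
import Cfsg.Agent.KSG.ThreeCycle
import Cfsg.Agent.S3227

/-! The case `A₉`: the Thompson group. -/

set_option autoImplicit false

namespace Cfsg.Agent.X9

open Subgroup Cfsg.Agent.TT Cfsg.Agent.LES Cfsg.Agent.XSC Cfsg.Agent.XSC.WC Cfsg.Agent.XW
  Cfsg.Agent.J4 Cfsg.Agent.Comp
open Cfsg.Agent.Comp.BN (nth ev ev_cons)
open Cfsg.Agent.X7 (mem_c eqv_one_iff_mem)
open Cfsg.Agent.ThT (x8 p8 l12 i8 app_i8 mw)

variable {G : Type*} [Group G] [Finite G] {z : G} {ψ : ℕ → G} {d : Dt}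

/-- the nine classes of fifteen points -/
noncomputable def cl9 (v : ℕ) : ℕ := dig 4 15 0x4000000700080654000203820161735000030500072386200874151000604000000601310578003007006480254020000256724014108000385060003000000700050867020012100635004084307000018134605740300026702000500000080324582063704000171050008000000600807000600000054000000300020100 v

/-- representatives of the nine classes -/
noncomputable def rp9 (i : ℕ) : ℕ := nth 0 [1, 2, 4, 8, 15, 16, 23, 27, 29] i

/-- words inducing the three-cycles `(0 2 c)` on the classes -/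
noncomputable def wd9 (c : ℕ) : List ℕ := nth [] [[], [0, 6, 3, 0, 6, 3], [], [3, 2, 8, 5, 2, 6],
  [8, 5, 2, 8, 6, 3], [1, 0, 7, 4, 1, 5, 8], [5, 6, 2, 6], [8, 7, 6, 1, 5, 1], [4, 0, 6, 0, 4, 3]] c

theorem chk_cl9 : allL d135.tv (fun e => force (mw d135.ls e.2) fun W => force (cl9 (app W 255))
    fun c => allLT 256 fun u => force (app W u) fun v => or' (not' (tb d135.om v))
      (or' (and' (tb la u) (Nat.beq (cl9 v) c)) (not' (or' (tb la u) (Nat.beq (cl9 v) c))))) = true := by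
  decide +kernel

theorem chk_rp9 : ∀ i < 9, rp9 i < 256 ∧ d135.om.testBit (rp9 i) = true ∧ cl9 (rp9 i) = i := by
  decide +kernel

theorem chk_lt9 : ∀ v < 256, cl9 v < 9 := by decide +kernel

theorem chk_wd9 : ∀ c : Fin 9, 0 ≠ c → 2 ≠ c → ∀ i : Fin 9,
    (KSG.c3 0 2 c i : ℕ) = cl9 (app (mw d135.ls (wd9 c)) (rp9 i)) := by decide +kernel

theorem Cs.rel9 (h : Cs z ψ d135) {p v : ℕ} (hp : p < 256) (kp : FP z (ψ p)) (hv : v < 256)
    (kv : FP z (ψ v)) : ψ v ∈ O2C (ψ p) ↔ cl9 v = cl9 p := by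
  obtain ⟨ρ, hρ⟩ := h.exists_ls ok135
  obtain ⟨e, he, c⟩ := h.trans ok135 (fun k => (hρ k).2) kp
  have a := h.ac_word (fun k => (hρ k).2) e.2
  have a1 := a.2 255 (by decide)
  obtain rfl := h.inj _ a1.1 _ hp ((a1.2.symm h.zz).trans h.zz c)
  obtain ⟨N, n⟩ := h.exists_ac (comm_inv_left a.1)
  have e1 := h.ac_unique (h.ac_mul a n) (h.ac_of_mem (by simp)) hv
  rw [app_mm _ _ (l12 hv), app_i8 v hv] at e1
  have hu := (n.2 v hv).1
  have := (allL_iff _ _).1 chk_cl9 e he
  simp only [force_eq, allLT_iff, or'_eq_true, and'_eq_true, not'_eq_true, tb_eq, beq_iff] at this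
  have := this _ hu
  rw [e1, (h.om v hv).1 kv, ← h.aL _ hu, ← h.ac_L a (by decide) (h.fp ok135) hu, e1] at this
  tauto

theorem Cs.exists_s9 (h : Cs z ψ d135) : ∃ σ : centralizer ({z} : Set G) →* Equiv.Perm (Fin 9),
    ∀ g M, Ac z ψ g.1 M → ∀ i : Fin 9, (σ g i : ℕ) = cl9 (app M (rp9 i)) := by
  choose m hm using fun g : centralizer ({z} : Set G) => h.exists_ac (mem_c.1 g.2)
  have r := fun i : Fin 9 => chk_rp9 i i.2
  have f : ∀ {g M v}, Ac z ψ g M → v < 256 → FP z (ψ v) → FP z (ψ (app M v)) := fun a hv k =>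
    (h.fp_iff (a.2 _ hv).2).1 (k.cj a.1)
  have r' := fun i : Fin 9 => (h.om _ (r i).1).2 (r i).2.1
  let _ : MulAction (centralizer ({z} : Set G)) (Fin 9) :=
    { smul := fun g i => ⟨cl9 (app (m g) (rp9 i)), chk_lt9 _ ((hm g).2 _ (r i).1).1⟩
      one_smul := fun i => Fin.ext (by
        change cl9 _ = _
        rw [h.ac_unique (hm 1) (h.ac_of_mem (one_mem _)) (r i).1, app_i8 _ (r i).1, (r i).2.2])
      mul_smul := fun a b i => Fin.ext (by
        have b1 := ((hm b).2 _ (r i).1).1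
        let j : Fin 9 := ⟨_, chk_lt9 _ b1⟩
        change cl9 _ = cl9 (app (m a) (rp9 j))
        rw [h.ac_unique (hm _) (h.ac_mul (hm a) (hm b)) (r i).1, app_mm _ _ (l12 (r i).1),
          ← h.rel9 ((hm a).2 _ (r j).1).1 (f (hm a) (r j).1 (r' j)) ((hm a).2 _ b1).1
            (f (hm a) b1 (f (hm b) (r i).1 (r' i))), h.ac_L (hm a) (r j).1 (r' j) b1,
          h.rel9 (r j).1 (r' j) b1 (f (hm b) (r i).1 (r' i)), (r j).2.2]) }
  exact ⟨MulAction.toPermHom _ _, fun g M a i => congrArg cl9 (h.ac_unique (hm g) a (r i).1)⟩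

/-- `C(z)/Q` has order at most `135 · 1344` and induces `A₉` on the nine classes of points -/
theorem Cs.th [IsSimpleGroup G] (h : Cs z ψ d135) : Cfsg.Spor.IsoTh G := by
  obtain ⟨σ, hσ⟩ := h.exists_s9
  obtain ⟨ρ, hρ⟩ := h.exists_ls ok135
  have h1 : (O2C z).subgroupOf (centralizer {z}) ≤ σ.ker := fun g hg => Equiv.ext fun i => Fin.ext (by
    rw [hσ g _ (h.ac_of_mem hg), app_i8 _ (chk_rp9 i i.2).1, (chk_rp9 i i.2).2.2]; rfl)
  have h2 : alternatingGroup (Fin 9) ≤ σ.range :=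
    KSG.alternatingGroup_le_of_c3_mem (a := 0) (b := 2) (by decide) fun c a b =>
      have w := h.ac_word (fun k => (hρ k).2) (wd9 c)
      ⟨⟨_, mem_c.2 w.1⟩, Equiv.ext fun i => Fin.ext ((hσ _ _ w i).trans (chk_wd9 c a b i).symm)⟩
  have h3 : (O2C z).relIndex (centralizer {z}) ≤ 181440 :=
    (h.relIndex_le ok135).trans (by decide +kernel)
  have h4 : Nat.card (alternatingGroup (Fin 9)) = 181440 := by
    rw [Nat.card_eq_fintype_card, card_alternatingGroup]; simp [Nat.factorial]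
  have h5 := relIndex_mul_index h1
  have h6 := card_le_of_le h2
  have h7 : (O2C z).relIndex (centralizer {z}) ≠ 0 := index_ne_zero_of_finite
  rw [index_ker] at h5
  change _ = (O2C z).relIndex _ at h5
  have h8 : ((O2C z).subgroupOf (centralizer {z})).relIndex σ.ker = 1 := by
    rcases Nat.lt_trichotomy (((O2C z).subgroupOf (centralizer {z})).relIndex σ.ker) 1 with c | c | c
    · rw [Nat.lt_one_iff.1 c] at h5; omega
    · exact c
    · nlinarith
  have e := (pCore_cent z).trans (le_antisymm h1 (relIndex_eq_one.1 h8))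
  rw [h8] at h5
  have hc : Nat.card (pCore 2 (centralizer ({z} : Set G))) = 2 ^ 9 := by
    rw [pCore_cent, Grp.card_subgroupOf_of_le h.xh.le_c, h.xh.card]; rfl
  refine (S3227.result z h.xh.ord2 (ThT.ne_top_of_simple h.xh.ord2 hc)
    (pCore_cent z ▸ isExtraspecial_subgroupOf h.xh.lx) hc ?_ (hn := pCore_normal 2 _)
    (((QuotientGroup.quotientMulEquivOfEq e).trans (QuotientGroup.quotientKerEquivRange σ)).trans
      (MulEquiv.subgroupCongr (eq_of_le_of_card_ge h2 (by omega)).symm))).2.2.2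
  rw [pCore_cent]
  exact fun c hc => h.xh.lx.cent_mem c fun x hx => congrArg Subtype.val (hc ⟨x, h.xh.le_c hx⟩ hx)

end Cfsg.Agent.X9
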