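import Cfsg.Agent.X7.Lin

/-! Large extraspecial groups of order `2 ^ 9`: fused pairs, flags, transfer. -/

set_option autoImplicit false

namespace Cfsg.Agent.X9

open Subgroup Cfsg.Agent.TT Cfsg.Agent.LES Cfsg.Agent.XSC Cfsg.Agent.XSC.WC Cfsg.Agent.XW
open Cfsg.Agent.X7 (mem_c eqv_one_iff_mem tr tr_conj)

variable {G : Type*} [Group G] {z t : G}

/-- `O₂(C(z))` is large extraspecial of order `2 ^ 9` -/
structure XH (z : G) : Prop where
  lx : LX (O2C z) z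
  card : Nat.card (O2C z) = 512

namespace XH

variable (h : XH z)
include h

theorem of_isConj {d : G} (hd : IsConj z d) : XH d := by
  refine ⟨?_, card_O2C_conj hd ▸ h.card⟩
  obtain ⟨g, rfl⟩ := isConj_iff.1 hd
  exact h.lx.O2C_conj g

theorem xs : XS (O2C z) z := h.lx.toXS

theorem zz : z * z = 1 := h.lx.z_sq

theorem zp (c : G) (hc : c * z = z * c) (b : G) (hb : b ∈ zpowers z) : c * b * c⁻¹ ∈ zpowers z := by
  rcases (mem_zpowers_invol h.zz).1 hb with rfl | rfl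
  · simp
  · rw [conj_eq_of_comm hc]; exact mem_zpowers _

variable [Finite G]

/-- an element trivial on an invariant flag lies in `Q` -/
theorem flag {Y : Subgroup G} (hY : Y ≤ O2C z) (hz : z ∈ Y)
    (hn : ∀ c, c * z = z * c → ∀ y ∈ Y, c * y * c⁻¹ ∈ Y) {c : G} (hc : c * z = z * c)
    (h1 : ∀ y ∈ Y, Eqv z (dd c y) 1)
    (h2 : ∀ x ∈ O2C z, (∀ y ∈ Y, y * x = x * y) → dd c x ∈ Y) : c ∈ O2C z := by
  have hC : ∀ c, c * z = z * c → ∀ x ∈ O2C z ⊓ centralizer (Y : Set G),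
      c * x * c⁻¹ ∈ O2C z ⊓ centralizer (Y : Set G) := fun c hc x hx =>
    ⟨h.lx.norm c hc x hx.1, fun y hy => by
      have := (comm_conj_iff c _ _).2 (hx.2 _ (hn _ (comm_inv_left hc) y hy))
      rwa [show c * (c⁻¹ * y * c⁻¹⁻¹) * c⁻¹ = y by group] at this⟩
  refine le_O2C (D := tr z Y (zpowers z) h.zp ⊓ tr z (O2C z ⊓ centralizer (Y : Set G)) Y hn)
    (fun d => ⟨4, Subtype.ext ?_⟩) (fun d hd => hd.1.1)
    (fun c hc d hd => ⟨tr_conj hn hc hd.1, tr_conj hC hc hd.2⟩)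
    ⟨⟨hc, fun y hy => (eqv_one_iff_mem h.zz).1 (h1 y hy)⟩, hc, fun x hx => h2 x hx.1 hx.2⟩
  obtain ⟨d, hd⟩ := d
  have d2 := mul_mem hd hd
  have : d * d * (d * d) ∈ O2C z := mem_of_dd h.lx fun x hx => by
    refine (dd_sq h.lx d2.1.1 hx).trans h.zz ((eqv_one_iff_mem h.zz).2 (d2.1.2 _ ?_))
    refine (dd_sq h.lx hd.1.1 hx).mem hz (hd.2.2 _ ⟨dd_mem h.lx hd.1.1 hx, fun y hy => ?_⟩)
    rw [← cmv_eq_zero, cmv_comm, cmv_dd h.lx hd.1.1 hx (hY hy), cmv_comm]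
    exact cmv_of_eqv_one h.xs hx ((eqv_one_iff_mem h.zz).2 ((inv_mem hd).1.2 y hy))
  have := h.xs.pow_four this
  simpa [pow_succ, mul_assoc] using this

theorem odd_index : Odd (centralizer ({z} : Set G)).index := by
  have := Fact.mk Nat.prime_two
  obtain ⟨P, hP⟩ := (O2C_isPGroup z).exists_le_sylow
  have h1 : (P : Subgroup G) ≤ centralizer {z} := fun x hx =>
    mem_c.2 (h.lx.comm_of_two_subgroup P.2 hP x hx)
  rw [← Nat.not_even_iff_odd, even_iff_two_dvd]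
  exact fun e => P.not_dvd_index (e.trans (index_dvd_of_le h1))

theorem no_two [IsSimpleGroup G] (M : Subgroup G) : M.index ≠ 2 := fun hM => by
  rcases (normal_of_index_eq_two hM).eq_bot_or_eq_top with rfl | rfl
  · have := card_le_card_group (O2C z)
    rw [h.card, ← index_bot, hM] at this
    omega
  · simp at hM

theorem of_transfer {H u : _} {T : Subgroup G} (hi : relIndex H (centralizer ({z} : Set G)) = 2)
    (hu : u * z = z * u) (hu0 : u ∉ H)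
    (e : ∃ g : G, g * u * g⁻¹ ∈ H ∧ T.map (MulAut.conj g).toMonoidHom ≤ centralizer {z}) :
    ∃ y, IsConj z y ∧ y ≠ z ∧ ∀ x ∈ T, x * y = y * x := by
  obtain ⟨g, h1, h2⟩ := e
  refine ⟨_, isConj_cj g⁻¹ z, fun e => hu0 ?_, fun x hx => ?_⟩
  · have hg := mem_c.2 (comm_of_conj_eq e)
    have := (normal_of_index_eq_two hi).conj_mem
      ⟨_, mul_mem (mul_mem (inv_mem_iff.1 hg) (mem_c.2 hu)) hg⟩ h1 ⟨_, hg⟩
    simpa [mem_subgroupOf, mul_assoc] using this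
  · have := (comm_conj_iff g⁻¹ _ _).2 (mem_c.1 (h2 (mem_map_of_mem _ hx)))
    simpa [mul_assoc] using this

theorem transfer [IsSimpleGroup G] {H : Subgroup G} (hH : H ≤ centralizer {z})
    (hi : H.relIndex (centralizer {z}) = 2) {u : G} (hu : u * z = z * u) (hu0 : u ∉ H)
    (h2 : u * u = 1) {T : Subgroup G} (hT : IsPGroup 2 T) (hTu : ∀ x ∈ T, x * u = u * x) :
    ∃ y, IsConj z y ∧ y ≠ z ∧ ∀ x ∈ T, x * y = y * x :=
  h.of_transfer hi hu hu0 ((Transfer.thompson_transfer_extremal h.odd_index hH hi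
    (by rwa [sq]) hT hTu).resolve_left fun ⟨M, _, e, _⟩ => h.no_two M e)

theorem transfer4 [IsSimpleGroup G] {H : Subgroup G} (hH : H ≤ centralizer {z})
    (hi : H.relIndex (centralizer {z}) = 2) {u a b : G} (hu : u * z = z * u) (hu0 : u ∉ H)
    (h2 : u * u = z) (ha : a * a = z) (hb : b * b = z) (hab : a * b * (a * b) = z) {T : Subgroup G}
    (hT : IsPGroup 2 T) (hTu : ∀ x ∈ T, x * u = u * x) :
    ∃ y, IsConj z y ∧ y ≠ z ∧ ∀ x ∈ T, x * y = y * x :=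
  h.of_transfer hi hu hu0 ((Transfer.thompson_transfer_four h.odd_index hH hi (a := a) (b := b)
    (by rw [show u ^ 4 = u * u * (u * u) by simp [pow_succ, mul_assoc], h2, h.zz])
    (by rintro w (rfl | rfl | rfl) <;> simp only [*]) hT hTu).resolve_left
      fun ⟨M, _, e, _⟩ => h.no_two M e)

/-- the centraliser of `i` in `Q ⟨i⟩` -/
theorem exists_T {i : G} (hi : i * z = z * i) (h2 : i * i ∈ O2C z) : ∃ T : Subgroup G,
    IsPGroup 2 T ∧ (∀ x ∈ T, x * i = i * x) ∧ i ∈ T ∧ ∀ x ∈ O2C z, x * i = i * x → x ∈ T := by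
  have := Fact.mk Nat.prime_two
  have h3 : IsPGroup 2 (zpowers i) := by
    refine IsPGroup.of_card (n := _) (?_ : _ = 2 ^ (Nat.log 2 (orderOf i)))
    have : orderOf i ∣ 2 ^ 3 := orderOf_dvd_of_pow_eq_one (by
      have := h.xs.pow_four h2
      rwa [← sq, ← pow_mul] at this)
    obtain ⟨k, -, e⟩ := (Nat.dvd_prime_pow Nat.prime_two).1 this
    rw [Nat.card_zpowers, e, Nat.log_pow (by decide)]
  exact ⟨(zpowers i ⊔ O2C z) ⊓ centralizer {i}, (h3.to_sup_of_normal_right' (O2C_isPGroup z)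
    (zpowers_le.2 (h.lx.mem_normalizer hi))).to_inf_left, fun x hx => mem_c.1 hx.2,
    ⟨mem_sup_left (mem_zpowers i), mem_c.2 rfl⟩, fun x hx e => ⟨mem_sup_right hx, mem_c.2 e⟩⟩

end XH

/-- a conjugate `t ≠ z` of `z` in `O₂(C(z))` -/
structure FP (z t : G) : Prop where
  xh : XH z
  conj : IsConj z t
  mem : t ∈ O2C z
  ne : t ≠ z

namespace FP

variable (h : FP z t) {a b c e x y s r : G}
include h

theorem ht : XH t := h.xh.of_isConj h.conj

theorem lx : LX (O2C z) z := h.xh.lx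

theorem xs : XS (O2C z) z := h.xh.xs

theorem zz : z * z = 1 := h.xh.zz

theorem tt : t * t = 1 := h.ht.zz

theorem t_ne : t ≠ 1 := h.ht.xs.z_ne

theorem tz : t * z = z * t := h.xs.z_comm t h.mem

theorem map_conj (g : G) : FP (g * z * g⁻¹) (g * t * g⁻¹) :=
  ⟨h.xh.of_isConj (isConj_cj g z), ((isConj_cj g z).symm.trans h.conj).trans (isConj_cj g t),
    conj_mem_O2C_conj g h.mem, by simpa using h.ne⟩

theorem cj (hc : c * z = z * c) : FP z (c * t * c⁻¹) := by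
  have := h.map_conj c
  rwa [conj_eq_of_comm hc] at this

theorem of_eqv (e : Eqv z s t) : FP z s := by
  obtain ⟨q, hq, rfl⟩ := exists_conj_of_eqv h.xs h.mem h.t_ne h.ne e
  exact h.cj (h.xs.z_comm q hq)

theorem not_eqv : ¬ Eqv z t 1 := fun e => (eqv_one_iff.1 e).elim h.t_ne h.ne

theorem exists_y : ∃ y ∈ O2C z, y * t ≠ t * y := by
  obtain ⟨y, hy, n⟩ := h.xs.exists_not_comm h.mem h.t_ne h.ne
  exact ⟨y, hy, n.symm⟩

theorem inV_eqv (e : InV z t x) : Eqv z x 1 ∨ Eqv z x t := by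
  rcases e with rfl | rfl | rfl | rfl
  exacts [Or.inl (Or.inl rfl), Or.inl (eqv_z _), Or.inr (Or.inl rfl), Or.inr (Or.inr h.tz.symm)]

theorem dd_t (hr : r ∈ O2C t) (hrz : r * z = z * r) (hy : y ∈ O2C z) :
    dd r y * t = t * dd r y := by
  have := h.ht.xs.z_comm r hr
  rw [← cmv_eq_zero, cmv_dd h.lx hrz hy h.mem, dd_eq_one.2 (comm_inv_left this), cmv_comm,
    cmv_one_left]

variable [Finite G]

theorem z_mem : z ∈ O2C t := by
  obtain ⟨g, rfl⟩ := isConj_iff.1 h.conj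
  exact h.lx.mem_O2C_conj h.mem

theorem symm : FP t z := ⟨h.ht, h.conj.symm, h.z_mem, h.ne.symm⟩

theorem pair : LXPair (O2C z) (O2C t) z t :=
  ⟨h.lx, h.ht.lx, h.mem, h.z_mem, h.ne, fun a ha x => by
    rw [← ha, mem_O2C_conj]; simp [mul_assoc]⟩

theorem inV_E (e : InV z t x) : x ∈ O2C z ∧ x ∈ O2C t :=
  ⟨e.mem h.xs.z_mem h.mem, e.mem h.z_mem h.ht.xs.z_mem⟩

theorem E_sq (h1 : e ∈ O2C z) (h2 : e ∈ O2C t) : e * e = 1 := LES.E_sq h.pair ⟨h1, h2⟩

theorem E_comm (h1 : a ∈ O2C z) (h2 : a ∈ O2C t) (h3 : b ∈ O2C z) (h4 : b ∈ O2C t) :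
    a * b = b * a := LES.E_comm h.pair ⟨h1, h2⟩ ⟨h3, h4⟩

theorem E_conj (h1 : e ∈ O2C z) (h2 : e ∈ O2C t) (hy : y ∈ O2C z) : y * e * y⁻¹ ∈ O2C t :=
  (h.xs.conj_mem (A := O2C z ⊓ O2C t) inf_le_left ⟨h.xs.z_mem, h.z_mem⟩ hy ⟨h1, h2⟩).2

theorem card_E : Nat.card (O2C z ⊓ O2C t : Subgroup G) ≤ 32 := by
  have := card_E_sq_le h.pair
  rw [h.xh.card] at this
  by_contra n
  nlinarith

theorem card_R : Nat.card (O2C t ⊓ centralizer {z} : Subgroup G) = 256 := by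
  have := card_P_eq h.pair
  rw [h.ht.card] at this
  omega

theorem dd_E (hr : r ∈ O2C t) (hrz : r * z = z * r) (hs : s ∈ O2C z) (hst : s * t = t * s) :
    dd r s ∈ O2C z ∧ dd r s ∈ O2C t := comm_mem_E h.pair hs hst hr hrz

theorem dd_comm (hr : r ∈ O2C t) (hrz : r * z = z * r) (hs : s ∈ O2C z) (hst : s * t = t * s) :
    dd r s * s = s * dd r s := by
  have h1 := h.dd_E hr hrz hs hst
  rw [← cmv_eq_zero, ← sqv_dd h.lx hrz hs, sqv_eq_zero]
  exact h.E_sq h1.1 h1.2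

theorem dd_comm' (hr : r ∈ O2C t) (hrz : r * z = z * r) (hs : s ∈ O2C z) (hst : s * t = t * s) :
    dd r s * r = r * dd r s := by
  rw [← dd_inv_swap]
  exact comm_inv_left (h.symm.dd_comm hs hst hr hrz)

theorem third (hy : y ∈ O2C z) (n : y * t ≠ t * y) (h1 : x ∈ O2C t)
    (h2 : x ∈ O2C (y * t * y⁻¹)) : x ∈ O2C z := by
  obtain ⟨p, hp, e⟩ := h.symm.pair.exists_q
  rw [h.xs.conj_of_ne hy h.mem n, h.tz, ← e, mem_O2C_conj] at h2
  have := h.symm.E_conj (by simpa using mul_mem (mul_mem (inv_mem hp) h1) hp) h2 hp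
  simpa [mul_assoc] using this

theorem link_inj (hy : y ∈ O2C z) (n : y * t ≠ t * y) (hr : r ∈ O2C t) (h1 : dd r y ∈ O2C t) :
    r ∈ O2C z := by
  have := h.third hy n (mul_mem (inv_mem h1) hr) (by
    rw [show (dd r y)⁻¹ * r = y * r * y⁻¹ by simp only [dd]; group]
    exact conj_mem_O2C_conj y hr)
  have := mul_mem (mul_mem (inv_mem hy) this) hy
  rwa [show y⁻¹ * ((dd r y)⁻¹ * r) * y = r by simp only [dd]; group] at this

theorem link_surj (hy : y ∈ O2C z) (n : y * t ≠ t * y) (hs : s ∈ O2C z) (hst : s * t = t * s) :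
    ∃ r ∈ O2C t, r * z = z * r ∧ dd r y * s ∈ O2C t := by
  obtain ⟨p, hp, e⟩ := h.symm.pair.exists_q
  have h1 := conj_mem_O2C_conj p hs
  have h2 := (comm_conj_iff p _ _).2 (h.xs.z_comm s hs)
  have h3 := (comm_conj_iff p _ _).2 hst
  rw [conj_eq_of_comm (h.ht.xs.z_comm p hp)] at h3
  rw [e, ← mul_assoc, mul_assoc z t, ← h3, ← mul_assoc, mul_left_inj] at h2
  rw [e, ← h.tz, ← h.xs.conj_of_ne hy h.mem n, mem_O2C_conj] at h1
  have yz := h.xs.z_comm y hy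
  refine ⟨_, h1, comm_mul_left (comm_mul_left (comm_inv_left yz) h2) yz, ?_⟩
  have := mul_mem (mul_mem h1 (h.ht.lx.norm _ (comm_inv_left hst) _ (mul_mem (mul_mem
    (h.ht.lx.norm _ hst _ hp) (inv_mem hp)) (one_mem _)))) (one_mem _)
  convert this using 1
  simp only [dd]; group

end FP

end Cfsg.Agent.X9
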