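import Cfsg.Agent.X9.Def2

/-! Frames in which the group at `255` is the regular group `tr`; certificates. -/

set_option autoImplicit false

namespace Cfsg.Agent.X9

open Subgroup Cfsg.Agent.TT Cfsg.Agent.LES Cfsg.Agent.XSC Cfsg.Agent.XSC.WC Cfsg.Agent.XW
  Cfsg.Agent.J4 Cfsg.Agent.Comp
open Cfsg.Agent.Comp.BN (nth ev ev_cons)
open Cfsg.Agent.X7 (mem_c eqv_one_iff_mem)
open Cfsg.Agent.ThT (x8 p8 l12 i8 app_i8 mw)

variable {G : Type*} [Group G] {z g y : G} {ψ : ℕ → G} {u b u' b' M N P R p : ℕ} {f : ℕ → ℕ}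
  {gs : List (ℕ × ℕ)}

/-- `g` acts on the codes as `f` -/
def Af (z : G) (ψ : ℕ → G) (g : G) (f : ℕ → ℕ) : Prop :=
  g * z = z * g ∧ ∀ v < 256, f v < 256 ∧ Eqv z (g * ψ v * g⁻¹) (ψ (f v))

/-- the group at `255` is `tr` -/
structure Fm (z : G) (ψ : ℕ → G) (u b : ℕ) : Prop extends CF z ψ u b where
  fa : FP z (ψ 255)
  aA : ∀ i < 8, ∃ x ∈ O2C (ψ 255), Ac z ψ x (tr i)
  aA' : ∀ x ∈ O2C (ψ 255), x * z = z * x → ∃ i < 8, Ac z ψ x (tr i)

/-- `p.2` lies in the group at the point `p.1` -/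
def Pt (z : G) (ψ : ℕ → G) (p : ℕ × ℕ) : Prop :=
  p.1 < 256 ∧ FP z (ψ p.1) ∧ ∃ y ∈ O2C (ψ p.1), Ac z ψ y p.2

def Sx (z : G) (ψ : ℕ → G) (gs : List (ℕ × ℕ)) : Prop := ∀ p ∈ gs, Pt z ψ p

/-- the letters -/
noncomputable def lt (gs : List (ℕ × ℕ)) : ℕ → ℕ × ℕ :=
  nth (255, i8) ((255, tr 1) :: (255, tr 2) :: (255, tr 4) :: gs)

/-- a word applied to a vector -/
noncomputable def av (gs : List (ℕ × ℕ)) (W : List ℕ) (v : ℕ) : ℕ :=
  List.rec (motive := fun _ => ℕ) v (fun k _ ih => app (lt gs k).2 ih) W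

/-- a word from its digits -/
noncomputable def dw (n : ℕ) : List ℕ :=
  Nat.rec (motive := fun _ => ℕ → List ℕ) (fun _ => []) (fun _ ih n => force n fun n =>
    ite' (Nat.beq n 0) [] (Nat.pred (Nat.land n 15) :: ih (Nat.shiftRight n 4))) 30 n

/-- a word maps the point of a letter to `255`, but not the letter into `tr` -/
noncomputable def kill (gs : List (ℕ × ℕ)) (c : ℕ) : Bool :=
  (fun W p t => and' (Nat.beq (av gs W p.1) 255) (force (av gs W t) fun x =>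
    force (av gs W (app p.2 t)) fun y => allLT 8 fun i => not' (Nat.beq (app (tr i) x) y)))
    (dw (Nat.shiftRight c 12)) (lt gs (Nat.land c 15)) (Nat.land (Nat.shiftRight c 4) 255)

/-- `p` is the image of `(255, tr i)` under a word -/
noncomputable def der (gs : List (ℕ × ℕ)) (p : ℕ × ℕ) (c : ℕ) : Bool :=
  force (mw (fun k => (lt gs k).2) (dw (Nat.shiftRight c 3))) fun M =>
    and' (Nat.beq (app M 255) p.1) (eq8 (mm p.2 M) (mm M (tr (Nat.land c 7))))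

/-- `b` is the polar form of `u` -/
noncomputable def pol (u b : ℕ) : Bool := allLT 8 fun i => allLT 8 fun j =>
  Nat.beq (bil b (2 ^ i) (2 ^ j)) (Nat.xor (bil u (2 ^ i) (2 ^ j)) (bil u (2 ^ j) (2 ^ i)))

/-- `P` is an isometry from `(u', b')` to `(u, b)` with inverse `R` -/
noncomputable def isoC (u b u' b' P R : ℕ) : Bool := allLT 8 fun i => force (row P i) fun x =>
  and' (and' (and' (Nat.blt x 256) (Nat.blt (row R i) 256)) (and' (Nat.beq (app R x) (2 ^ i))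
    (Nat.beq (app P (row R i)) (2 ^ i)))) (and' (Nat.beq (bil u x x) (bil u' (2 ^ i) (2 ^ i)))
    (allLT 8 fun j => Nat.beq (bil b x (row P j)) (bil b' (2 ^ i) (2 ^ j))))

/-- `P` fixes `255` and normalises `tr` -/
noncomputable def nrmC (P φ : ℕ) : Bool := and' (Nat.beq (app P 255) 255) (allLT 8 fun i =>
  and' (anyLT 8 fun j => Nat.beq (dig 3 7 φ j) i) (allLT 8 fun k =>
    Nat.beq (app P (row (tr i) k)) (app (tr (dig 3 7 φ i)) (row P k))))

theorem app_lt8 (h : ∀ i < 8, row P i < 256) : ∀ v < 256, app P v < 256 :=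
  bits_induction (n := 8) (by rw [app_zero]; decide) fun i hi v hv e => by
    rw [app_xor _ (l12 hv) (l12 (p8 hi)), app_two_pow _ (by omega)]
    exact x8 e (h i hi)

theorem app2_ext {A B C D : ℕ} (h : ∀ i < 8, app A (row B i) = app C (row D i)) :
    ∀ v < 256, app A (app B v) = app C (app D v) :=
  lin_ext (n := 8) (fun _ a _ c => by rw [app_xor _ (l12 a) (l12 c), app_xor _ (app_lt _ _) (app_lt _ _)])
    (fun _ a _ c => by rw [app_xor _ (l12 a) (l12 c), app_xor _ (app_lt _ _) (app_lt _ _)])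
    fun i hi => by rw [app_two_pow _ (by omega), app_two_pow _ (by omega), h i hi]

theorem bil_ext8 {f g : ℕ → ℕ → ℕ}
    (f1 : ∀ v < 256, ∀ v' < 256, ∀ w < 256, f (v ^^^ v') w = f v w ^^^ f v' w)
    (f2 : ∀ v < 256, ∀ w < 256, ∀ w' < 256, f v (w ^^^ w') = f v w ^^^ f v w')
    (g1 : ∀ v < 256, ∀ v' < 256, ∀ w < 256, g (v ^^^ v') w = g v w ^^^ g v' w)
    (g2 : ∀ v < 256, ∀ w < 256, ∀ w' < 256, g v (w ^^^ w') = g v w ^^^ g v w')
    (h : ∀ i < 8, ∀ j < 8, f (2 ^ i) (2 ^ j) = g (2 ^ i) (2 ^ j)) :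
    ∀ v < 256, ∀ w < 256, f v w = g v w := fun v hv w hw =>
  lin_ext (n := 8) (f := fun v => f v w) (g := fun v => g v w) (fun v hv v' hv' => f1 v hv v' hv' w hw)
    (fun v hv v' hv' => g1 v hv v' hv' w hw)
    (fun i hi => lin_ext (n := 8) (f2 _ (p8 hi)) (g2 _ (p8 hi)) (h i hi) w hw) v hv

theorem pol_spec (h : pol u b = true) {v w : ℕ} (hv : v < 256) (hw : w < 256) :
    bil u (v ^^^ w) (v ^^^ w) = bil u v v ^^^ bil u w w ^^^ bil b v w := by
  simp only [pol, allLT_iff, beq_iff] at h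
  rw [bil_ext8 (f := bil b) (g := fun v w => bil u v w ^^^ bil u w v)
    (fun _ a _ c _ _ => bil_xor_left _ (l12 a) (l12 c) _) (fun _ _ _ _ _ _ => bil_xor_right _ _ _ _)
    (fun _ a _ c _ _ => by simp only [bil_xor_left _ (l12 a) (l12 c), bil_xor_right]; ac_rfl)
    (fun _ _ _ a _ c => by simp only [bil_xor_left _ (l12 a) (l12 c), bil_xor_right]; ac_rfl)
    h v hv w hw, bil_xor_left _ (l12 hv) (l12 hw), bil_xor_right, bil_xor_right]
  ac_rfl

/-- what `isoC` checks -/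
structure Iso (u b u' b' P R : ℕ) : Prop where
  lP : ∀ v < 256, app P v < 256
  lR : ∀ v < 256, app R v < 256
  RP : ∀ v < 256, app R (app P v) = v
  PR : ∀ v < 256, app P (app R v) = v
  q : ∀ v < 256, bil u (app P v) (app P v) = bil u' v v
  b : ∀ v < 256, ∀ w < 256, bil b (app P v) (app P w) = bil b' v w

theorem isoC_spec (h1 : pol u b = true) (h2 : pol u' b' = true) (h : isoC u b u' b' P R = true) :
    Iso u b u' b' P R := by
  simp only [isoC, allLT_iff, force_eq, and'_eq_true, beq_iff, blt_iff] at h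
  have l := app_lt8 fun i hi => (h i hi).1.1.1
  have k : ∀ {A B : ℕ}, (∀ i < 8, app A (row B i) = 2 ^ i) → ∀ v < 256, app A (app B v) = v :=
    fun e v hv => by
      rw [app2_ext (C := i8) (D := i8) (fun i hi => by
        rw [e i hi, ← app_two_pow _ (by omega), app_i8 _ (p8 hi), app_i8 _ (p8 hi)]) v hv,
        app_i8 v hv, app_i8 v hv]
  have e := bil_ext8 (f := fun v w => bil b (app P v) (app P w)) (g := bil b')
    (fun _ a _ c _ _ => by rw [app_xor _ (l12 a) (l12 c), bil_xor_left _ (app_lt _ _) (app_lt _ _)])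
    (fun _ _ _ a _ c => by rw [app_xor _ (l12 a) (l12 c), bil_xor_right])
    (fun _ a _ c _ _ => bil_xor_left _ (l12 a) (l12 c) _) (fun _ _ _ _ _ _ => bil_xor_right _ _ _ _)
    fun i hi j hj => by
      rw [app_two_pow _ (by omega), app_two_pow _ (by omega)]; exact (h i hi).2.2 j hj
  refine ⟨l, app_lt8 fun i hi => (h i hi).1.1.2, k fun i hi => (h i hi).1.2.1,
    k fun i hi => (h i hi).1.2.2, bits_induction (n := 8) (by rw [app_zero, bil_zero_right,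
      bil_zero_right]) fun i hi v hv a => ?_, e⟩
  rw [app_xor _ (l12 hv) (l12 (p8 hi)), pol_spec h1 (l v hv) (l _ (p8 hi)), pol_spec h2 hv (p8 hi), a,
    e v hv _ (p8 hi), app_two_pow _ (by omega), (h i hi).2.1]

theorem Iso.ac (e : Iso u b u' b' P R) (a : Ac z ψ g M)
    (k : ∀ v < 256, app N v < 256 ∧ app P (app N v) = app M (app P v)) :
    Ac z (fun v => ψ (app P v)) g N :=
  ⟨a.1, fun v hv => ⟨(k v hv).1, by
    beta_reduce; rw [(k v hv).2]; exact (a.2 _ (e.lP v hv)).2⟩⟩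

theorem Iso.ac' (e : Iso u b u' b' P R) (a : Ac z (fun v => ψ (app P v)) g N) :
    Ac z ψ g (mm P (mm N R)) := ⟨a.1, fun v hv => by
  have := a.2 _ (e.lR v hv)
  rw [app_mm _ _ (l12 hv), app_mm _ _ (l12 hv)]
  exact ⟨e.lP _ this.1, by simpa only [e.PR v hv] using this.2⟩⟩

theorem Iso.ac_iff (e : Iso u b u' b' P R) (l : ∀ v < 256, app N v < 256) :
    Ac z (fun v => ψ (app P v)) g N ↔ Ac z ψ g (mm P (mm N R)) :=
  ⟨e.ac', fun a => e.ac a fun v hv => ⟨l v hv, by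
    rw [app_mm _ _ (app_lt _ _), app_mm _ _ (app_lt _ _), e.RP v hv]⟩⟩

theorem CF.chg (h : CF z ψ u b) (e : Iso u b u' b' P R) : CF z (fun v => ψ (app P v)) u' b' :=
  ⟨h.xh, fun _ => h.mem _, fun v hv w hw => by
    rw [app_xor _ (l12 hv) (l12 hw)]; exact h.add _ (e.lP v hv) _ (e.lP w hw), fun x hx =>
    let ⟨v, hv, c⟩ := h.onto x hx
    ⟨_, e.lR v hv, (e.PR v hv).symm ▸ c⟩, fun v hv w hw c => by
    rw [← e.RP v hv, h.inj _ (e.lP v hv) _ (e.lP w hw) c, e.RP w hw],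
    fun v hv => e.q v hv ▸ h.sq _ (e.lP v hv),
    fun v hv w hw => e.b v hv w hw ▸ h.comm _ (e.lP v hv) _ (e.lP w hw)⟩

theorem tr_lt : ∀ i < 8, ∀ v < 256, app (tr i) v < 256 := by decide +kernel

theorem Fm.chg {φ : ℕ} (h : Fm z ψ u b) (e : Iso u b u' b' P R) (n : nrmC P φ = true) :
    Fm z (fun v => ψ (app P v)) u' b' := by
  simp only [nrmC, and'_eq_true, allLT_iff, anyLT_iff, beq_iff] at n
  have k : ∀ i < 8, ∀ {x}, Ac z ψ x (tr (dig 3 7 φ i)) → Ac z (fun v => ψ (app P v)) x (tr i) :=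
    fun i hi _ a => e.ac a fun v hv => ⟨tr_lt i hi v hv, app2_ext (n.2 i hi).2 v hv⟩
  refine ⟨h.toCF.chg e, n.1.symm ▸ h.fa, fun i hi => ?_, fun x hx c => ?_⟩
  · obtain ⟨x, a, c⟩ := h.aA (dig 3 7 φ i) (Nat.lt_succ_of_le Nat.and_le_right)
    exact ⟨x, n.1.symm ▸ a, k i hi c⟩
  · obtain ⟨i, hi, a⟩ := h.aA' x (n.1 ▸ hx) c
    obtain ⟨j, hj, rfl⟩ := (n.2 i hi).1
    exact ⟨j, hj, k j hj a⟩

theorem Iso.pt (e : Iso u b u' b' P R) (h : Pt z (fun v => ψ (app P v)) (p, N)) :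
    Pt z ψ (app P p, mm P (mm N R)) :=
  let ⟨a, c, y, d, f⟩ := h
  ⟨e.lP _ a, c, y, d, e.ac' f⟩

theorem Iso.pt' (e : Iso u b u' b' P R) (l : ∀ i < 8, row N i < 256) (hp : p < 256)
    (h : Pt z ψ (app P p, mm P (mm N R))) : Pt z (fun v => ψ (app P v)) (p, N) :=
  let ⟨_, c, y, d, f⟩ := h
  ⟨hp, c, y, d, (e.ac_iff (app_lt8 l)).2 f⟩

variable [Finite G]

/-- transport of the group at a point -/
theorem CF.mv (h : CF z ψ u b) (a : Af z ψ g f) (hp : p < 256) (k : FP z (ψ p)) :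
    FP z (ψ (f p)) ∧ ∃ c, Af z ψ c f ∧ c * ψ p * c⁻¹ = ψ (f p) := by
  have k' := k.cj a.1
  have e := (a.2 p hp).2.symm h.zz
  obtain ⟨q, hq, c⟩ := exists_conj_of_eqv h.xs k'.mem k'.t_ne k'.ne e
  refine ⟨k'.of_eqv e, q * g, ⟨comm_mul_left (h.xs.z_comm q hq) a.1, fun v hv => ⟨(a.2 v hv).1, ?_⟩⟩,
    by rw [← c]; group⟩
  have := Eqv.trans h.zz (h.xs.conj hq (h.xh.lx.norm g a.1 _ (h.mem v))) (a.2 v hv).2
  simpa [mul_assoc] using this

omit [Finite G] in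
theorem CF.cj (h : CF z ψ u b) (a : Af z ψ g f) (c : Ac z ψ y M) (d : Ac z ψ (g * y * g⁻¹) N) {v : ℕ}
    (hv : v < 256) : app N (f v) = f (app M v) := by
  refine h.inj _ (d.2 _ (a.2 v hv).1).1 _ (a.2 _ (c.2 v hv).1).1 (((h.ac_eqv d (a.2 v hv).1
    (a.2 v hv).2).symm h.zz).trans h.zz (Eqv.trans h.zz ?_ (a.2 _ (c.2 v hv).1).2))
  simpa [mul_assoc] using (c.2 v hv).2.conj a.1

namespace Fm

variable (h : Fm z ψ u b) (s : Sx z ψ gs)
include h s

omit [Finite G] in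
theorem pt_lt (k : ℕ) : Pt z ψ (lt gs k) := by
  have t : ∀ i < 8, Pt z ψ (255, tr i) := fun i hi => ⟨Nat.lt_succ_self _, h.fa, h.aA i hi⟩
  have : ∀ l, Sx z ψ l → ∀ k, Pt z ψ (nth (255, i8) l k) := fun l hl => by
    induction l with
    | nil => exact fun _ => ⟨Nat.lt_succ_self _, h.fa, 1, one_mem _, h.ac_of_mem (one_mem _)⟩
    | cons a l ih =>
      rintro (_ | k)
      exacts [hl a (by simp), ih (fun M hM => hl M (by simp [hM])) k]
  refine this _ (fun p hp => ?_) k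
  simp only [List.mem_cons] at hp
  rcases hp with rfl | rfl | rfl | hp
  exacts [t 1 (by decide), t 2 (by decide), t 4 (by decide), s p hp]

omit [Finite G] in
theorem exists_mw (W : List ℕ) : ∃ g, Ac z ψ g (mw (fun k => (lt gs k).2) W) := by
  choose ρ _ hρ using fun k => (h.pt_lt s k).2.2
  exact ⟨_, h.ac_word hρ W⟩

omit [Finite G] in
theorem exists_av (W : List ℕ) : ∃ g, Af z ψ g (av gs W) := by
  induction W with
  | nil => exact ⟨1, by simp, fun v hv => ⟨hv, Or.inl (by simp [av])⟩⟩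
  | cons k W ih =>
    obtain ⟨g, a⟩ := ih
    obtain ⟨y, -, c⟩ := (h.pt_lt s k).2.2
    refine ⟨y * g, comm_mul_left c.1 a.1, fun v hv => ⟨(c.2 _ (a.2 v hv).1).1, ?_⟩⟩
    rw [show y * g * ψ v * (y * g)⁻¹ = y * (g * ψ v * g⁻¹) * y⁻¹ by group]
    exact h.ac_eqv c (a.2 v hv).1 (a.2 v hv).2

omit s in
/-- an element mapping `p` to `255` maps the group at `p` into `tr` -/
theorem mv_tr (a : Af z ψ g f) (k : Pt z ψ (p, M)) (e : f p = 255) :
    ∃ i < 8, ∀ v < 256, app (tr i) (f v) = f (app M v) := by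
  obtain ⟨hp, k, y, m, c⟩ := k
  obtain ⟨-, g, a, d⟩ := h.mv a hp k
  obtain ⟨i, hi, t⟩ := h.aA' _ (e ▸ d ▸ conj_mem_O2C_conj g m)
    (comm_mul_left (comm_mul_left a.1 c.1) (comm_inv_left a.1))
  exact ⟨i, hi, fun v hv => h.cj a c t hv⟩

theorem not_kill {c : ℕ} : kill gs c ≠ true := fun e => by
  simp only [kill, and'_eq_true, beq_iff, force_eq, allLT_iff, not'_eq_true] at e
  obtain ⟨g, a⟩ := h.exists_av s (dw (Nat.shiftRight c 12))
  obtain ⟨i, hi, t⟩ := h.mv_tr a (h.pt_lt s _) e.1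
  exact e.2 i hi (t _ (Nat.lt_succ_of_le Nat.and_le_right))

theorem of_der {p : ℕ × ℕ} {c : ℕ} (e : der gs p c = true) : Pt z ψ p := by
  simp only [der, force_eq, and'_eq_true, beq_iff] at e
  obtain ⟨g, a⟩ := h.exists_mw s (dw (Nat.shiftRight c 3))
  obtain ⟨k, g, a, d⟩ := h.mv a (by decide) h.fa
  obtain ⟨x, m, t⟩ := h.aA (Nat.land c 7) (Nat.lt_succ_of_le Nat.and_le_right)
  obtain ⟨N, n⟩ := h.exists_ac (comm_mul_left (comm_mul_left a.1 t.1) (comm_inv_left a.1))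
  refine ⟨e.1 ▸ (a.2 255 (by decide)).1, e.1 ▸ k, _, e.1 ▸ d ▸ conj_mem_O2C_conj g m,
    n.congr fun v hv => ?_⟩
  obtain ⟨w, hw, c⟩ := h.onto _ (h.xh.lx.norm _ (comm_inv_left a.1) _ (h.mem v))
  obtain rfl := h.inj v hv _ (a.2 w hw).1 (by simpa [mul_assoc] using h.ac_eqv a hw c)
  rw [h.cj a t n hw, ← app_mm _ _ (l12 hw), app_eq8 e.2 w hw, app_mm _ _ (l12 hw)]

end Fm

/-- a change of frame after which the letters `tg` are available -/
noncomputable def move (u b : ℕ) (gs tg : List (ℕ × ℕ)) (c : ℕ × ℕ × ℕ × List ℕ) : Bool :=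
  and' (and' (isoC u b u b c.1 c.2.1) (nrmC c.1 c.2.2.1)) (allL tg fun p => and' (and' (Nat.blt p.1 256)
    (allLT 8 fun i => Nat.blt (row p.2 i) 256)) (force (mm c.1 (mm p.2 c.2.1)) fun N =>
      anyL c.2.2.2 (der gs (app c.1 p.1, N))))

theorem Fm.of_move (h : Fm z ψ u b) (s : Sx z ψ gs) (hp : pol u b = true) {tg : List (ℕ × ℕ)}
    {c : ℕ × ℕ × ℕ × List ℕ} (e : move u b gs tg c = true) : ∃ ψ, Fm z ψ u b ∧ Sx z ψ tg := by
  simp only [move, and'_eq_true, allL_iff, allLT_iff, blt_iff, force_eq, anyL_iff] at e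
  have i := isoC_spec hp hp e.1.1
  refine ⟨_, h.chg i e.1.2, fun p hp => ?_⟩
  obtain ⟨⟨a, l⟩, _, -, d⟩ := e.2 p hp
  exact i.pt' l a (h.of_der s d)

end Cfsg.Agent.X9
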