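import Cfsg.Agent.X9.Geo
import Cfsg.Agent.Class.Orth.MaxSingular

/-! Linear algebra of `Geo`. -/

set_option autoImplicit false

namespace Cfsg.Agent.X9

open Subgroup Cfsg.Agent.TT Cfsg.Agent.LES Cfsg.Agent.XSC Cfsg.Agent.XSC.WC Cfsg.Agent.XW
  Cfsg.Agent.U6R Cfsg.Agent.Class.Orth QuadraticMap Module
open Cfsg.Agent.X7 (mem_c eqv_one_iff_mem z2)

variable {V : Type} [AddCommGroup V] [Module (ZMod 2) V] {q : QuadraticForm (ZMod 2) V}

namespace Geo

variable (γ : Geo q) {p e v w : V} {g k : OG q}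

/-- the group at `p` consists of Eichler maps with centre `p` -/
def T0 (p : V) : Prop := ∀ g ∈ γ.A p, ∀ v, polar q p v = 0 → g.1 v = v ∨ g.1 v = v + p

include γ in
theorem finite : Finite V := by
  have := Module.finite_of_finrank_pos (R := ZMod 2) (M := V) (by rw [γ.dim]; omega)
  exact Module.finite_of_finite (ZMod 2)

variable {γ}

theorem q_eq (hp : p ∈ γ.Ω) : q p = 0 := γ.sing p hp p (γ.self p hp)

theorem perpL (hp : p ∈ γ.Ω) (hv : v ∈ γ.L p) (hw : w ∈ γ.L p) : polar q v w = 0 := by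
  rw [polar, γ.sing p hp _ (add_mem hv hw), γ.sing p hp v hv, γ.sing p hp w hw]; rfl

theorem rank_le (hp : p ∈ γ.Ω) : finrank (ZMod 2) (γ.L p) ≤ 4 := by
  have := γ.finite
  have h1 := γ.nd.finrank_perp (γ.L p)
  have h2 := Submodule.finrank_mono (show γ.L p ≤ perp q (γ.L p) from fun v hv w hw => perpL hp hw hv)
  rw [γ.dim] at h1
  omega

theorem rank_pos (hp : p ∈ γ.Ω) : 1 ≤ finrank (ZMod 2) (γ.L p) := by
  have := γ.finite
  exact Nat.pos_of_ne_zero fun e => γ.ne p hp ((Submodule.finrank_eq_zero.1 e).le (γ.self p hp))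

/-- a solid is its own perp -/
theorem mem_L (hp : p ∈ γ.Ω) (h4 : finrank (ZMod 2) (γ.L p) = 4)
    (hv : ∀ w ∈ γ.L p, polar q w v = 0) : v ∈ γ.L p := by
  have := γ.finite
  have h1 := γ.nd.finrank_perp (γ.L p)
  rw [γ.dim] at h1
  exact (Submodule.eq_of_le_of_finrank_le (show γ.L p ≤ perp q (γ.L p) from fun v hv w hw =>
    perpL hp hw hv) (by omega)).ge hv

theorem mem_map_L (hg : g ∈ γ.H) (hp : p ∈ γ.Ω) : g.1 v ∈ γ.L (g.1 p) ↔ v ∈ γ.L p := 
  ⟨fun m => by simpa using γ.mapL _ (inv_mem hg) _ (γ.mapΩ g hg p hp) _ m, γ.mapL g hg p hp v⟩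

theorem mem_map_A (hg : g ∈ γ.H) (hp : p ∈ γ.Ω) : g * k * g⁻¹ ∈ γ.A (g.1 p) ↔ k ∈ γ.A p := 
  ⟨fun m => by simpa [mul_assoc] using γ.mapA _ (inv_mem hg) _ (γ.mapΩ g hg p hp) _ m,
    γ.mapA g hg p hp k⟩

theorem rank_map (hg : g ∈ γ.H) (hp : p ∈ γ.Ω) :
    finrank (ZMod 2) (γ.L (g.1 p)) = finrank (ZMod 2) (γ.L p) := by
  rw [← LinearEquiv.finrank_map_eq g.1 (γ.L p), show (γ.L p).map g.1.toLinearMap = γ.L (g.1 p) from
    Submodule.ext fun v => by
      rw [Submodule.mem_map_equiv, ← mem_map_L hg hp, LinearEquiv.apply_symm_apply]]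

theorem T0.map (hg : g ∈ γ.H) (hp : p ∈ γ.Ω) (h : γ.T0 p) : γ.T0 (g.1 p) := fun k hk v hv => by
  have := h (g⁻¹ * k * g) ((mem_map_A hg hp).1 (by simpa [mul_assoc] using hk)) (g⁻¹.1 v)
    (by rw [← OG.polar_apply_left, hv])
  simp only [OG.mul_apply, OG.apply_inv_apply, OG.inv_apply_eq_iff, map_add] at this
  exact this

theorem comm (hp : p ∈ γ.Ω) (hg : g ∈ γ.A p) (hk : k ∈ γ.A p) : g * k = k * g := by
  have := γ.sq p hp _ (mul_mem hg hk)
  rw [← inv_eq_of_mul_eq_one_right this, mul_inv_rev, inv_eq_of_mul_eq_one_right (γ.sq p hp g hg),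
    inv_eq_of_mul_eq_one_right (γ.sq p hp k hk)]

theorem apply_apply (hp : p ∈ γ.Ω) (hg : g ∈ γ.A p) (v : V) : g.1 (g.1 v) = v := by
  rw [← OG.mul_apply, γ.sq p hp g hg, OG.one_apply]

theorem polar_swap (hp : p ∈ γ.Ω) (hg : g ∈ γ.A p) (v w : V) :
    polar q (g.1 v) w = polar q v (g.1 w) := by
  rw [← OG.map_polar g, apply_apply hp hg]

/-- `A p` acts on `L p ^ ⊥` by maps with centre `p` -/
theorem cmL (hp : p ∈ γ.Ω) (hg : g ∈ γ.A p) (hv : ∀ w ∈ γ.L p, polar q w v = 0) :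
    g.1 v = v ∨ g.1 v = v + p := by
  have := X7.eq_of_perp1 γ.nd (x := g.1 v + v) (u := p) fun w hw => by
    rw [polar_add_left, polar_swap hp hg, ← polar_add_right, polar_comm]
    exact hv _ (γ.cm p hp g hg w hw)
  exact this.imp two_eq_of_add fun e => by rw [← e, add_comm (g.1 v), two_add_add]

theorem polar_self (hp : p ∈ γ.Ω) (hg : g ∈ γ.A p) (hv : polar q p v = 0) :
    polar q (g.1 v) v = 0 := by
  rw [polar, γ.sing p hp _ (γ.cm p hp g hg v hv), OG.map_Q, zero_sub, ← neg_add', CharTwo.add_self_eq_zero,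
    neg_zero]

/-- the symmetry of the trilinear form -/
theorem tau_symm (hp : p ∈ γ.Ω) (hg : g ∈ γ.A p) (hk : k ∈ γ.A p) (e : V) :
    g.1 (k.1 e + e) + (k.1 e + e) = k.1 (g.1 e + e) + (g.1 e + e) := by
  rw [map_add, map_add, ← OG.mul_apply, ← OG.mul_apply, comm hp hg hk]
  abel

theorem T0_of_le (hp : p ∈ γ.Ω) (h3 : finrank (ZMod 2) (γ.L p) ≤ 3) : γ.T0 p := fun g hg v hv => by
  have := γ.finite
  obtain ⟨e, he⟩ := γ.nd.exists_polar_eq (γ.ne p hp) 1
  have pu : ∀ k ∈ γ.A p, polar q p (k.1 e + e) = 0 := fun k hk => by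
    rw [polar_add_right, ← polar_swap hp hk, γ.fix p hp k hk, CharTwo.add_self_eq_zero]
  have k0 : ∀ k ∈ γ.A p, ∀ m ∈ perp q (γ.L p), ∀ w, polar q p w = 0 → polar q (k.1 m + m) w = 0 :=
    fun k hk m hm w hw => by
      rcases cmL hp hk hm with c | c <;> rw [c]
      · rw [two_add_self, polar_zero_left]
      · rw [add_comm m, two_add_add', hw]
  have gu : g.1 (g.1 e + e) + (g.1 e + e) = 0 := by
    rw [map_add, apply_apply hp hg, add_comm e, two_add_self]
  have sp : ∀ {S : Submodule (ZMod 2) V} {x y}, y ∈ S ⊔ Submodule.span (ZMod 2) {x} →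
      y ∈ S ∨ ∃ m ∈ S, y = m + x := fun m => by
    obtain ⟨a, ha, _, hb, rfl⟩ := Submodule.mem_sup.1 m
    obtain ⟨c, rfl⟩ := Submodule.mem_span_singleton.1 hb
    rcases z2 c with rfl | rfl
    exacts [Or.inl (by simpa using ha), Or.inr ⟨a, ha, by simp⟩]
  have := X7.eq_of_perp1 γ.nd (x := g.1 v + v) (u := p) fun w hw => by
    let S := perp q (γ.L p)
    let S1 := S ⊔ Submodule.span (ZMod 2) {g.1 e + e}
    let S2 := S1 ⊔ Submodule.span (ZMod 2) {v}
    have k1 : ∀ x ∈ S1, ∀ w, polar q p w = 0 → polar q (g.1 x + x) w = 0 := fun x hx w hw => by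
      rcases sp hx with m | ⟨m, hm, rfl⟩
      · exact k0 g hg x m w hw
      · rw [map_add, add_add_add_comm, gu, add_zero]; exact k0 g hg m hm w hw
    have sw : ∀ x y, polar q (g.1 x + x) y = polar q (g.1 y + y) x := fun x y => by
      rw [polar_add_left, polar_swap hp hg, ← polar_add_right, polar_comm]
    by_cases c1 : g.1 e + e ∈ S
    · obtain ⟨k, hk, m⟩ := γ.surj p hp e he v hv
      rw [← two_add_add (k.1 e + e) v, map_add, add_add_add_comm, tau_symm hp hg hk, polar_add_left,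
        k0 k hk _ c1 w hw, k0 g hg _ (fun x hx => perpL hp hx m) w hw, add_zero]
    by_cases c2 : v ∈ S1
    · exact k1 v c2 w hw
    by_cases c3 : w ∈ S2
    · rcases sp c3 with m | ⟨m, hm, rfl⟩
      · rw [sw]; exact k1 w m v hv
      · rw [polar_add_right, sw, k1 m hm v hv, polar_add_left, polar_self hp hg hv, polar_two_self]
        rfl
    have lt : ∀ {S : Submodule (ZMod 2) V} {x}, x ∉ S → finrank (ZMod 2) S <
        finrank (ZMod 2) (S ⊔ Submodule.span (ZMod 2) {x} : Submodule _ _) := fun n =>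
      Submodule.finrank_lt_finrank_of_lt (lt_of_le_of_ne le_sup_left fun e =>
        n (e.ge (Submodule.mem_sup_right (Submodule.mem_span_singleton_self _))))
    have h1 := γ.nd.finrank_perp (γ.L p)
    have l1 : finrank (ZMod 2) S < finrank (ZMod 2) S1 := lt c1
    have l2 : finrank (ZMod 2) S1 < finrank (ZMod 2) S2 := lt c2
    have l3 := lt c3
    have l4 := Submodule.finrank_lt (s := S2 ⊔ Submodule.span (ZMod 2) {w}) fun t => by
      have : S2 ⊔ Submodule.span (ZMod 2) {w} ≤ LinearMap.ker (polarBilin q p) := by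
        simp only [S2, S1, sup_le_iff, Submodule.span_singleton_le_iff_mem]
        exact ⟨⟨⟨fun x hx => hx p (γ.self p hp), pu g hg⟩, hv⟩, hw⟩
      exact zero_ne_one ((this (t.ge (Submodule.mem_top (x := e)))).symm.trans he)
    rw [γ.dim] at h1 l4
    change _ + finrank (ZMod 2) S = _ at h1
    omega
  exact this.imp two_eq_of_add fun e => by rw [← e, add_comm (g.1 v), two_add_add]

theorem card_A (hp : p ∈ γ.Ω) : Nat.card (γ.A p) * 2 ^ finrank (ZMod 2) (γ.L p) = 128 := by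
  have := γ.finite
  obtain ⟨e, he⟩ := γ.nd.exists_polar_eq (γ.ne p hp) 1
  have h1 := γ.nd.finrank_perp (Submodule.span (ZMod 2) {p})
  rw [finrank_span_singleton (γ.ne p hp), γ.dim] at h1
  have mp : ∀ {v}, v ∈ perp q (Submodule.span (ZMod 2) {p}) ↔ polar q p v = 0 :=
    ⟨fun m => m p (Submodule.mem_span_singleton_self p), fun m x hx => by
      obtain ⟨c, rfl⟩ := Submodule.mem_span_singleton.1 hx
      rw [polar_smul_left, m, smul_zero]⟩
  have h2 := Nat.card_eq_of_bijective (fun x : γ.A p × γ.L p => (⟨x.1.1.1 e + e + x.2, mp.2 (by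
    rw [polar_add_right, polar_add_right, ← polar_swap hp x.1.2, γ.fix p hp _ x.1.2,
      CharTwo.add_self_eq_zero, zero_add, perpL hp (γ.self p hp) x.2.2])⟩ :
      perp q (Submodule.span (ZMod 2) {p}))) ⟨fun ⟨⟨g, hg⟩, l, hl⟩ ⟨⟨k, hk⟩, m, hm⟩ c => by
    replace c : g.1 e + e + l = k.1 e + e + m := congrArg Subtype.val c
    have d : g.1 e + k.1 e = l + m := two_eq_of_add (by
      rw [← two_add_add' (g.1 e + k.1 e + (l + m)) e, show g.1 e + k.1 e + (l + m) + e + e =
        g.1 e + e + l + (k.1 e + e + m) by abel, c, two_add_self])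
    have := γ.mapL k (γ.le p hp hk) p hp _ (d ▸ add_mem hl hm)
    rw [γ.fix p hp k hk, map_add, apply_apply hp hk] at this
    obtain rfl : k = g := (eq_inv_of_mul_eq_one_left (γ.inj p hp _ (mul_mem hk hg) e he this)).trans
      (inv_eq_of_mul_eq_one_right (γ.sq p hp g hg))
    obtain rfl := add_left_cancel c
    rfl, fun ⟨v, hv⟩ => by
    obtain ⟨g, hg, m⟩ := γ.surj p hp e he v (mp.1 hv)
    exact ⟨⟨⟨g, hg⟩, _, m⟩, Subtype.ext (two_add_add _ _)⟩⟩
  rw [Nat.card_prod, Module.natCard_eq_pow_finrank (K := ZMod 2) (V := γ.L p),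
    Module.natCard_eq_pow_finrank (K := ZMod 2) (V := perp q _), Nat.card_zmod,
    show finrank (ZMod 2) (perp q (Submodule.span (ZMod 2) {p})) = 7 by omega] at h2
  exact h2

theorem exists_nonperp (hp : p ∈ γ.Ω) : ∃ g ∈ γ.H, polar q p (g.1 p) = 1 := by
  by_contra n
  push Not at n
  rcases γ.irr (Submodule.span (ZMod 2) {v | ∃ g ∈ γ.H, g.1 p = v}) (fun g hg v hv =>
    (Submodule.span_le (p := Submodule.comap g.1.toLinearMap
      (Submodule.span (ZMod 2) {v | ∃ g ∈ γ.H, g.1 p = v}))).2 (by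
      rintro _ ⟨k, hk, rfl⟩
      exact Submodule.subset_span ⟨g * k, mul_mem hg hk, rfl⟩) hv) with c | c
  · exact γ.ne p hp (c.le (Submodule.subset_span ⟨1, one_mem _, rfl⟩))
  · refine γ.ne p hp (γ.nd p fun v => ?_)
    exact (Submodule.span_le (p := LinearMap.ker (polarBilin q p))).2 (by
      rintro _ ⟨k, hk, rfl⟩
      exact (z2 _).resolve_right (n k hk)) (c.ge Submodule.mem_top)

/-- under `T0`, `g ∈ A p` is the Eichler map `ρ_{p,w}`, `w = g e + e` -/
theorem T0.eich (hp : p ∈ γ.Ω) (h : γ.T0 p) (hg : g ∈ γ.A p) (he : polar q p e = 1) (v : V) :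
    g.1 v = v + polar q p v • (g.1 e + e) + (polar q (g.1 e + e) v +
      polar q p v * polar q (g.1 e + e) e) • p := by
  have k : ∀ v, polar q p v = 0 → g.1 v = v + polar q (g.1 e + e) v • p := fun v hv => by
    have s : polar q (g.1 e + e) v = polar q (g.1 v + v) e := by
      rw [polar_add_left, polar_swap hp hg, ← polar_add_right, polar_comm]
    rcases h g hg v hv with c | c <;> rw [s, c]
    · simp [two_add_self]
    · rw [add_comm v p, two_add_add', he, one_smul, add_comm]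
  rcases z2 (polar q p v) with c | c <;> rw [c]
  · simpa using k v c
  · have := k (v + e) (by rw [polar_add_right, c, he]; rfl)
    rw [map_add, polar_add_right] at this
    rw [one_smul, one_mul, ← two_add_add' (g.1 v) (g.1 e), this]
    abel

end Geo

end Cfsg.Agent.X9
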