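import Cfsg.Agent.X9.ClsA
import Cfsg.Agent.X9.Tau

/-! The link between frames and the geometry in the case of rank four. -/

set_option autoImplicit false

namespace Cfsg.Agent.X9

open Subgroup Cfsg.Agent.TT Cfsg.Agent.LES Cfsg.Agent.XSC Cfsg.Agent.XSC.WC Cfsg.Agent.XW
  Cfsg.Agent.J4 Cfsg.Agent.Comp Cfsg.Agent.U6R Cfsg.Agent.Class.Orth QuadraticMap Module
open Cfsg.Agent.Comp.BN (nth ev ev_cons)
open Cfsg.Agent.X7 (mem_c eqv_one_iff_mem z2)
open Cfsg.Agent.ThT (x8 p8 l12 i8 app_i8 mw cast_inj)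

variable {V : Type} [AddCommGroup V] [Module (ZMod 2) V] {q : QuadraticForm (ZMod 2) V} {γ : Geo q}

namespace Geo

variable {p e : V} (hp : p ∈ γ.Ω) {g k : OG q} (hg : g ∈ γ.A p)
include hp hg

theorem tau_comm (v w : V) : polar q (g.1 v + v) w = polar q (g.1 w + w) v := by
  rw [polar_add_left, polar_swap hp hg, ← polar_add_right, polar_comm]

theorem tau_L {v w : V} (hv : v ∈ γ.L p) (hw : polar q p w = 0) : polar q (g.1 v + v) w = 0 := by
  rcases cmL hp hg fun x hx => perpL hp hx hv with c | c <;> rw [c]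
  · rw [two_add_self, polar_zero_left]
  · rw [add_comm v, two_add_add', hw]

theorem tau_congr {v x w : V} (hv : v + x ∈ γ.L p) (hw : polar q p w = 0) :
    polar q (g.1 v + v) w = polar q (g.1 x + x) w := by
  rw [← two_add_add v x, map_add, add_add_add_comm, polar_add_left q (g.1 v + v), tau_L hp hg hv hw,
    add_zero]

theorem tau_swap (hk : k ∈ γ.A p) {v x w : V} (hv : g.1 e + e + v ∈ γ.L p) (hx : k.1 e + e + x ∈ γ.L p)
    (hw : polar q p w = 0) : polar q (g.1 x + x) w = polar q (k.1 v + v) w := by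
  rw [← tau_congr hp hg hx hw, tau_symm hp hg hk, tau_congr hp hk hv hw]

theorem tau_own {v w : V} (hv : g.1 e + e + v ∈ γ.L p) (hw : polar q p w = 0) :
    polar q (g.1 v + v) w = 0 := by
  rw [← tau_congr hp hg hv hw, map_add, apply_apply hp hg, add_comm e, two_add_self, polar_zero_left]

theorem perp_of {v : V} (hv : g.1 e + e + v ∈ γ.L p) : polar q p v = 0 := by
  have := perpL hp (γ.self p hp) hv
  rwa [polar_add_right, polar_add_right, ← polar_swap hp hg, γ.fix p hp g hg, CharTwo.add_self_eq_zero,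
    zero_add] at this

omit hg in
/-- the trilinear form is the determinant -/
theorem tau_one (h0 : ¬ γ.T0 p) {g : Fin 3 → OG q} (hg : ∀ i, g i ∈ γ.A p) {v : Fin 3 → V}
    (hv : ∀ i, (g i).1 e + e + v i ∈ γ.L p)
    (sp : ∀ x, polar q p x = 0 → ∃ c : Fin 3 → ZMod 2, x + ∑ i, c i • v i ∈ γ.L p) :
    polar q ((g 0).1 (v 1) + v 1) (v 2) = 1 := by
  refine z2_ne.1 fun t => h0 fun k hk x hx => ?_
  have pv := fun i => perp_of hp (hg i) (hv i)
  have s1 : ∀ i j l, polar q ((g i).1 (v j) + v j) (v l) = polar q ((g j).1 (v i) + v i) (v l) :=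
    fun i j l => tau_swap hp (hg i) (hg j) (hv i) (hv j) (pv l)
  have s2 : ∀ i j l, polar q ((g i).1 (v j) + v j) (v l) = polar q ((g i).1 (v l) + v l) (v j) :=
    fun i j l => tau_comm hp (hg i) _ _
  have s3 : ∀ i l, polar q ((g i).1 (v i) + v i) (v l) = 0 := fun i l => tau_own hp (hg i) (hv i) (pv l)
  have s : ∀ i j l, polar q ((g i).1 (v j) + v j) (v l) = 0 := by
    have s4 : ∀ i l, polar q ((g i).1 (v l) + v l) (v i) = 0 := fun i l => by rw [s2, s3]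
    have s5 : ∀ i l, polar q ((g i).1 (v l) + v l) (v l) = 0 := fun i l => by rw [s1, s4]
    have t1 := (s2 0 2 1).trans t
    simp only [Fin.forall_fin_succ, IsEmpty.forall_iff, and_true, s3, s4, s5, true_and,
      Fin.succ_zero_eq_one, Fin.succ_one_eq_two]
    exact ⟨⟨t, t1⟩, ⟨(s1 _ _ _).trans t, ((s2 _ _ _).trans (s1 _ _ _)).trans t⟩,
      (s1 _ _ _).trans t1, ((s2 _ _ _).trans (s1 _ _ _)).trans t1⟩
  have ex : ∀ k ∈ γ.A p, ∀ w, polar q p w = 0 → (∀ j, polar q (k.1 (v j) + v j) w = 0) →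
      ∀ x, polar q p x = 0 → polar q (k.1 x + x) w = 0 := fun k hk w hw a x hx => by
    obtain ⟨c, m⟩ := sp x hx
    rw [tau_congr hp hk m hw, map_sum, ← Finset.sum_add_distrib, ← polarBilin_apply_apply, map_sum,
      LinearMap.sum_apply]
    exact Finset.sum_eq_zero fun i _ => by
      rw [map_smul, ← smul_add, map_smul, LinearMap.smul_apply, polarBilin_apply_apply, a, smul_zero]
  have := X7.eq_of_perp1 γ.nd (x := k.1 x + x) (u := p) fun w hw => ex k hk w hw (fun j => by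
    have m : k.1 e + e + (k.1 e + e) ∈ γ.L p := two_add_self (k.1 e + e) ▸ zero_mem _
    rw [tau_swap hp hk (hg j) m (hv j) hw]
    refine ex _ (hg j) w hw (fun l => ?_) _ (perp_of hp hk m)
    rw [tau_comm hp (hg j)]
    exact ex _ (hg j) _ (pv l) (fun i => s j i l) w hw) x hx
  exact this.imp two_eq_of_add fun e => by rw [← e, add_comm (k.1 x), two_add_add]

end Geo

variable {G : Type*} [Group G] {z g y : G} {ψ : ℕ → G} {u b M p v w : ℕ} {f : ℕ → ℕ}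
  {gs : List (ℕ × ℕ)} {π : G → V} {r : centralizer ({z} : Set G) →* OG q}

/-- all points have rank four and a non-trivial trilinear form -/
structure Gx (z : G) (π : G → V) (r : centralizer ({z} : Set G) →* OG q) (γ : Geo q) : Prop
    extends Lk z π r γ where
  h4 : ∀ p ∈ γ.Ω, finrank (ZMod 2) (γ.L p) = 4
  h0 : ∀ p ∈ γ.Ω, ¬ γ.T0 p

namespace CF

variable (h : CF z ψ u b) (o : OS z (O2C z) q π r)
include h o

theorem pi_xor (hv : v < 256) (hw : w < 256) : π (ψ (v ^^^ w)) = π (ψ v) + π (ψ w) := by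
  rw [o.pi_eqv (mul_mem (h.mem v) (h.mem w)) (h.add v hv w hw), o.add _ (h.mem v) _ (h.mem w)]

theorem pi_inj (hv : v < 256) (hw : w < 256) (e : π (ψ v) = π (ψ w)) : v = w :=
  h.inj v hv w hw (o.eqv_of_pi (h.mem v) (h.mem w) e)

theorem pi_onto (x : V) : ∃ v < 256, π (ψ v) = x := by
  obtain ⟨a, ha, rfl⟩ := o.surj x
  obtain ⟨v, hv, e⟩ := h.onto a ha
  exact ⟨v, hv, (o.pi_eqv (h.mem v) e).symm⟩

theorem pi_pol (hv : v < 256) (hw : w < 256) : polar q (π (ψ v)) (π (ψ w)) = bil b v w := by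
  have := (o.comm _ (h.mem v) _ (h.mem w)).symm.trans (h.comm v hv w hw)
  have l := bil_lt b v w
  rcases (by omega : bil b v w = 0 ∨ bil b v w = 1) with e | e <;> rw [e]
  exacts [this.2 e, z2_ne.1 fun c => by simpa [e] using this.1 c]

theorem pi_af (a : Af z ψ g f) (hv : v < 256) : (r ⟨g, mem_c.2 a.1⟩).1 (π (ψ v)) = π (ψ (f v)) :=
  (o.act ⟨g, mem_c.2 a.1⟩ _ (h.mem v)).symm.trans (o.pi_eqv (h.mem _) (a.2 v hv).2)

theorem af_of (c : centralizer ({z} : Set G)) (e : ∀ v < 256, f v < 256 ∧ (r c).1 (π (ψ v)) = π (ψ (f v))) :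
    Af z ψ c f := ⟨mem_c.1 c.2, fun v hv => ⟨(e v hv).1, o.eqv_of_pi
      (h.xh.lx.norm _ (mem_c.1 c.2) _ (h.mem v)) (h.mem _) ((o.act c _ (h.mem v)).trans (e v hv).2)⟩⟩

end CF

/-- the split form -/
def u0 : ℕ := 0x80040020010
def b0 : ℕ := 0x8004002001080040020010

/-- the elements of the group at `1` when the solid consists of the codes below `16` -/
noncomputable def y0 (i l : ℕ) : ℕ := mkM fun k => ite' (Nat.blt k 4) (2 ^ k ||| ite' (Nat.beq k (i + 1)) 1 0)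
  (ite' (Nat.beq k 4) (16 ||| 2 ^ (5 + i) ||| 2 * l ||| (l >>> i &&& 1)) (ite' (Nat.blt k 8)
    (2 ^ k ||| (l >>> (k - 5) &&& 1) ||| ite' (Nat.beq k (5 + i)) 0 (2 ^ (9 - i - k))) 0))

theorem pol0 : pol u0 b0 = true := by decide +kernel

theorem b0_lt : ∀ v < 256, (∀ i < 4, bil b0 (2 ^ i) v = 0) ↔ v < 16 := by decide +kernel

theorem b0_ext : ∀ v < 256, (∀ i < 8, bil b0 v (2 ^ i) = 0) → v = 0 := by decide +kernel

theorem y0_chk : ∀ i < 3, ∀ m < 16, bil u0 (16 ^^^ (2 ^ (5 + i) ^^^ m)) (16 ^^^ (2 ^ (5 + i) ^^^ m)) = 0 →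
    ∀ k < 8, row (y0 i (m / 2)) k < 256 ∧ ∀ j < 8, bil b0 (row (y0 i (m / 2)) k ^^^ 2 ^ k) (2 ^ j) =
      if k = 4 then bil b0 (2 ^ (5 + i) ^^^ m) (2 ^ j) else if j = 4 then bil b0 (2 ^ (5 + i) ^^^ m) (2 ^ k)
      else if k < 4 ∨ j < 4 ∨ k = j ∨ k = 5 + i ∨ j = 5 + i then 0 else 1 := by decide +kernel

theorem perm3 (i : Fin 3) : ∀ a < 8, ∀ j < 8, a ≠ 4 → j ≠ 4 →
    ¬ (a < 4 ∨ j < 4 ∨ a = j ∨ a = 5 + (i : ℕ) ∨ j = 5 + (i : ℕ)) →
    ∃ σ : Equiv.Perm (Fin 3), i = σ 0 ∧ a = 5 + (σ 1 : ℕ) ∧ j = 5 + (σ 2 : ℕ) := by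
  intro a ha j hj
  revert i
  interval_cases a <;> interval_cases j <;> decide

variable [Finite G]

namespace Gx

variable (l : Gx z π r γ)
include l

omit [Finite G] in
theorem om {s : G} (k : FP z s) : π s ∈ γ.Ω := (l.hΩ _).2 ⟨s, k, rfl⟩

theorem param (h : CF z ψ u0 b0) (k : FP z (ψ 1)) (hL : ∀ v < 16, ψ v ∈ O2C (ψ 1)) {i : ℕ} (hi : i < 3) :
    ∃ m < 8, Pt z ψ (1, y0 i m) := by
  have o := l.os
  have hp := l.om k
  have L : ∀ v < 16, π (ψ v) ∈ γ.L (π (ψ 1)) := fun v hv => (l.hL _ k _ (h.mem v)).2 (hL v hv)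
  have L' : ∀ v < 256, π (ψ v) ∈ γ.L (π (ψ 1)) → v < 16 := fun v hv m => (b0_lt v hv).1 fun i hi =>
    cast_inj (bil_lt _ _ _) two_pos ((h.pi_pol o (p8 (by omega)) hv).symm.trans
      (Geo.perpL hp (L _ (Nat.pow_lt_pow_right (a := 2) (n := 4) (by decide) hi)) m))
  have P : ∀ j < 8, j ≠ 4 → polar q (π (ψ 1)) (π (ψ (2 ^ j))) = 0 := fun j hj n => by
    rw [h.pi_pol o (by decide) (p8 hj), show bil b0 1 (2 ^ j) = 0 by revert j; decide +kernel]; rfl
  choose g hg hv using fun j : Fin 3 => γ.surj _ hp (π (ψ 16)) (by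
    rw [h.pi_pol o (by decide) (by decide)]; decide +kernel) _ (P (5 + j) (by omega) (by omega))
  have sp : ∀ σ : Equiv.Perm (Fin 3), ∀ x, polar q (π (ψ 1)) x = 0 → ∃ c : Fin 3 → ZMod 2,
      x + ∑ i, c i • π (ψ (2 ^ (5 + σ i : ℕ))) ∈ γ.L (π (ψ 1)) := fun σ x hx => by
    obtain ⟨v, hv, rfl⟩ := h.pi_onto o x
    have t : ∀ v < 256, bil b0 1 v = 0 → ∃ a < 2, ∃ c < 2, ∃ d < 2, v ^^^ (32 * a ^^^ (64 * c ^^^ 128 * d)) < 16 := by
      decide +kernel
    obtain ⟨a, ha, c, hc, d, hd, m⟩ := t v hv (cast_inj (bil_lt _ _ _) two_pos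
      ((h.pi_pol o (by decide) hv).symm.trans hx))
    refine ⟨fun i => ![(a : ZMod 2), c, d] (σ i), ?_⟩
    rw [Equiv.sum_comp σ fun i => ![(a : ZMod 2), c, d] i • π (ψ (2 ^ (5 + i : ℕ)))]
    have s : ∀ n < 256, ∀ a < 2, π (ψ (n * a)) = (a : ZMod 2) • π (ψ n) := fun n _ a ha => by
      interval_cases a
      · simpa using (o.pi_eqv (one_mem _) h.zero).trans o.pi_one
      · simp
    have := L _ m
    rw [h.pi_xor o hv (x8 (by omega) (x8 (by omega) (by omega))), h.pi_xor o (by omega)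
      (x8 (by omega) (by omega)), h.pi_xor o (by omega) (by omega), s _ (by decide) a ha,
      s _ (by decide) c hc, s _ (by decide) d hd] at this
    simpa [Fin.sum_univ_succ] using this
  have one : ∀ σ : Equiv.Perm (Fin 3), polar q ((g (σ 0)).1 (π (ψ (2 ^ (5 + σ 1 : ℕ)))) +
      π (ψ (2 ^ (5 + σ 1 : ℕ)))) (π (ψ (2 ^ (5 + σ 2 : ℕ)))) = 1 := fun σ =>
    Geo.tau_one hp (l.h0 _ hp) (g := g ∘ σ) (fun _ => hg _) (fun _ => hv _) (sp σ)
  obtain ⟨i, rfl⟩ : ∃ j : Fin 3, i = j := ⟨⟨i, hi⟩, rfl⟩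
  obtain ⟨c, m, e⟩ := (l.hA _ k _).1 (hg i)
  obtain ⟨n, hn, d⟩ := h.pi_onto o ((g i).1 (π (ψ 16)) + π (ψ 16) + π (ψ (2 ^ (5 + i : ℕ))))
  have n16 := L' n hn (d ▸ hv i)
  have l5 : 2 ^ (5 + i : ℕ) ^^^ n < 256 := x8 (p8 (by omega)) hn
  replace d : (g i).1 (π (ψ 16)) + π (ψ 16) = π (ψ (2 ^ (5 + i : ℕ) ^^^ n)) := by
    rw [h.pi_xor o (p8 (by omega)) hn, d, add_comm (_ + _), two_add_add]
  have t := y0_chk i hi n n16 ((h.sq _ (x8 (by decide) l5)).1 ((o.sq _ (h.mem _)).2 (by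
    rw [h.pi_xor o (by decide) l5, ← d, add_comm ((g i).1 _), two_add_add, OG.map_Q,
      ← o.sq _ (h.mem _), h.sq _ (by decide)]
    decide +kernel)))
  refine ⟨n / 2, by omega, Nat.one_lt_succ_succ _, k, c, m, h.ac_basis (mem_c.1 c.2) fun a ha =>
    ⟨(t a ha).1, o.eqv_of_pi (h.xh.lx.norm _ (mem_c.1 c.2) _ (h.mem _)) (h.mem _) ?_⟩⟩
  rw [o.act c _ (h.mem _), e]
  obtain ⟨x, hx, d'⟩ := h.pi_onto o ((g i).1 (π (ψ (2 ^ a))) + π (ψ (2 ^ a)))
  have l6 := x8 (t a ha).1 (p8 ha)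
  rw [← two_add_add' ((g i).1 _) (π (ψ (2 ^ a))), ← d', ← two_add_add' (π (ψ (row _ a))) (π (ψ (2 ^ a))),
    ← h.pi_xor o (t a ha).1 (p8 ha), add_left_inj]
  refine two_eq_of_add ?_
  rw [← h.pi_xor o hx l6, b0_ext _ (x8 hx l6) fun j hj => ?_]
  · exact (o.pi_eqv (one_mem _) h.zero).trans o.pi_one
  rw [bil_xor_left _ (l12 hx) (l12 l6), Nat.xor_eq_zero_iff, (t a ha).2 j hj]
  refine cast_inj (bil_lt _ _ _) (by split_ifs <;> first | exact bil_lt _ _ _ | decide) ?_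
  rw [← h.pi_pol o hx (p8 hj), d']
  split_ifs with c1 c2 c3
  · rw [c1, ← h.pi_pol o l5 (p8 hj), ← d]; rfl
  · rw [c2, Geo.tau_comm hp (hg i), ← h.pi_pol o l5 (p8 ha), ← d]; rfl
  · have lt : ∀ {k}, k < 4 → 2 ^ k < 16 := Nat.pow_lt_pow_right (a := 2) (n := 4) (by decide)
    rcases c3 with c | c | rfl | rfl | rfl
    · exact Geo.tau_L hp (hg i) (L _ (lt c)) (P j hj c2)
    · exact (Geo.tau_comm hp (hg i) _ _).trans (Geo.tau_L hp (hg i) (L _ (lt c)) (P a ha c1))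
    · rw [polar_add_left, Geo.polar_self hp (hg i) (P a ha c1), polar_two_self]; rfl
    · exact Geo.tau_own hp (hg i) (hv i) (P j hj c2)
    · exact (Geo.tau_comm hp (hg i) _ _).trans (Geo.tau_own hp (hg i) (hv i) (P a ha c1))
  · obtain ⟨σ, rfl, rfl, rfl⟩ := perm3 i a ha j hj c1 c2 c3
    exact one σ

end Gx

end Cfsg.Agent.X9
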