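import Cfsg.Agent.X9.ClsB

/-! The regular frame. -/

set_option autoImplicit false

namespace Cfsg.Agent.X9

open Subgroup Cfsg.Agent.TT Cfsg.Agent.LES Cfsg.Agent.XSC Cfsg.Agent.XSC.WC Cfsg.Agent.XW
  Cfsg.Agent.J4 Cfsg.Agent.Comp Cfsg.Agent.U6R Cfsg.Agent.Class.Orth QuadraticMap Module
open Cfsg.Agent.Comp.BN (nth ev ev_cons)
open Cfsg.Agent.X7 (mem_c eqv_one_iff_mem z2)
open Cfsg.Agent.ThT (x8 p8 l12 i8 app_i8 mw cast_inj cast_xor ph ad_ph ph_pow)

variable {V : Type} [AddCommGroup V] [Module (ZMod 2) V] {q : QuadraticForm (ZMod 2) V} {γ : Geo q}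

/-- coordinates on an elementary abelian group of order eight -/
structure Reg (A : Subgroup (OG q)) (g : ℕ → OG q) : Prop where
  mem : ∀ i, g i ∈ A
  mul : ∀ i < 8, ∀ j < 8, g (i ^^^ j) = g i * g j
  onto : ∀ x ∈ A, ∃ i < 8, g i = x

/-- the linear map with `1, 2, 4 ↦ a, b, c` -/
noncomputable def ph3 (a b c i : ℕ) : ℕ := Nat.xor (Nat.xor (Nat.mul (Nat.land i 1) a)
  (Nat.mul (Nat.land (Nat.shiftRight i 1) 1) b)) (Nat.mul (Nat.shiftRight i 2) c)

theorem ph3_xor : ∀ a < 8, ∀ b < 8, ∀ c < 8, ∀ i < 8, ph3 a b c i < 8 ∧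
    ∀ j < 8, ph3 a b c (i ^^^ j) = ph3 a b c i ^^^ ph3 a b c j := by decide +kernel

theorem Reg.zero {A : Subgroup (OG q)} {g : ℕ → OG q} (h : Reg A g) : g 0 = 1 :=
  left_eq_mul.1 (h.mul 0 (by decide) 0 (by decide))

theorem exists_not_mem {α β : Type*} [Finite α] {A : Set α} (f : β → α) (l : List β)
    (h : l.length < A.ncard) : ∃ x ∈ A, ∀ y ∈ l, f y ≠ x := by
  classical
  by_contra n
  push Not at n
  have := Set.ncard_le_ncard (show A ⊆ ((l.map f).toFinset : Set α) from fun x hx => by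
    simpa using n x hx)
  rw [Set.ncard_coe_finset] at this
  have := List.toFinset_card_le (l.map f)
  rw [List.length_map] at this
  omega

namespace Geo

variable {p e : V} (hp : p ∈ γ.Ω)
include hp

theorem exists_reg (h4 : finrank (ZMod 2) (γ.L p) = 4) : ∃ g, Reg (γ.A p) g := by
  have := γ.finite
  have : Finite (OG q) := Finite.of_injective (fun g : OG q => (g.1 : V → V))
    fun _ _ e => OG.ext (congrFun e)
  have c : Nat.card (γ.A p) = 8 := by have := card_A hp; rw [h4] at this; omega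
  have c' : (γ.A p : Set (OG q)).ncard = 8 := c
  obtain ⟨a, ha, n1⟩ := exists_not_mem id [1] (lt_of_lt_of_eq (by simp) c'.symm)
  obtain ⟨b, hb, n2⟩ := exists_not_mem id [1, a] (lt_of_lt_of_eq (by simp) c'.symm)
  obtain ⟨d, hd, n3⟩ := exists_not_mem id [1, a, b, a * b] (lt_of_lt_of_eq (by simp) c'.symm)
  simp only [List.forall_mem_cons, id, List.not_mem_nil, false_imp_iff, implies_true, and_true] at n1 n2 n3
  let g : ℕ → OG q := fun i => a ^ (i % 2) * b ^ (i / 2 % 2) * d ^ (i / 4 % 2)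
  have m : ∀ i, g i ∈ γ.A p := fun i => mul_mem (mul_mem (pow_mem ha _) (pow_mem hb _)) (pow_mem hd _)
  have mu : ∀ i < 8, ∀ j < 8, g (i ^^^ j) = g i * g j := fun i hi j hj => by
    have t : ∀ i < 8, ∀ j < 8, (i ^^^ j) % 2 = i % 2 ^^^ j % 2 ∧ (i ^^^ j) / 2 % 2 = i / 2 % 2 ^^^ j / 2 % 2 ∧
      (i ^^^ j) / 4 % 2 = i / 4 % 2 ^^^ j / 4 % 2 := by decide
    have l := fun n => Nat.mod_lt n two_pos
    simp only [g, t i hi j hj, pow_xor (γ.sq p hp a ha) (l _) (l _), pow_xor (γ.sq p hp b hb) (l _) (l _),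
      pow_xor (γ.sq p hp d hd) (l _) (l _)]
    rw [Commute.mul_mul_mul_comm (comm hp (pow_mem ha _) (pow_mem hb _)),
      Commute.mul_mul_mul_comm (comm hp (mul_mem (pow_mem ha _) (pow_mem hb _)) (pow_mem hd _))]
  have k : ∀ x ∈ γ.A p, ∀ y, x * y = 1 → x = y := fun x hx y e =>
    mul_left_cancel ((γ.sq p hp x hx).trans e.symm)
  have z : ∀ i < 8, g i = 1 → i = 0 := fun i hi e => by
    interval_cases i <;> simp only [g, Nat.reduceMod, Nat.reduceDiv, pow_zero, pow_one, one_mul, mul_one] at e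
    exacts [rfl, absurd e.symm n1, absurd e.symm n2.1, absurd (k _ ha _ e) n2.2, absurd e.symm n3.1,
      absurd (k _ ha _ e) n3.2.1, absurd (k _ hb _ e) n3.2.2.1, absurd (k _ (mul_mem ha hb) _ e) n3.2.2.2]
  refine ⟨g, m, mu, fun x hx => ?_⟩
  obtain ⟨i, e⟩ := ((Nat.bijective_iff_injective_and_card fun i : Fin 8 => (⟨g i, m i⟩ : γ.A p)).2
    ⟨fun i j e => Fin.ext (Nat.xor_eq_zero_iff.1 (z _ (Nat.xor_lt_two_pow (n := 3) i.2 j.2) (by
      rw [mu _ i.2 _ j.2, show g i = g j from congrArg Subtype.val e, γ.sq p hp _ (m j)]))),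
      by simp [c]⟩).2 ⟨x, hx⟩
  exact ⟨i, i.2, congrArg Subtype.val e⟩

theorem top (h0 : ¬ γ.T0 p) (he : polar q p e = 1) {g : ℕ → OG q} (h : Reg (γ.A p) g) :
    ph (fun i => (g i).1 e) 255 = p := by
  have o : ∀ i, (g i).1 e + e + ((g i).1 e + e) ∈ γ.L p := fun i => two_add_self ((g i).1 e + e) ▸ zero_mem _
  have c := fun i j => γ.cm p hp _ (h.mem i) _ (perp_of hp (h.mem j) (o j))
  have s : ∀ i < 8, ∀ j < 8, (g (i ^^^ j)).1 e + e + ((g i).1 e + e + ((g j).1 e + e)) ∈ γ.L p :=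
    fun i hi j hj => by
      have := c i j
      rw [map_add, ← OG.mul_apply, ← h.mul i hi j hj, ← two_add_add' (_ + (g i).1 e) e] at this
      convert this using 1
      abel
  have t := tau_one hp h0 (e := e) (g := ![g 1, g 2, g 4]) (by simp [Fin.forall_fin_succ, h.mem])
    (v := ![(g 1).1 e + e, (g 2).1 e + e, (g 4).1 e + e]) (by simp [Fin.forall_fin_succ, o]) fun x hx => by
      obtain ⟨k, hk, m⟩ := γ.surj p hp e he x hx
      obtain ⟨i, hi, rfl⟩ := h.onto k hk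
      refine ⟨![(i % 2 : ℕ), (i / 2 % 2 : ℕ), (i / 4 : ℕ)], ?_⟩
      rw [← two_add_add ((g i).1 e + e) x, add_comm _ (_ + x), add_assoc]
      refine add_mem m ?_
      interval_cases i <;> simp [Fin.sum_univ_succ, o, h.zero, OG.one_apply, two_add_self]
      exacts [s 1 (by decide) 2 (by decide), s 1 (by decide) 4 (by decide), s 2 (by decide) 4 (by decide), by
        have := add_mem (s 1 (by decide) 6 (by decide)) (s 2 (by decide) 4 (by decide))
        rwa [add_assoc, add_assoc ((g 1).1 e + e), show 2 ^^^ 4 = 6 from rfl, two_add_add] at this]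
  simp only [Matrix.cons_val] at t
  rw [polar_comm, tau_comm hp (h.mem 4) e] at t
  rcases cmL hp (h.mem 4) fun x hx => perpL hp hx (c 1 2) with d | d
  · rw [d, two_add_self, polar_zero_left] at t
    exact absurd t zero_ne_one
  · rw [← two_add_add ((g 1).1 ((g 2).1 e + e) + ((g 2).1 e + e)) p, ← d]
    simp only [map_add, ← OG.mul_apply, ← h.mul 1 (by decide) 2 (by decide), ← h.mul 4 (by decide) 1 (by decide),
      ← h.mul 4 (by decide) 2 (by decide), ← h.mul 4 (by decide) (1 ^^^ 2) (by decide)]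
    simp [ph, Finset.sum_range_succ, h.zero, OG.one_apply, Nat.testBit]
    abel

end Geo

variable {G : Type*} [Group G] [Finite G] {z g y : G} {ψ : ℕ → G} {u b M p v w : ℕ} {f : ℕ → ℕ}
  {gs : List (ℕ × ℕ)} {π : G → V} {r : centralizer ({z} : Set G) →* OG q}

/-- the form with `b(2 ^ i, 2 ^ j) = c_{i + j}` -/
noncomputable def frm (c u b : ℕ) : Bool := and' (pol u b) (allLT 8 fun i =>
  and' (Nat.beq (bil u (2 ^ i) (2 ^ i)) 0) (allLT 8 fun j =>
    Nat.beq (bil b (2 ^ i) (2 ^ j)) (dig 1 1 c (Nat.xor i j))))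

/-- the five forms -/
noncomputable def fs : List (ℕ × ℕ × ℕ) := [(128, d27.u, d27.b), (254, d9.u, d9.b), (14, d75.u, d75.b),
  (22, d15.u, d15.b), (62, 0x800c00e00c00c803c03e, 0x7c0bc0d30e30c70cb03d03e)]

theorem fs_chk : allL fs (fun p => frm p.1 p.2.1 p.2.2) = true := by decide +kernel

theorem norm_chk : allLT 256 (fun c => or' (or' (Nat.beq (dig 1 1 c 0) 1) (Nat.beq (par c) 0))
    (anyL fs fun p => anyLT 8 fun a => anyLT 8 fun b => anyLT 8 fun d => and' (allLT 8 fun i =>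
      Nat.beq (dig 1 1 c (ph3 a b d i)) (dig 1 1 p.1 i)) (allLT 8 fun j => anyLT 8 fun i =>
        Nat.beq (ph3 a b d i) j))) = true := by decide +kernel

theorem par_sum : ∀ c < 256, par c % 2 = (∑ i ∈ Finset.range 8, dig 1 1 c i) % 2 := by decide +kernel

theorem row_tr : ∀ i < 8, ∀ j < 8, app (tr j) (2 ^ i) = 2 ^ (j ^^^ i) := by decide +kernel

theorem reach : ∀ v < 256, v ≠ 0 → ∃ a ∈ [0, tr 1], ∃ b ∈ [0, tr 2], ∃ c ∈ [0, tr 4],
    (fun x => x ^^^ app a x) ((fun x => x ^^^ app b x) ((fun x => x ^^^ app c x) v)) = 255 := by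
  decide +kernel

namespace Gx

variable (l : Gx z π r γ)
include l

theorem frame {a e : V} (ha : a ∈ γ.Ω) (he : e ∈ γ.Ω) (ae : polar q a e = 1) {g : ℕ → OG q}
    (h : Reg (γ.A a) g) {c : ℕ} (hf : frm c u b = true)
    (hc : ∀ i < 8, polar q e ((g i).1 e) = dig 1 1 c i) : ∃ ψ, Fm z ψ u b ∧ FP z (ψ 1) := by
  simp only [frm, and'_eq_true, allLT_iff, beq_iff] at hf
  have o := l.os
  let Φ := ph fun i => (g i).1 e
  have ad : ThT.Ad Φ := ad_ph two_add_self _
  have bs : ∀ i < 8, Φ (2 ^ i) = (g i).1 e := fun i hi => ph_pow _ hi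
  have act : ∀ j < 8, ∀ v < 256, (g j).1 (Φ v) = Φ (app (tr j) v) := fun j hj =>
    bits_induction (n := 8) (by rw [app_zero, ad.zero, map_zero]) fun i hi v hv e => by
      have x := Nat.xor_lt_two_pow (n := 3) hj hi
      rw [ad v hv _ (p8 hi), map_add, e, app_xor _ (l12 hv) (l12 (p8 hi)), row_tr i hi j hj,
        ad _ (tr_lt j hj v hv) _ (p8 x), bs i hi, bs _ x, h.mul j hj i hi, OG.mul_apply]
  have top : Φ 255 = a := Geo.top ha (l.h0 a ha) ae h
  have inj : ∀ v < 256, ∀ w < 256, Φ v = Φ w → v = w := fun v hv w hw e => by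
    have k : ∀ j < 8, ∀ c ∈ [0, tr j], ∀ x, x < 256 ∧ Φ x = 0 → x ^^^ app c x < 256 ∧ Φ (x ^^^ app c x) = 0 :=
      fun j hj c hc x ⟨hx, e⟩ => by
        simp only [List.mem_cons, List.not_mem_nil, or_false] at hc
        rcases hc with rfl | rfl
        · rw [zero_app, Nat.xor_zero]; exact ⟨hx, e⟩
        · exact ⟨x8 hx (tr_lt j hj x hx), by rw [ad x hx _ (tr_lt j hj x hx), ← act j hj x hx, e, map_zero,
            add_zero]⟩
    by_contra n
    obtain ⟨a1, h1, a2, h2, a3, h3, t⟩ := reach _ (x8 hv hw) (mt Nat.xor_eq_zero_iff.1 n)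
    have := (k 1 (by decide) _ h1 _ (k 2 (by decide) _ h2 _ (k 4 (by decide) _ h3 _
      ⟨x8 hv hw, by rw [ad v hv w hw, e, two_add_self]⟩))).2
    exact γ.ne a ha (top.symm.trans (t ▸ this))
  have on : ∀ x, ∃ v < 256, Φ v = x := fun x => by
    have := γ.finite
    have c := o.card_V
    rw [l.xh.card] at c
    obtain ⟨v, e⟩ := ((Nat.bijective_iff_injective_and_card fun v : Fin 256 => Φ v).2
      ⟨fun v w e => Fin.ext (inj _ v.2 _ w.2 e), by simp; omega⟩).2 x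
    exact ⟨v, v.2, e⟩
  have pb : ∀ v < 256, ∀ w < 256, polar q (Φ v) (Φ w) = bil b v w :=
    bits_induction (n := 8) (fun w _ => by rw [ad.zero, polar_zero_left, bil_zero_left]; rfl)
      fun i hi v hv k w hw => by
        rw [ad v hv _ (p8 hi), polar_add_left, k w hw, bil_xor_left _ (l12 hv) (l12 (p8 hi)), cast_xor,
          add_right_inj]
        refine bits_induction (n := 8) (P := fun w => polar q (Φ (2 ^ i)) (Φ w) = bil b (2 ^ i) w)
          (by rw [ad.zero, polar_zero_right, bil_zero_right]; rfl) (fun j hj w hw k => ?_) w hw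
        rw [ad w hw _ (p8 hj), polar_add_right, k, bil_xor_right, cast_xor, bs i hi, bs j hj,
          Geo.polar_swap ha (h.mem i), ← OG.mul_apply, ← h.mul i hi j hj,
          hc _ (Nat.xor_lt_two_pow (n := 3) hi hj), (hf.2 i hi).2 j hj]
        rfl
  have qb : ∀ v < 256, q (Φ v) = bil u v v :=
    bits_induction (n := 8) (by rw [ad.zero, map_zero, bil_zero_left]; rfl) fun i hi v hv k => by
      rw [ad v hv _ (p8 hi), Q_add, k, pb v hv _ (p8 hi), pol_spec hf.1 hv (p8 hi), cast_xor, cast_xor,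
        bs i hi, OG.map_Q, Geo.q_eq he, (hf.2 i hi).1]
      rfl
  choose ψ m hψ using fun v => o.surj (Φ v)
  have z0 : ∀ {n : ℕ}, n < 2 → ((n : ZMod 2) = 0 ↔ n = 0) := fun hn =>
    ⟨cast_inj hn two_pos, fun e => e ▸ rfl⟩
  have F : CF z ψ u b := ⟨l.xh, m, fun v hv w hw => o.eqv_of_pi (m _) (mul_mem (m _) (m _)) (by
    rw [o.add _ (m _) _ (m _), hψ, hψ, hψ, ad v hv w hw]), fun x hx =>
      let ⟨v, hv, e⟩ := on (π x)
      ⟨v, hv, o.eqv_of_pi hx (m v) (e.symm.trans (hψ v).symm)⟩,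
    fun v hv w hw e => inj v hv w hw (by rw [← hψ, ← hψ, o.pi_eqv (m w) e]),
    fun v hv => by rw [o.sq _ (m v), hψ, qb v hv, z0 (bil_lt _ _ _)],
    fun v hv w hw => (o.comm _ (m v) _ (m w)).trans (by rw [hψ, hψ, pb v hv w hw, z0 (bil_lt _ _ _)])⟩
  have fp : ∀ v, Φ v ∈ γ.Ω → FP z (ψ v) := fun v hv =>
    let ⟨_, k, e⟩ := (l.hΩ _).1 hv
    k.of_eqv (o.eqv_of_pi (m v) k.mem ((hψ v).trans e.symm))
  have fa := fp 255 (top ▸ ha)
  have A := l.hA _ fa
  rw [hψ, top] at A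
  have af : ∀ i < 8, ∀ x, r x = g i → Ac z ψ x (tr i) := fun i hi x e => F.af_of o x fun v hv =>
    ⟨tr_lt i hi v hv, by rw [e, hψ, hψ, act i hi v hv]⟩
  refine ⟨ψ, ⟨F, fa, fun i hi => ?_, fun x hx c => ?_⟩, fp 1 ?_⟩
  · obtain ⟨x, k, e⟩ := (A _).1 (h.mem i)
    exact ⟨x, k, af i hi x e⟩
  · obtain ⟨i, hi, e⟩ := h.onto _ ((A _).2 ⟨⟨x, mem_c.2 c⟩, hx, rfl⟩)
    exact ⟨i, hi, af i hi _ e.symm⟩
  · rwa [show Φ 1 = _ from bs 0 (by decide), h.zero]

theorem init : ∃ p ∈ fs, ∃ ψ, Fm z ψ p.2.1 p.2.2 ∧ FP z (ψ 1) := by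
  obtain ⟨a, ha⟩ := γ.nonempty
  obtain ⟨k, hk, ae⟩ := Geo.exists_nonperp ha
  have he := γ.mapΩ k hk a ha
  generalize k.1 a = e at ae he
  obtain ⟨g, h⟩ := Geo.exists_reg ha (l.h4 a ha)
  let β : ℕ → ℕ := fun i => (polar q e ((g i).1 e)).val
  have lt : ∀ i < 8, β i < 2 ^ 1 := fun i _ => ZMod.val_lt _
  have d : ∀ i < 8, dig 1 1 (Idx.packW 1 8 β) i = β i := fun i hi => Idx.dig_packW 1 8 β lt hi
  have c8 := Idx.packW_lt 1 8 β lt
  have := (allLT_iff _ _).1 norm_chk _ c8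
  simp only [or'_eq_true, beq_iff, anyL_iff, anyLT_iff, and'_eq_true, allLT_iff] at this
  rcases this with (c | c) | ⟨p, hp, a1, h1, a2, h2, a3, h3, c, s⟩
  · rw [d 0 (by decide), show β 0 = 0 by
      simp only [β, h.zero, OG.one_apply, polar_two_self]; rfl] at c
    exact absurd c zero_ne_one
  · have t := par_sum _ c8
    rw [c, Finset.sum_congr rfl fun i hi => d i (Finset.mem_range.1 hi), eq_comm,
      ← ZMod.natCast_eq_natCast_iff', Nat.cast_sum] at t
    rw [← Geo.top ha (l.h0 a ha) ae h, polar_comm, ← polarBilin_apply_apply, ph, map_sum,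
      Finset.sum_congr rfl (g := fun i => (β i : ZMod 2)) fun i hi => by
        rw [if_pos (by revert i; decide)]; simp [β], t] at ae
    exact absurd ae zero_ne_one
  · have x := ph3_xor a1 h1 a2 h2 a3 h3
    refine ⟨p, hp, l.frame ha he ae (g := fun i => g (ph3 a1 a2 a3 i)) ⟨fun _ => h.mem _, fun i hi j hj => by
      rw [(x i hi).2 j hj, h.mul _ (x i hi).1 _ (x j hj).1], fun y hy => ?_⟩
      ((allL_iff _ _).1 fs_chk p hp) fun i hi => by rw [← c i hi, d _ (x i hi).1]; simp [β]⟩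
    obtain ⟨j, hj, rfl⟩ := h.onto y hy
    obtain ⟨i, hi, rfl⟩ := s j hj
    exact ⟨i, hi, rfl⟩

end Gx

end Cfsg.Agent.X9
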