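import Cfsg.Agent.X9.ClsC

/-! The checkers of the classification. -/

set_option autoImplicit false

namespace Cfsg.Agent.X9

open Subgroup Cfsg.Agent.TT Cfsg.Agent.LES Cfsg.Agent.XSC Cfsg.Agent.XSC.WC Cfsg.Agent.XW
  Cfsg.Agent.J4 Cfsg.Agent.Comp Cfsg.Agent.U6R Cfsg.Agent.Class.Orth QuadraticMap Module
open Cfsg.Agent.Comp.BN (nth ev ev_cons)
open Cfsg.Agent.X7 (mem_c eqv_one_iff_mem z2)
open Cfsg.Agent.ThT (x8 p8 l12 i8 app_i8 mw cast_inj cast_xor)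

variable {V : Type} [AddCommGroup V] [Module (ZMod 2) V] {q : QuadraticForm (ZMod 2) V} {γ : Geo q}
  {G : Type*} [Group G] [Finite G] {z g y : G} {ψ : ℕ → G} {u b M p v w : ℕ} {f : ℕ → ℕ}
  {gs : List (ℕ × ℕ)} {π : G → V} {r : centralizer ({z} : Set G) →* OG q}

/-- a basis of `la` -/
def lb : List ℕ := [255, 85, 51, 15]

/-- `la` is its own perp -/
noncomputable def laC (b : ℕ) : Bool := and' (allL [17, 5, 3] fun v => Nat.beq (bil b 255 v) 0)
  (allLT 256 fun v => tb la v == allL lb fun w => Nat.beq (bil b w v) 0)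

/-- a neighbour of `255` with small intersections -/
noncomputable def n4k (gs : List (ℕ × ℕ)) (c : ℕ) : Bool := (fun W => force (av gs W 255) fun p =>
  and' (and' (tb la p) (not' (Nat.beq p 255))) (Nat.blt (Nat.mul (force (av gs W 1) fun x =>
    cntLT 8 fun j => force (av gs W (2 ^ j)) fun y => anyLT 8 fun i => Nat.beq (app (tr i) x) y)
    (cntLT 256 fun x => and' (tb la x) (tb la (av gs W x)))) 16)) (dw (Nat.shiftRight c 12))

/-- the solids through `1` -/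
noncomputable def solC (u b : ℕ) (W : List ℕ) (ms : List ℕ) : Bool :=
  and' (and' (Nat.beq (bil b 255 1) 1) (allLT 256 fun v => or' (or' (or' (Nat.beq v 0) (Nat.beq (bil u v v) 1))
    (or' (Nat.beq (bil b 255 v) 1) (Nat.beq (bil b 1 v) 1))) (anyL W (Nat.beq v))))
  (allL W fun x => force (app b x) fun bx => allL W fun y => or' (or' (Nat.beq x y) (Nat.beq
    (par (Nat.land bx y)) 1)) (force (app b y) fun by' => allL W fun w => or' (or' (or' (Nat.beq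
      (par (Nat.land bx w)) 1) (Nat.beq (par (Nat.land by' w)) 1)) (or' (or' (Nat.beq w x) (Nat.beq w y))
      (Nat.beq w (Nat.xor x y)))) (anyL ms fun m => and' (tb m x) (and' (tb m y) (tb m w)))))

theorem span4 : ∀ a < 16, ∀ b < 16, ∀ c < 16, ∀ v < 16, decide ((a % 2 = 0 ∧ b % 2 = 0 ∧ c % 2 = 0) ∧
    c ∉ [0, a, b, a ^^^ b] ∧ b ∉ [0, a] ∧ a ≠ 0 → v ∈ [0, 1].flatMap fun x => [0, a].flatMap fun y =>
      [0, b].flatMap fun s => [0, c].map fun t => x ^^^ y ^^^ (s ^^^ t)) = true := by decide +kernel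

theorem b0_even : ∀ a < 16, bil b0 16 a = 0 → a % 2 = 0 := by decide +kernel

/-- certificates for one solid -/
abbrev T1 : Type := List (ℕ × List (ℕ × List ℕ))

noncomputable def tree (sv : List (ℕ × ℕ × ℕ)) (P R : ℕ) (cs : T1) : Bool :=
  allLT 8 fun i => force (mm P (mm (y0 0 i) R)) fun x => (fun c : ℕ × List (ℕ × List ℕ) =>
    or' (kill [(1, x)] c.1) (allLT 8 fun j => force (mm P (mm (y0 1 j) R)) fun y => (fun c : ℕ × List ℕ =>
      or' (kill [(1, x), (1, y)] c.1) (allLT 8 fun k => force (mm P (mm (y0 2 k) R)) fun w =>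
        force (nth 0 c.2 k) fun c => or' (or' (kill [(1, x), (1, y), (1, w)] c)
          (anyL sv fun s => and' (Nat.beq x s.1) (and' (Nat.beq y s.2.1) (Nat.beq w s.2.2))))
          (n4k [(1, x), (1, y), (1, w)] c))) (nth (0, []) c.2 j))) (nth (0, []) cs i)

/-- the groups at `1` -/
noncomputable def lev1 (u b : ℕ) (W : List ℕ) (sv : List (ℕ × ℕ × ℕ)) (ss : List (ℕ × ℕ × ℕ × T1)) : Bool :=
  and' (and' (and' (pol u b) (laC b)) (solC u b W (ss.map fun s => s.2.2.1))) (allL ss fun s =>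
    and' (and' (isoC u b u0 b0 s.1 s.2.1) (and' (Nat.beq (app s.1 1) 1) (Nat.beq (app s.1 16) 255)))
      (and' (allLT 256 fun v => or' (not' (tb s.2.2.1 v)) (Nat.blt (app s.2.1 v) 16))
        (tree sv s.1 s.2.1 s.2.2.2)))

/-- three letters at a point -/
def at3 (p : ℕ) (s : ℕ × ℕ × ℕ) : List (ℕ × ℕ) := [(p, s.1), (p, s.2.1), (p, s.2.2)]

theorem one_of {n : ℕ} (h : n < 2) (e : ¬ n = 1) : n = 0 := by omega

namespace Gx

variable (l : Gx z π r γ) (h : Fm z ψ u b)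
include l

omit [Finite G] in
theorem mem_L {s x : G} (k : FP z s) (hx : x ∈ O2C z) : π x ∈ γ.L (π s) ↔ x ∈ O2C s := l.hL s k x hx

include h

theorem perp_iff (k : FP z (ψ p)) (hv : v < 256) (hw : w < 256) (m : ψ v ∈ O2C (ψ p))
    (n : ψ w ∈ O2C (ψ p)) : bil b v w = 0 :=
  cast_inj (bil_lt _ _ _) two_pos ((h.pi_pol l.os hv hw).symm.trans
    (Geo.perpL (l.om k) ((l.mem_L k (h.mem v)).2 m) ((l.mem_L k (h.mem w)).2 n)))

theorem xor_mem (k : FP z (ψ p)) (hv : v < 256) (hw : w < 256) (m : ψ v ∈ O2C (ψ p))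
    (n : ψ w ∈ O2C (ψ p)) : ψ (v ^^^ w) ∈ O2C (ψ p) := (h.add v hv w hw).mem k.z_mem (mul_mem m n)

theorem exists_L (k : FP z (ψ p)) (t : List ℕ) (ht : t.length < 16) :
    ∃ v < 256, ψ v ∈ O2C (ψ p) ∧ v ∉ t := by
  have := γ.finite
  have c := Module.natCard_eq_pow_finrank (K := ZMod 2) (V := γ.L (π (ψ p)))
  rw [l.h4 _ (l.om k), Nat.card_zmod] at c
  obtain ⟨x, hx, n⟩ := exists_not_mem (A := (γ.L (π (ψ p)) : Set V)) (fun v => π (ψ v)) t (ht.trans_eq c.symm)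
  obtain ⟨v, hv, rfl⟩ := h.pi_onto l.os x
  exact ⟨v, hv, (l.mem_L k (h.mem v)).1 hx, fun m => n v m rfl⟩

theorem aL (e : laC b = true) (hv : v < 256) : ψ v ∈ O2C (ψ 255) ↔ la.testBit v = true := by
  simp only [laC, and'_eq_true, allL_iff, allLT_iff, beq_iff, beq_iff_eq] at e
  have k : ∀ i < 8, ∀ v ∈ [17, 5, 3], ψ (app (tr i) v ^^^ v) ∈ O2C (ψ 255) := fun i hi v hv => by
    have l8 : v < 256 := by revert v; decide
    obtain ⟨x, m, a⟩ := h.aA i hi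
    rw [← l.mem_L h.fa (h.mem _), h.pi_xor l.os (tr_lt i hi v l8) l8, ← h.pi_af l.os a l8]
    exact γ.cm _ (l.om h.fa) _ ((l.hA _ h.fa _).2 ⟨_, m, rfl⟩) _ (by
      rw [h.pi_pol l.os (by decide) l8, e.1 v hv, Nat.cast_zero])
  have m : ∀ w ∈ lb, ψ w ∈ O2C (ψ 255) := by
    have k1 := k 2 (by decide) 17 (by decide)
    have k2 := k 1 (by decide) 17 (by decide)
    have k3 := k 1 (by decide) 5 (by decide)
    rw [show app (tr _) _ ^^^ _ = _ from (by decide +kernel : _ = 85)] at k1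
    rw [show app (tr _) _ ^^^ _ = _ from (by decide +kernel : _ = 51)] at k2
    rw [show app (tr _) _ ^^^ _ = _ from (by decide +kernel : _ = 15)] at k3
    simp [lb, h.fa.ht.xs.z_mem, k1, k2, k3]
  have l8 : ∀ w ∈ lb, w < 256 := by decide
  have t : ∀ v < 256, ψ v ∈ O2C (ψ 255) → la.testBit v = true := fun v hv a => by
    rw [← tb_eq, e.2 v hv, allL_iff]
    exact fun w hw => (beq_iff _ _).2 (l.perp_iff h h.fa (l8 w hw) hv (m w hw) a)
  refine ⟨t v hv, fun a => (l.mem_L h.fa (h.mem v)).1 (Geo.mem_L (l.om h.fa) (l.h4 _ (l.om h.fa))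
    fun x hx => ?_)⟩
  obtain ⟨w, hw, rfl⟩ := h.pi_onto l.os x
  have s : ∀ v < 256, la.testBit v = true → ∃ x ∈ [0, 255], ∃ y ∈ [0, 85], ∃ s ∈ [0, 51], ∃ t ∈ [0, 15],
    v = x ^^^ y ^^^ (s ^^^ t) := by decide +kernel
  obtain ⟨a1, h1, a2, h2, a3, h3, a4, h4, rfl⟩ := s w hw (t w hw ((l.mem_L h.fa (h.mem w)).1 hx))
  rw [← tb_eq, e.2 v hv, allL_iff] at a
  have z0 : ∀ c ∈ lb, ∀ x ∈ [0, c], x < 4096 ∧ bil b x v = 0 := fun c hc x hx => by
    simp only [List.mem_cons, List.not_mem_nil, or_false] at hx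
    rcases hx with rfl | rfl
    exacts [⟨by decide, bil_zero_left _ _⟩, ⟨l12 (l8 _ hc), (beq_iff _ _).1 (a _ hc)⟩]
  have z1 := z0 _ (by decide) _ h1
  have z2 := z0 _ (by decide) _ h2
  have z3 := z0 _ (by decide) _ h3
  have z4 := z0 _ (by decide) _ h4
  rw [h.pi_pol l.os hw hv, bil_xor_left _ (xor_lt z1.1 z2.1) (xor_lt z3.1 z4.1), bil_xor_left _ z1.1 z2.1,
    bil_xor_left _ z3.1 z4.1, z1.2, z2.2, z3.2, z4.2]
  rfl

theorem not_n4k (e : laC b = true) (s : Sx z ψ gs) {c : ℕ} : n4k gs c ≠ true := fun t => by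
  classical
  simp only [n4k, force_eq, and'_eq_true, not'_eq_true, beq_iff, blt_iff, tb_eq, cntLT_eq, anyLT_iff] at t
  obtain ⟨g, a⟩ := h.exists_av s (dw (Nat.shiftRight c 12))
  generalize av gs (dw (Nat.shiftRight c 12)) = f at a t
  obtain ⟨k, g, a, d⟩ := h.mv a (by decide) h.fa
  have l8 := (a.2 255 (by decide)).1
  have := γ.finite
  have n := γ.n4 l.h4 _ (l.om h.fa) _ (l.om k) ((l.mem_L h.fa (h.mem _)).2 ((l.aL h e l8).2 t.1.1))
    fun e => t.1.2 (h.pi_inj l.os l8 (by decide) e)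
  choose! x hx ax using h.aA
  refine absurd (n.trans (Nat.mul_le_mul ?_ ?_)) (not_le.2 t.2)
  · refine (Set.ncard_le_ncard (t := Finset.image (fun j => if c : x j * z = z * x j then
      r (⟨g, mem_c.2 a.1⟩ * ⟨x j, mem_c.2 c⟩ * ⟨g, mem_c.2 a.1⟩⁻¹) else 1) _) ?_).trans
      ((Set.ncard_coe_finset _).le.trans Finset.card_image_le)
    rintro y ⟨n1, n2⟩
    obtain ⟨y1, m1, rfl⟩ := (l.hA _ h.fa _).1 n1
    obtain ⟨y2, m2, e2⟩ := (l.hA _ k _).1 n2
    rw [← d, mem_O2C_conj] at m2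
    obtain ⟨i, hi, a1⟩ := h.aA' _ m1 (mem_c.1 y1.2)
    obtain ⟨j, hj, a2⟩ := h.aA' _ m2 (comm_mul_left (comm_mul_left (comm_inv_left a.1) (mem_c.1 y2.2)) a.1)
    have a3 : Ac z ψ (g * (g⁻¹ * y2 * g) * g⁻¹) (tr i) := by
      rw [show g * (g⁻¹ * y2 * g) * g⁻¹ = y2 by group]
      exact h.af_of l.os y2 fun v hv => ⟨(a1.2 v hv).1, e2 ▸ h.pi_af l.os a1 hv⟩
    refine Finset.mem_coe.2 (Finset.mem_image.2 ⟨j, Finset.mem_filter.2 ⟨Finset.mem_range.2 hj, i, hi, ?_⟩, ?_⟩)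
    · rw [h.cj a a2 a3 (by decide), show app (tr j) 1 = _ from row_tr 0 (by decide) j hj, Nat.xor_zero]
    · rw [dif_pos (ax j hj).1, ← e2, ← inv_mul_eq_one, ← map_inv, ← map_mul, l.os.r_eq_one_iff]
      have := h.xh.lx.norm g a.1 _ (h.inv_mul_mem (ax j hj) a2)
      simpa [mul_assoc] using this
  · refine (Set.ncard_le_ncard (t := Finset.image (fun v => π (ψ (f v))) _) ?_).trans
      ((Set.ncard_coe_finset _).le.trans Finset.card_image_le)
    rintro y ⟨m1, m2⟩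
    obtain ⟨v, hv, rfl⟩ := h.pi_onto l.os y
    obtain ⟨w, hw, c⟩ := h.onto _ (h.xh.lx.norm _ (comm_inv_left a.1) _ (h.mem v))
    obtain rfl := h.inj v hv _ (a.2 w hw).1 (Eqv.trans h.zz (by simpa [mul_assoc] using c.conj a.1) (a.2 w hw).2)
    have m3 := (l.mem_L k (h.mem _)).1 m2
    rw [← d, mem_O2C_conj] at m3
    exact Finset.mem_coe.2 (Finset.mem_image.2 ⟨w, Finset.mem_filter.2 ⟨Finset.mem_range.2 hw,
      (l.aL h e hw).1 ((c.symm h.zz).mem h.fa.z_mem (by simpa using m3)),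
      (l.aL h e hv).1 ((l.mem_L h.fa (h.mem _)).1 m1)⟩, rfl⟩)

theorem solid (k : FP z (ψ 1)) {W ms : List ℕ} (e : solC u b W ms = true) :
    ∃ m ∈ ms, ∃ x y w, (∀ v ∈ [x, y, w], v < 256 ∧ ψ v ∈ O2C (ψ 1) ∧ bil b 255 v = 0 ∧ m.testBit v = true) ∧
      x ≠ 0 ∧ y ≠ 0 ∧ y ≠ x ∧ w ≠ 0 ∧ w ≠ x ∧ w ≠ y ∧ w ≠ x ^^^ y := by
  simp only [solC, and'_eq_true, allLT_iff, or'_eq_true, beq_iff, anyL_iff, allL_iff, force_eq, tb_eq] at e
  have m1 := k.ht.xs.z_mem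
  have ex : ∀ t : List ℕ, t.length < 8 → 0 ∈ t → ∃ v, (v < 256 ∧ ψ v ∈ O2C (ψ 1) ∧ bil b 255 v = 0) ∧
      v ∈ W ∧ v ∉ t := fun t ht h0 => by
    have k1 : ∀ v < 256, ψ v ∈ O2C (ψ 1) → bil b 255 v = 0 → v ∉ t → v ∈ W := fun v hv m c n => by
      rcases e.1.2 v hv with ((rfl | d) | d | d) | ⟨_, d, rfl⟩
      exacts [absurd h0 n, absurd ((h.sq v hv).1 (k.E_sq (h.mem v) m)) (by omega), by omega,
        absurd (l.perp_iff h k (by decide) hv m1 m) (by omega), d]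
    obtain ⟨v, hv, m, n⟩ := l.exists_L h k (t ++ t.map (· ^^^ 1)) (by simp; omega)
    simp only [List.mem_append, List.mem_map, not_or, not_exists, not_and] at n
    by_cases c : bil b 255 v = 1
    · have l8 := x8 hv (show 1 < 256 by decide)
      have m' := l.xor_mem h k hv (by decide) m m1
      have c' : bil b 255 (v ^^^ 1) = 0 := by rw [bil_xor_right, c, e.1.1]; rfl
      have n' : v ^^^ 1 ∉ t := fun a => n.2 _ a (Nat.xor_xor_cancel_right _ _)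
      exact ⟨_, ⟨l8, m', c'⟩, k1 _ l8 m' c' n', n'⟩
    · exact ⟨v, ⟨hv, m, one_of (bil_lt _ _ _) c⟩, k1 v hv m (one_of (bil_lt _ _ _) c) n.1, n.1⟩
  obtain ⟨x, a1, w1, n1⟩ := ex [0] (by decide) (by simp)
  obtain ⟨y, a2, w2, n2⟩ := ex [0, x] (by simp) (by simp)
  obtain ⟨w, a3, w3, n3⟩ := ex [0, x, y, x ^^^ y] (by simp) (by simp)
  simp only [List.mem_cons, List.not_mem_nil, or_false, not_or] at n1 n2 n3
  have p12 := l.perp_iff h k a1.1 a2.1 a1.2.1 a2.2.1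
  have p13 := l.perp_iff h k a1.1 a3.1 a1.2.1 a3.2.1
  have p23 := l.perp_iff h k a2.1 a3.1 a2.2.1 a3.2.1
  rw [bil_def] at p12 p13 p23
  rcases e.2 x w1 y w2 with (c | c) | c
  · exact absurd c.symm n2.2
  · exact absurd (p12.symm.trans c) zero_ne_one
  rcases c w w3 with ((c | c) | (c | c) | c) | ⟨m, hm, c⟩
  exacts [absurd (p13.symm.trans c) zero_ne_one, absurd (p23.symm.trans c) zero_ne_one, absurd c n3.2.1,
    absurd c n3.2.2.1, absurd c n3.2.2.2, ⟨m, hm, x, y, w, by simp [a1, a2, a3, c], n1, n2.1, n2.2, n3⟩]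

theorem of_lev1 (k : FP z (ψ 1)) {W : List ℕ} {sv : List (ℕ × ℕ × ℕ)} {ss : List (ℕ × ℕ × ℕ × T1)}
    (e : lev1 u b W sv ss = true) : ∃ s ∈ sv, Sx z ψ (at3 1 s) := by
  simp only [lev1, and'_eq_true, allL_iff, allLT_iff, or'_eq_true, not'_eq_true, tb_eq, beq_iff, blt_iff] at e
  obtain ⟨_, hm, x, y, w, a, n⟩ := l.solid h k e.1.2
  obtain ⟨⟨P, R, m, cs⟩, hs, rfl⟩ := List.mem_map.1 hm
  obtain ⟨⟨i, p1, p16⟩, lt, t⟩ := e.2 _ hs
  replace i := isoC_spec e.1.1.1 pol0 i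
  dsimp only at *
  have c : ∀ v ∈ 0 :: 1 :: [x, y, w], app R v < 16 ∧ ψ (app P (app R v)) ∈ O2C (ψ 1) ∧ (v ≠ 1 → app R v % 2 = 0) := by
    simp only [List.forall_mem_cons (a := 0), List.forall_mem_cons (a := 1)]
    have r1 : app R 1 = 1 := by rw [← p1, i.RP 1 (by decide), p1]
    refine ⟨by simpa [app_zero] using h.zero.mem k.z_mem (one_mem _), by
      simpa [r1, p1] using k.ht.xs.z_mem, fun v hv => ?_⟩
    obtain ⟨a1, a2, a3, a4⟩ := a v hv
    have := (lt v a1).resolve_left (not_not.2 a4)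
    exact ⟨this, (i.PR v a1).symm ▸ a2, fun _ => b0_even _ this (by
      rw [← i.b 16 (by decide) _ (i.lR v a1), p16, i.PR v a1, a3])⟩
  have ne : ∀ {v v'}, v < 256 → v' < 256 → v ≠ v' → app R v ≠ app R v' := fun a1 a2 n e =>
    n (by rw [← i.PR _ a1, e, i.PR _ a2])
  have n1 : ∀ v ∈ [x, y, w], v ≠ 1 := fun v hv e' => by
    have := (a v hv).2.2.1
    rw [e', ← p1, ← p16, i.b 16 (by decide) 1 (by decide)] at this
    revert this; decide +kernel
  have ax := (a x (by simp)).1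
  have ay := (a y (by simp)).1
  have aw := (a w (by simp)).1
  have F := h.toCF.chg i
  have k' : FP z (ψ (app P 1)) := p1.symm ▸ k
  have pr := fun j hj => l.param F k' (i := j) (fun v hv => by
    have := of_decide_eq_true (span4 _ (c x (by simp)).1 _ (c y (by simp)).1 _ (c w (by simp)).1 v hv) ⟨⟨(c x (by simp)).2.2 (n1 x (by simp)),
      (c y (by simp)).2.2 (n1 y (by simp)), (c w (by simp)).2.2 (n1 w (by simp))⟩, by
      simp only [List.mem_cons, List.not_mem_nil, or_false, not_or]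
      exact ⟨⟨app_zero R ▸ ne aw (by decide) n.2.2.2.1, ne aw ax n.2.2.2.2.1, ne aw ay n.2.2.2.2.2.1,
        app_xor R (l12 ax) (l12 ay) ▸ ne aw (x8 ax ay) n.2.2.2.2.2.2⟩, ⟨app_zero R ▸ ne ay (by decide) n.2.1,
        ne ay ax n.2.2.1⟩, app_zero R ▸ ne ax (by decide) n.1⟩⟩
    simp only [List.mem_flatMap, List.mem_map] at this
    obtain ⟨a1, h1, a2, h2, a3, h3, a4, h4, rfl⟩ := this
    have z0 : ∀ v ∈ 0 :: 1 :: [x, y, w], ∀ a ∈ [0, app R v], a < 256 ∧ ψ (app P a) ∈ O2C (ψ 1) :=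
      fun v hv a ha => by
        simp only [List.mem_cons, List.not_mem_nil, or_false] at ha
        rcases ha with rfl | rfl
        exacts [⟨by decide, app_zero R ▸ (c 0 (by simp)).2.1⟩, ⟨by have := (c v hv).1; omega, (c v hv).2.1⟩]
    have z1 := z0 1 (by simp) a1 (by rwa [← p1, i.RP 1 (by decide)])
    have z2 := z0 x (by simp) _ h2
    have z3 := z0 y (by simp) _ h3
    have z4 := z0 w (by simp) _ h4
    rw [p1, app_xor _ (l12 (x8 z1.1 z2.1)) (l12 (x8 z3.1 z4.1)), app_xor _ (l12 z1.1) (l12 z2.1),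
      app_xor _ (l12 z3.1) (l12 z4.1)]
    exact l.xor_mem h k (x8 (i.lP _ z1.1) (i.lP _ z2.1)) (x8 (i.lP _ z3.1) (i.lP _ z4.1))
      (l.xor_mem h k (i.lP _ z1.1) (i.lP _ z2.1) z1.2 z2.2)
      (l.xor_mem h k (i.lP _ z3.1) (i.lP _ z4.1) z3.2 z4.2)) hj
  obtain ⟨i1, h1, s1⟩ := pr 0 (by decide)
  obtain ⟨i2, h2, s2⟩ := pr 1 (by decide)
  obtain ⟨i3, h3, s3⟩ := pr 2 (by decide)
  replace s1 := p1 ▸ i.pt s1
  replace s2 := p1 ▸ i.pt s2
  replace s3 := p1 ▸ i.pt s3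
  simp only [tree, allLT_iff, force_eq, or'_eq_true, anyL_iff, and'_eq_true, beq_iff] at t
  have s4 : Sx z ψ [(1, _), (1, _), (1, _)] := List.forall_mem_cons.2 ⟨s1, List.forall_mem_cons.2
    ⟨s2, List.forall_mem_singleton.2 s3⟩⟩
  rcases ((t i1 h1).resolve_left (h.not_kill (List.forall_mem_singleton.2 s1)) i2 h2).resolve_left
    (h.not_kill (List.forall_mem_cons.2 ⟨s1, List.forall_mem_singleton.2 s2⟩)) i3 h3 with
    (d | ⟨s, hs, d1, d2, d3⟩) | d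
  exacts [absurd d (h.not_kill s4), ⟨s, hs, by rw [at3, ← d1, ← d2, ← d3]; exact s4⟩,
    absurd d (l.not_n4k h e.1.1.2 s4)]

end Gx

end Cfsg.Agent.X9
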