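import Cfsg.Agent.X9.Geo
import Cfsg.Agent.X9.Data

/-! Coordinates on `Q = O₂(C(z))` of order `2 ^ 9` and the description of the six geometries. -/

set_option autoImplicit false

namespace Cfsg.Agent.X9

open Subgroup Cfsg.Agent.TT Cfsg.Agent.LES Cfsg.Agent.XSC Cfsg.Agent.XSC.WC Cfsg.Agent.XW
  Cfsg.Agent.J4 Cfsg.Agent.Comp
open Cfsg.Agent.Comp.BN (nth ev ev_cons)
open Cfsg.Agent.X7 (mem_c eqv_one_iff_mem)
open Cfsg.Agent.ThT (x8 p8 l12 i8 app_i8 mw)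

variable {G : Type*} [Group G] {z g k x y : G} {ψ : ℕ → G} {u b M N v w : ℕ}

/-- `g` centralises `z` and acts on `Q / ⟨z⟩` by the matrix `M` -/
def Ac (z : G) (ψ : ℕ → G) (g : G) (M : ℕ) : Prop :=
  g * z = z * g ∧ ∀ v < 256, app M v < 256 ∧ Eqv z (g * ψ v * g⁻¹) (ψ (app M v))

/-- coordinates on `Q`; `bil u v v` is the quadratic form and `bil b` its polar form -/
structure CF (z : G) (ψ : ℕ → G) (u b : ℕ) : Prop where
  xh : XH z
  mem : ∀ v, ψ v ∈ O2C z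
  add : ∀ v < 256, ∀ w < 256, Eqv z (ψ (v ^^^ w)) (ψ v * ψ w)
  onto : ∀ x ∈ O2C z, ∃ v < 256, Eqv z x (ψ v)
  inj : ∀ v < 256, ∀ w < 256, Eqv z (ψ v) (ψ w) → v = w
  sq : ∀ v < 256, ψ v * ψ v = 1 ↔ bil u v v = 0
  comm : ∀ v < 256, ∀ w < 256, ψ v * ψ w = ψ w * ψ v ↔ bil b v w = 0

/-- the geometry of the conjugates of `z` in `Q` is given by `d` -/
structure Cs (z : G) (ψ : ℕ → G) (d : Dt) : Prop extends CF z ψ d.u d.b where
  om : ∀ v < 256, FP z (ψ v) ↔ d.om.testBit v = true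
  aA : ∀ i < 8, ∃ x ∈ O2C (ψ 255), Ac z ψ x (tr i)
  aA' : ∀ x ∈ O2C (ψ 255), x * z = z * x → ∃ i < 8, Ac z ψ x (tr i)
  aL : ∀ v < 256, ψ v ∈ O2C (ψ 255) ↔ la.testBit v = true
  gs : ∀ p ∈ d.gs, ∃ y ∈ O2C (ψ p.1), Ac z ψ y p.2
  na : ∀ g, g * z = z * g → Eqv z (g * ψ 255 * g⁻¹) (ψ 255) → ∃ M ∈ d.na, Ac z ψ g M

theorem Ac.congr (h : Ac z ψ g M) (e : ∀ v < 256, app N v = app M v) : Ac z ψ g N :=
  ⟨h.1, fun v hv => e v hv ▸ h.2 v hv⟩

/-- two matrices with the same first eight rows -/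
noncomputable def eq8 (M N : ℕ) : Bool := allLT 8 fun i => Nat.beq (row M i) (row N i)

theorem app_eq8 (h : eq8 M N = true) : ∀ v < 256, app M v = app N v :=
  lin_ext (n := 8) (fun _ a _ b => app_xor _ (l12 a) (l12 b)) (fun _ a _ b => app_xor _ (l12 a) (l12 b))
    fun i hi => by
      rw [app_two_pow _ (by omega), app_two_pow _ (by omega)]
      exact (beq_iff _ _).1 ((allLT_iff _ _).1 h i hi)

theorem Ac.of_eq8 (h : Ac z ψ g M) (e : eq8 N M = true) : Ac z ψ g N := h.congr (app_eq8 e)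

namespace CF

variable (h : CF z ψ u b)
include h

theorem xs : XS (O2C z) z := h.xh.xs

theorem zz : z * z = 1 := h.xh.zz

theorem zero : Eqv z (ψ 0) 1 := by
  have := h.add 0 (by decide) 0 (by decide)
  rw [Nat.xor_self] at this
  rcases this with e | e
  · exact Or.inl (left_eq_mul.1 e)
  · rw [mul_assoc] at e
    exact Or.inr (by rw [one_mul, eq_inv_of_mul_eq_one_left (left_eq_mul.1 e),
      inv_eq_of_mul_eq_one_right h.zz])

theorem eqv_one (hv : v < 256) : Eqv z (ψ v) 1 ↔ v = 0 :=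
  ⟨fun e => h.inj v hv 0 (by decide) (e.trans h.zz (h.zero.symm h.zz)), fun e => e ▸ h.zero⟩

theorem mul_eqv (hv : v < 256) (hw : w < 256) (a : Eqv z x (ψ v)) (c : Eqv z y (ψ w)) :
    Eqv z (x * y) (ψ (v ^^^ w)) :=
  (eqv_mul h.xs (h.mem w) a c).trans h.zz ((h.add v hv w hw).symm h.zz)

theorem comm_iff (hv : v < 256) (hw : w < 256) (a : Eqv z x (ψ v)) (c : Eqv z y (ψ w)) :
    x * y = y * x ↔ bil b v w = 0 := by
  rw [← h.comm v hv w hw, ← cmv_eq_zero, ← cmv_eq_zero,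
    cmv_eqv h.xs (c.mem h.xs.z_mem (h.mem w)) a, cmv_comm, cmv_eqv h.xs (h.mem v) c, cmv_comm]

theorem sq_iff (hv : v < 256) (a : Eqv z x (ψ v)) : x * x = 1 ↔ bil u v v = 0 := by
  rw [← h.sq v hv]
  rcases a with rfl | rfl
  · rfl
  · rw [mul_assoc, ← mul_assoc z, ← h.xs.z_comm _ (h.mem v), mul_assoc, h.zz, mul_one]

theorem ac_eqv (a : Ac z ψ g M) (hv : v < 256) (e : Eqv z x (ψ v)) :
    Eqv z (g * x * g⁻¹) (ψ (app M v)) := (e.conj a.1).trans h.zz (a.2 v hv).2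

theorem ac_mul (a : Ac z ψ g M) (c : Ac z ψ k N) : Ac z ψ (g * k) (mm M N) :=
  ⟨comm_mul_left a.1 c.1, fun v hv => by
    rw [app_mm _ _ (l12 hv), show g * k * ψ v * (g * k)⁻¹ = g * (k * ψ v * k⁻¹) * g⁻¹ by group]
    exact ⟨(a.2 _ (c.2 v hv).1).1, h.ac_eqv a (c.2 v hv).1 (c.2 v hv).2⟩⟩

theorem ac_of_mem (hx : x ∈ O2C z) : Ac z ψ x i8 :=
  ⟨h.xs.z_comm x hx, fun v hv => by rw [app_i8 v hv]; exact ⟨hv, h.xs.conj hx (h.mem v)⟩⟩

theorem ac_unique (a : Ac z ψ g M) (c : Ac z ψ g N) (hv : v < 256) : app M v = app N v :=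
  h.inj _ (a.2 v hv).1 _ (c.2 v hv).1 (((a.2 v hv).2.symm h.zz).trans h.zz (c.2 v hv).2)

theorem ac_inj (a : Ac z ψ g M) (hv : v < 256) (hw : w < 256) (e : app M v = app M w) : v = w := by
  have := ((a.2 v hv).2.trans h.zz (e ▸ (a.2 w hw).2.symm h.zz)).conj (comm_inv_left a.1)
  exact h.inj v hv w hw (by simpa [mul_assoc] using this)

theorem ac_inv (a : Ac z ψ g M) (e : ∀ v < 256, app N v < 256 ∧ app M (app N v) = v) :
    Ac z ψ g⁻¹ N := ⟨comm_inv_left a.1, fun v hv => ⟨(e v hv).1, by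
  have := (((a.2 _ (e v hv).1).2).conj (comm_inv_left a.1)).symm h.zz
  rw [(e v hv).2] at this
  simpa [mul_assoc] using this⟩⟩

theorem ac_word {ρ : ℕ → G} {Ms : ℕ → ℕ} (a : ∀ k, Ac z ψ (ρ k) (Ms k)) (W : List ℕ) :
    Ac z ψ (ev ρ W) (mw Ms W) := by
  induction W with
  | nil => exact h.ac_of_mem (one_mem _)
  | cons k V ih => rw [ev_cons]; exact h.ac_mul (a k) ih

theorem ac_basis (hg : g * z = z * g)
    (e : ∀ i < 8, row M i < 256 ∧ Eqv z (g * ψ (2 ^ i) * g⁻¹) (ψ (row M i))) : Ac z ψ g M := by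
  refine ⟨hg, bits_induction (n := 8) ?_ fun i hi v hv a => ?_⟩
  · rw [app_zero]
    exact ⟨by decide, (by simpa using h.zero.conj hg : Eqv z _ 1).trans h.zz (h.zero.symm h.zz)⟩
  · rw [app_xor _ (l12 hv) (l12 (p8 hi)), app_two_pow _ (by omega)]
    refine ⟨x8 a.1 (e i hi).1, ((h.add v hv _ (p8 hi)).conj hg).trans h.zz ?_⟩
    rw [← conj_mul]
    exact h.mul_eqv a.1 (e i hi).1 a.2 (e i hi).2

theorem exists_ac (hg : g * z = z * g) : ∃ M, Ac z ψ g M := by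
  choose! f hf using fun i : ℕ => h.onto _ (h.xh.lx.norm g hg _ (h.mem (2 ^ i)))
  exact ⟨mkM f, h.ac_basis hg fun i hi => by
    rw [row_mkM (fun j _ => l12 (hf j).1) (by omega)]; exact hf i⟩

theorem ac_q (a : Ac z ψ g M) (hv : v < 256) : bil u (app M v) (app M v) = 0 ↔ bil u v v = 0 := by
  rw [← h.sq_iff (a.2 v hv).1 (a.2 v hv).2, ← h.sq v hv, conj_mul, conj_eq_one_iff]

theorem ac_b (a : Ac z ψ g M) (hv : v < 256) (hw : w < 256) :
    bil b (app M v) (app M w) = 0 ↔ bil b v w = 0 := by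
  rw [← h.comm_iff (a.2 v hv).1 (a.2 w hw).1 (a.2 v hv).2 (a.2 w hw).2, ← h.comm v hv w hw,
    comm_conj_iff]

variable [Finite G]

theorem mem_of_ac (a : Ac z ψ g M) (e : ∀ v < 256, app M v = v) : g ∈ O2C z :=
  h.xh.lx.mem_of_trivial fun x hx => by
    obtain ⟨v, hv, c⟩ := h.onto x hx
    exact (h.ac_eqv a hv c).trans h.zz (by rw [e v hv]; exact c.symm h.zz)

theorem inv_mul_mem (a : Ac z ψ g M) (c : Ac z ψ k M) : g⁻¹ * k ∈ O2C z :=
  h.xh.lx.mem_of_trivial fun x hx => by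
    obtain ⟨v, hv, e⟩ := h.onto x hx
    have := ((h.ac_eqv c hv e).trans h.zz ((h.ac_eqv a hv e).symm h.zz)).conj (comm_inv_left a.1)
    simpa [mul_assoc] using this

theorem fp_iff (e : Eqv z x (ψ v)) : FP z x ↔ FP z (ψ v) :=
  ⟨fun k => k.of_eqv (e.symm h.zz), fun k => k.of_eqv e⟩

end CF

/-- the words `d.tv` map `255` to all the points -/
noncomputable def Dt.ok (d : Dt) : Bool :=
  and' (and' (tb d.om 255) (allL d.gs fun p => and' (Nat.blt p.1 256) (tb d.om p.1))) (allLT 256 fun p => or' (not' (tb d.om p))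
    (anyL d.tv fun e => and' (Nat.beq e.1 p) (Nat.beq (app (mw d.ls e.2) 255) p)))

theorem ok27 : d27.ok = true := by decide +kernel
theorem ok81 : d81.ok = true := by decide +kernel
theorem ok9 : d9.ok = true := by decide +kernel
theorem ok135 : d135.ok = true := by decide +kernel
theorem ok75 : d75.ok = true := by decide +kernel
theorem ok15 : d15.ok = true := by decide +kernel

/-- the subgroup generated by `Q` and the groups `C_{Q_s}(z)` -/
def C0 (z : G) : Subgroup G :=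
  O2C z ⊔ closure {x | x * z = z * x ∧ ∃ s, FP z s ∧ x ∈ O2C s}

theorem C0_le (h : XH z) : C0 z ≤ centralizer {z} :=
  sup_le (fun x hx => mem_c.2 (h.xs.z_comm x hx)) ((closure_le _).2 fun _ hx => mem_c.2 hx.1)

theorem C0_conj (h : XH z) (hg : g * z = z * g) (hx : x ∈ C0 z) : g * x * g⁻¹ ∈ C0 z := by
  refine (sup_le (fun y hy => mem_sup_left (h.lx.norm g hg y hy)) ((closure_le _).2 ?_) :
    C0 z ≤ (C0 z).comap (MulAut.conj g).toMonoidHom) hx
  rintro y ⟨a, s, k, m⟩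
  exact mem_sup_right (subset_closure ⟨comm_mul_left (comm_mul_left hg a) (comm_inv_left hg), _,
    k.cj hg, conj_mem_O2C_conj g m⟩)

namespace Cs

variable {d : Dt} (h : Cs z ψ d) (ok : d.ok = true)
include h ok

theorem fp : FP z (ψ 255) := (h.om 255 (by decide)).2 
  (tb_eq _ _ ▸ ((and'_eq_true _ _).1 ((and'_eq_true _ _).1 ok).1).1)

/-- lifts of the letters -/
theorem exists_ls : ∃ ρ : ℕ → G, ∀ k, ρ k ∈ C0 z ∧ Ac z ψ (ρ k) (d.ls k) := by
  have hp := ((and'_eq_true _ _).1 ((and'_eq_true _ _).1 ok).1).2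
  simp only [allL_iff, and'_eq_true, blt_iff, tb_eq] at hp
  have k1 : ∀ l : List ℕ, (∀ M ∈ l, ∃ x ∈ C0 z, Ac z ψ x M) → ∀ k, ∃ x ∈ C0 z, Ac z ψ x (nth i8 l k) := by
    intro l hl
    induction l with
    | nil => exact fun _ => ⟨1, one_mem _, h.ac_of_mem (one_mem _)⟩
    | cons a l ih =>
      rintro (_ | k)
      exacts [hl a (by simp), ih (fun M hM => hl M (by simp [hM])) k]
  have k2 : ∀ i < 8, ∃ x ∈ C0 z, Ac z ψ x (tr i) := fun i hi =>
    let ⟨x, a, c⟩ := h.aA i hi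
    ⟨x, mem_sup_right (subset_closure ⟨c.1, _, h.fp ok, a⟩), c⟩
  choose ρ hρ using k1 (tr 1 :: tr 2 :: tr 4 :: d.gs.map Prod.snd) (by
    simp only [List.forall_mem_cons, List.forall_mem_map]
    refine ⟨k2 1 (by decide), k2 2 (by decide), k2 4 (by decide), fun p hp' => ?_⟩
    obtain ⟨y, a, c⟩ := h.gs p hp'
    exact ⟨y, mem_sup_right (subset_closure ⟨c.1, _, (h.om _ (hp p hp').1).2 (hp p hp').2, a⟩), c⟩)
  exact ⟨ρ, hρ⟩

variable [Finite G] {ρ : ℕ → G} (hρ : ∀ k, Ac z ψ (ρ k) (d.ls k))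
include hρ

/-- the letters are transitive on the points -/
theorem trans {s : G} (k : FP z s) : ∃ e ∈ d.tv, Eqv z (ev ρ e.2 * ψ 255 * (ev ρ e.2)⁻¹) s := by
  obtain ⟨v, hv, e⟩ := h.onto s k.mem
  have m := (h.om v hv).1 ((h.fp_iff e).1 k)
  have := (allLT_iff _ _).1 ((and'_eq_true _ _).1 ok).2 v hv
  simp only [or'_eq_true, not'_eq_true, tb_eq, m, not_true, false_or, anyL_iff, and'_eq_true,
    beq_iff] at this
  obtain ⟨p, hp, -, c⟩ := this
  exact ⟨p, hp, (c ▸ ((h.ac_word hρ p.2).2 255 (by decide)).2).trans h.zz (e.symm h.zz)⟩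

/-- every element of `C(z)` is a word in the letters times an element of the stabiliser -/
theorem decomp (hg : g * z = z * g) : ∃ e ∈ d.tv, ∃ M ∈ d.na,
    Ac z ψ ((ev ρ e.2)⁻¹ * g) M ∧ Ac z ψ g (mm (mw d.ls e.2) M) := by
  obtain ⟨e, he, c⟩ := h.trans ok hρ ((h.fp ok).cj hg)
  have a := h.ac_word hρ e.2
  obtain ⟨M, hM, m⟩ := h.na ((ev ρ e.2)⁻¹ * g) (comm_mul_left (comm_inv_left a.1) hg) (by
    simpa [mul_assoc] using (c.symm h.zz).conj (comm_inv_left a.1))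
  exact ⟨e, he, M, hM, m, by simpa using h.ac_mul a m⟩

end Cs

end Cfsg.Agent.X9
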