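import Cfsg.Agent.X9.Base

/-! The geometry induced on `Q / ⟨z⟩` by the conjugates of `z` in `Q` (order `2 ^ 9`). -/

set_option autoImplicit false

namespace Cfsg.Agent.X9

open Subgroup Cfsg.Agent.TT Cfsg.Agent.LES Cfsg.Agent.XSC Cfsg.Agent.XSC.WC Cfsg.Agent.XW
  Cfsg.Agent.U6R Cfsg.Agent.Class.Orth QuadraticMap Module
open Cfsg.Agent.X7 (mem_c eqv_one_iff_mem z2)

/-- `H = C(z)/Q`, `Ω` the images of the conjugates `s ≠ z` of `z` in `Q`, `A p` the image of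
`C_{Q_s}(z)` and `L p` the image of `Q ∩ Q_s` for `p = π s`. -/
structure Geo {V : Type} [AddCommGroup V] [Module (ZMod 2) V] (q : QuadraticForm (ZMod 2) V) where
  H : Subgroup (OG q)
  Ω : Set V
  A : V → Subgroup (OG q)
  L : V → Submodule (ZMod 2) V
  nd : ND q
  dim : finrank (ZMod 2) V = 8
  nonempty : Ω.Nonempty
  ne : ∀ p ∈ Ω, p ≠ 0
  self : ∀ p ∈ Ω, p ∈ L p
  sing : ∀ p ∈ Ω, ∀ v ∈ L p, q v = 0
  le : ∀ p ∈ Ω, A p ≤ H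
  sq : ∀ p ∈ Ω, ∀ g ∈ A p, g * g = 1
  fix : ∀ p ∈ Ω, ∀ g ∈ A p, g.1 p = p
  cm : ∀ p ∈ Ω, ∀ g ∈ A p, ∀ v, polar q p v = 0 → g.1 v + v ∈ L p
  inj : ∀ p ∈ Ω, ∀ g ∈ A p, ∀ e, polar q p e = 1 → g.1 e + e ∈ L p → g = 1
  surj : ∀ p ∈ Ω, ∀ e, polar q p e = 1 → ∀ v, polar q p v = 0 → ∃ g ∈ A p, g.1 e + e + v ∈ L p
  mapΩ : ∀ g ∈ H, ∀ p ∈ Ω, g.1 p ∈ Ω
  mapA : ∀ g ∈ H, ∀ p ∈ Ω, ∀ k ∈ A p, g * k * g⁻¹ ∈ A (g.1 p)
  mapL : ∀ g ∈ H, ∀ p ∈ Ω, ∀ v ∈ L p, g.1 v ∈ L (g.1 p)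
  symm : ∀ p ∈ Ω, ∀ b ∈ Ω, b ∈ L p → p ∈ L b
  irr : ∀ W : Submodule (ZMod 2) V, (∀ g ∈ H, ∀ v ∈ W, g.1 v ∈ W) → W = ⊥ ∨ W = ⊤
  n4 : (∀ p ∈ Ω, finrank (ZMod 2) (L p) = 4) → ∀ p ∈ Ω, ∀ b ∈ Ω, b ∈ L p → b ≠ p →
    16 ≤ Nat.card (A p ⊓ A b : Subgroup _) * Nat.card (L p ⊓ L b : Submodule _ _)

variable {G : Type*} [Group G] {z t s : G}
  {V : Type} [AddCommGroup V] [Module (ZMod 2) V] {q : QuadraticForm (ZMod 2) V}
  {π : G → V} {r : centralizer ({z} : Set G) →* OG q}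

/-- the geometry `γ` comes from the group -/
structure Lk (z : G) (π : G → V) (r : centralizer ({z} : Set G) →* OG q) (γ : Geo q) : Prop where
  xh : XH z
  os : OS z (O2C z) q π r
  hH : γ.H = r.range
  hΩ : ∀ v, v ∈ γ.Ω ↔ ∃ s, FP z s ∧ π s = v
  hA : ∀ s, FP z s → ∀ g, g ∈ γ.A (π s) ↔ ∃ c : centralizer ({z} : Set G), c.1 ∈ O2C s ∧ r c = g
  hL : ∀ s, FP z s → ∀ x ∈ O2C z, π x ∈ γ.L (π s) ↔ x ∈ O2C s

/-- `C(z)` is irreducible on `Q / ⟨z⟩` -/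
def Irr (z : G) : Prop := ∀ A : Subgroup G, z ∈ A → A ≤ O2C z →
  (∀ c, c * z = z * c → ∀ a ∈ A, c * a * c⁻¹ ∈ A) → A = zpowers z ∨ A = O2C z

/-- the image of a subgroup of `Q` -/
def img (o : OS z (O2C z) q π r) (B : Subgroup G) : Submodule (ZMod 2) V :=
  AddSubgroup.toZModSubmodule 2
  { carrier := {v | ∃ x ∈ O2C z ⊓ B, π x = v}
    zero_mem' := ⟨1, one_mem _, o.pi_one⟩
    add_mem' := fun ⟨x, hx, e⟩ ⟨y, hy, f⟩ => ⟨x * y, mul_mem hx hy, by rw [o.add x hx.1 y hy.1, e, f]⟩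
    neg_mem' := fun {a} ha => by rwa [neg_eq_of_add_eq_zero_left (two_add_self a)] }

theorem mem_img (o : OS z (O2C z) q π r) {B : Subgroup G} {v : V} :
    v ∈ img o B ↔ ∃ x ∈ O2C z ⊓ B, π x = v := Iff.rfl

theorem pi_mem_img (o : OS z (O2C z) q π r) {B : Subgroup G} (hz : z ∈ B) {x : G} (hx : x ∈ O2C z) :
    π x ∈ img o B ↔ x ∈ B :=
  ⟨fun ⟨_, hy, e⟩ => (o.eqv_of_pi hx hy.1 e.symm).mem hz hy.2, fun m => ⟨x, ⟨hx, m⟩, rfl⟩⟩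

theorem card_img (o : OS z (O2C z) q π r) {B : Subgroup G} (hz : z ∈ B) :
    Nat.card (O2C z ⊓ B : Subgroup G) = 2 * Nat.card (img o B) := by
  rw [o.card_eq inf_le_left ⟨o.lx.z_mem, hz⟩, ← Nat.card_coe_set_eq]
  rfl

/-- the preimage of a subspace -/
def pre (o : OS z (O2C z) q π r) (W : Submodule (ZMod 2) V) : Subgroup G where
  carrier := {x | x ∈ O2C z ∧ π x ∈ W}
  one_mem' := ⟨one_mem _, o.pi_one ▸ zero_mem _⟩
  mul_mem' := fun ha hb => ⟨mul_mem ha.1 hb.1, o.add _ ha.1 _ hb.1 ▸ add_mem ha.2 hb.2⟩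
  inv_mem' := fun ha => ⟨inv_mem ha.1, o.pi_inv ha.1 ▸ ha.2⟩

theorem XH.finrank_eight (h : XH z) (o : OS z (O2C z) q π r) : finrank (ZMod 2) V = 8 := by
  have h1 := o.card_V
  rw [h.card] at h1
  have : Finite V := Nat.finite_of_card_ne_zero (by omega)
  have h2 := Module.natCard_eq_pow_finrank (K := ZMod 2) (V := V)
  rw [Nat.card_zmod] at h2
  exact Nat.pow_right_injective le_rfl (h2.symm.trans (by omega : _ = 2 ^ 8))

namespace FP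

variable [Finite G] (h : FP z t) (o : OS z (O2C z) q π r)
include h o

theorem qT : q (π t) = 0 := (o.sq t h.mem).1 h.tt

theorem T0 : π t ≠ 0 := fun e => ((o.ker t h.mem).1 e).elim h.t_ne h.ne

theorem exists_cj (k : FP z s) (e : π s = π t) : ∃ p ∈ O2C z, p * t * p⁻¹ = s := by
  exact exists_conj_of_eqv h.xs h.mem h.t_ne h.ne (o.eqv_of_pi k.mem h.mem e)

theorem A_le (k : FP z s) (e : π s = π t) : ((O2C t).subgroupOf _).map r ≤ ((O2C s).subgroupOf _).map r := by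
  obtain ⟨p, hp, rfl⟩ := h.exists_cj o k e
  rintro _ ⟨c, hc, rfl⟩
  let p' : centralizer ({z} : Set G) := ⟨p, mem_c.2 (h.xs.z_comm p hp)⟩
  exact ⟨p' * c * p'⁻¹, conj_mem_O2C_conj p hc, by
    rw [map_mul, map_mul, map_inv, (o.r_eq_one_iff p').2 hp, one_mul, inv_one, mul_one]⟩

theorem L_le (k : FP z s) (e : π s = π t) : img o (O2C t) ≤ img o (O2C s) := by
  obtain ⟨p, hp, rfl⟩ := h.exists_cj o k e
  rintro _ ⟨x, hx, rfl⟩
  exact ⟨p * x * p⁻¹, ⟨h.lx.norm p (h.xs.z_comm p hp) x hx.1, conj_mem_O2C_conj p hx.2⟩,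
    o.pi_eqv hx.1 (h.xs.conj hp hx.1)⟩

theorem act_dd (c : centralizer ({z} : Set G)) {x : G} (hx : x ∈ O2C z) :
    (r c).1 (π x) + π x = π (dd c x) := (o.pi_comm c hx).symm

theorem exists_geo (hi : Irr z) : ∃ γ : Geo q, Lk z π r γ := by
  let A : V → Subgroup (OG q) := fun p => ⨅ (s) (_ : FP z s ∧ π s = p), ((O2C s).subgroupOf _).map r
  let L : V → Submodule (ZMod 2) V := fun p => ⨅ (s) (_ : FP z s ∧ π s = p), img o (O2C s)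
  have hA : ∀ {s}, FP z s → A (π s) = ((O2C s).subgroupOf _).map r := fun k =>
    le_antisymm (iInf₂_le _ ⟨k, rfl⟩) (le_iInf₂ fun _ k' => k.A_le o k'.1 k'.2)
  have hL : ∀ {s}, FP z s → L (π s) = img o (O2C s) := fun k =>
    le_antisymm (iInf₂_le _ ⟨k, rfl⟩) (le_iInf₂ fun _ k' => k.L_le o k'.1 k'.2)
  have hL' : ∀ {s}, FP z s → ∀ x ∈ O2C z, π x ∈ L (π s) ↔ x ∈ O2C s := fun k x hx => by
    rw [hL k, pi_mem_img o k.z_mem hx]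
  have X := h.xs
  have nc : ∀ {s y}, s ∈ O2C z → y ∈ O2C z → polar q (π s) (π y) = 1 → y * s ≠ s * y :=
    fun hs hy e c => zero_ne_one (((o.comm _ hs _ hy).1 c.symm).symm.trans e)
  refine ⟨⟨r.range, {v | ∃ s, FP z s ∧ π s = v}, A, L, o.nd, h.xh.finrank_eight o, ⟨_, t, h, rfl⟩,
    ?_, ?_, ?_, ?_, ?_, ?_, ?_, ?_, ?_, ?_, ?_, ?_, ?_, fun W hW => ?_, fun h4 => ?_⟩, h.xh, o, rfl,
    fun _ => Iff.rfl, fun s k g => ⟨fun m => (hA k).le m, fun m => (hA k).ge m⟩, fun s k => hL' k⟩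
  · rintro _ ⟨s, k, rfl⟩; exact k.T0 o
  · rintro _ ⟨s, k, rfl⟩; exact (hL' k s k.mem).2 k.ht.xs.z_mem
  · rintro _ ⟨s, k, rfl⟩ v hv
    obtain ⟨x, hx, rfl⟩ := (hL k).le hv
    exact (o.sq x hx.1).1 (k.E_sq hx.1 hx.2)
  · rintro _ ⟨s, k, rfl⟩; exact (hA k).le.trans (map_le_range _ _)
  · rintro _ ⟨s, k, rfl⟩ g hg
    obtain ⟨c, hc, rfl⟩ := (hA k).le hg
    rw [← map_mul, o.r_eq_one_iff]
    exact (k.ht.xs.sq (show c.1 ∈ _ from hc)).elim (fun e => (coe_mul _ c c).trans e ▸ one_mem _)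
      fun e => (coe_mul _ c c).trans e ▸ k.mem
  · rintro _ ⟨s, k, rfl⟩ g hg
    obtain ⟨c, hc, rfl⟩ := (hA k).le hg
    exact o.fix_of_commute c k.mem (k.ht.xs.z_comm c hc)
  · rintro _ ⟨s, k, rfl⟩ g hg v hv
    obtain ⟨c, hc, rfl⟩ := (hA k).le hg
    obtain ⟨x, hx, rfl⟩ := o.surj v
    have := k.dd_E hc (mem_c.1 c.2) hx ((o.comm s k.mem x hx).2 hv).symm
    rw [h.act_dd o c hx]
    exact (hL' k _ this.1).2 this.2
  · rintro _ ⟨s, k, rfl⟩ g hg e he m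
    obtain ⟨c, hc, rfl⟩ := (hA k).le hg
    obtain ⟨y, hy, rfl⟩ := o.surj e
    rw [h.act_dd o c hy, hL' k _ (dd_mem h.lx (mem_c.1 c.2) hy)] at m
    exact (o.r_eq_one_iff c).2 (k.link_inj hy (nc k.mem hy he) hc m)
  · rintro _ ⟨s, k, rfl⟩ e he v hv
    obtain ⟨y, hy, rfl⟩ := o.surj e
    obtain ⟨x, hx, rfl⟩ := o.surj v
    obtain ⟨c, hc, hz, m⟩ := k.link_surj hy (nc k.mem hy he) hx ((o.comm s k.mem x hx).2 hv).symm
    have m' := dd_mem h.lx hz hy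
    refine ⟨_, (hA k).ge ⟨⟨c, mem_c.2 hz⟩, hc, rfl⟩, ?_⟩
    rw [h.act_dd o _ hy, ← o.add _ m' _ hx]
    exact (hL' k _ (mul_mem m' hx)).2 m
  · rintro _ ⟨g, rfl⟩ _ ⟨s, k, rfl⟩
    exact ⟨_, k.cj (mem_c.1 g.2), o.act g s k.mem⟩
  · rintro _ ⟨g, rfl⟩ _ ⟨s, k, rfl⟩ a ha
    obtain ⟨c, hc, rfl⟩ := (hA k).le ha
    rw [← o.act g s k.mem, hA (k.cj (mem_c.1 g.2))]
    exact ⟨g * c * g⁻¹, conj_mem_O2C_conj g.1 hc, by simp⟩
  · rintro _ ⟨g, rfl⟩ _ ⟨s, k, rfl⟩ v hv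
    obtain ⟨x, hx, rfl⟩ := (hL k).le hv
    rw [← o.act g s k.mem, ← o.act g x hx.1, hL' (k.cj (mem_c.1 g.2)) _
      (h.lx.norm _ (mem_c.1 g.2) x hx.1)]
    exact conj_mem_O2C_conj g.1 hx.2
  · rintro _ ⟨s, k, rfl⟩ _ ⟨u, l, rfl⟩ m
    rw [hL' k u l.mem] at m
    rw [hL' l s k.mem]
    by_cases e : u = s
    · exact e ▸ l.ht.xs.z_mem
    · exact FP.z_mem ⟨k.ht, k.conj.symm.trans l.conj, m, e⟩
  · rcases hi (pre o W) ⟨X.z_mem, o.pi_z ▸ zero_mem _⟩ (fun _ hx => hx.1) (fun c hc a ha =>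
      ⟨h.lx.norm c hc a ha.1, (o.act ⟨c, mem_c.2 hc⟩ a ha.1).symm ▸ hW _ ⟨_, rfl⟩ _ ha.2⟩) with e | e
    · refine Or.inl (eq_bot_iff.2 fun v hv => ?_)
      obtain ⟨x, hx, rfl⟩ := o.surj v
      exact (o.ker x hx).2 ((mem_zpowers_invol h.zz).1 (e.le ⟨hx, hv⟩))
    · refine Or.inr (eq_top_iff.2 fun v _ => ?_)
      obtain ⟨x, hx, rfl⟩ := o.surj v
      exact (e.ge hx).2
  · rintro _ ⟨s, k, rfl⟩ _ ⟨u, l, rfl⟩ m n
    rw [hL' k u l.mem] at m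
    have f : FP s u := ⟨k.ht, k.conj.symm.trans l.conj, m, fun e => n (e ▸ rfl)⟩
    have c32 : Nat.card (O2C s ⊓ O2C u : Subgroup G) = 32 := by
      obtain ⟨g, e⟩ := isConj_iff.1 k.conj.symm
      have f' := f.map_conj g
      rw [e] at f'
      have : Finite V := Nat.finite_of_card_ne_zero (by have := o.card_V; rw [h.xh.card] at this; omega)
      have a := h4 _ ⟨_, f', rfl⟩
      have b := card_img o f'.z_mem
      rw [← hL f', Module.natCard_eq_pow_finrank (K := ZMod 2) (V := L _), a, Nat.card_zmod] at b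
      have c : O2C z = _ := e ▸ O2C_conj g s
      rw [c, O2C_conj, ← map_inf _ _ _ (MulAut.conj g).injective, card_map_conj] at b
      exact b
    have le : O2C s ⊓ O2C u ≤ centralizer {z} := fun x hx =>
      mem_c.2 (f.E_comm hx.1 hx.2 k.z_mem l.z_mem)
    let φ := r.comp (inclusion le)
    have c1 := φ.ker.card_mul_index
    have : Finite (OG q) := by
      have : Finite V := Nat.finite_of_card_ne_zero (by have := o.card_V; rw [h.xh.card] at this; omega)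
      exact Finite.of_injective (fun g : OG q => (g.1 : V → V)) fun a b e => OG.ext (congrFun e)
    have c2 : Nat.card φ.range ≤ Nat.card (A (π s) ⊓ A (π u) : Subgroup _) := card_le_of_le (by
      rintro _ ⟨x, rfl⟩
      exact ⟨(hA k).ge ⟨_, x.2.1, rfl⟩, (hA l).ge ⟨_, x.2.2, rfl⟩⟩)
    have c3 : φ.ker = (O2C z ⊓ (O2C s ⊓ O2C u)).subgroupOf _ := Subgroup.ext fun x =>
      (o.r_eq_one_iff _).trans ⟨fun a => ⟨a, x.2⟩, fun a => a.1⟩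
    have c4 : img o (O2C s ⊓ O2C u) ≤ L (π s) ⊓ L (π u) := by
      rintro _ ⟨x, hx, rfl⟩
      exact ⟨(hL' k x hx.1).2 hx.2.1, (hL' l x hx.1).2 hx.2.2⟩
    have : Finite V := Nat.finite_of_card_ne_zero (by have := o.card_V; rw [h.xh.card] at this; omega)
    have c5 := Nat.card_le_card_of_injective _ (Submodule.inclusion_injective c4)
    rw [index_ker, c32, c3, Nat.card_congr (subgroupOfEquivOfLe inf_le_right).toEquiv,
      card_img o (mem_inf.2 ⟨k.z_mem, l.z_mem⟩)] at c1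
    nlinarith

end FP

end Cfsg.Agent.X9
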