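import Cfsg.Agent.X9.K1A

/-! Rank one: the elements attached to a singular plane of `Q / ⟨z⟩`. -/

set_option autoImplicit false

namespace Cfsg.Agent.X9

open Subgroup Cfsg.Agent.TT Cfsg.Agent.LES Cfsg.Agent.XSC Cfsg.Agent.XSC.WC Cfsg.Agent.XW
  Cfsg.Agent.U6R Cfsg.Agent.Class.Orth QuadraticMap Module
open Cfsg.Agent.X7 (mem_c eqv_one_iff_mem z2 refl_two eq_of_perp1 eich_two exists_not_mem_list)

variable {G : Type*} [Group G] [Finite G] {z t s d e ρ g : G}

/-- all involutions of `Q` are conjugate to `z`, with small intersections -/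
def E9 (z : G) : Prop := XH z ∧ ∀ s ∈ O2C z, s * s = 1 → s ≠ 1 → s ≠ z →
  IsConj z s ∧ ∀ x ∈ O2C z, x ∈ O2C s → InV z s x

/-- `ρ` acts on `C_Q(s)` as the partner of `e` -/
def KA (z s e ρ : G) : Prop := ∀ p ∈ O2C z, p * s = s * p →
  (e * p = p * e ∧ dd ρ p = 1) ∨ (e * p ≠ p * e ∧ dd ρ p = z * s)

omit [Finite G] in
theorem KA.comm (K : KA z s e ρ) {p : G} (hp : p ∈ O2C z) (h1 : p * s = s * p) (h2 : p * e = e * p) :
    ρ * p = p * ρ := dd_eq_one.1 ((K p hp h1).resolve_right fun c => c.1 h2.symm).2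

omit [Finite G] in
theorem KA.ne (K : KA z s e ρ) {p : G} (hp : p ∈ O2C z) (h1 : p * s = s * p) (h2 : p * e ≠ e * p) :
    dd ρ p = z * s := ((K p hp h1).resolve_left fun c => h2 c.1.symm).2

theorem KA.rig (K : KA z s e ρ) (k : FP z s) (ρz : ρ * z = z * ρ) (gz : g * z = z * g)
    (gs : g * s = s * g) (ge : g * e = e * g) : g * g * ρ = ρ * (g * g) := by
  have hv : InV z s (ρ⁻¹ * (g * ρ * g⁻¹)) := inV_of_cent k.pair
    (comm_mul_left (comm_inv_left ρz) (comm_mul_left (comm_mul_left gz ρz) (comm_inv_left gz)))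
    fun p hp ps => by
      obtain ⟨u, rfl⟩ : ∃ u, p = g * u * g⁻¹ := ⟨g⁻¹ * p * g, by group⟩
      have hu : u ∈ O2C z := (X7.mem_O2C_cj gz).1 hp
      have us : u * s = s * u := (comm_conj_iff g _ _).1 (by rwa [conj_eq_of_comm gs])
      have e1 : dd (g * ρ * g⁻¹) (g * u * g⁻¹) = dd ρ (g * u * g⁻¹) := by
        rw [← conj_dd]
        have ue : e * (g * u * g⁻¹) = g * u * g⁻¹ * e ↔ e * u = u * e := by
          rw [← comm_conj_iff g e u, conj_eq_of_comm ge]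
        rcases K u hu us with c | c
        · rw [c.2, ((K _ hp ps).resolve_right fun c' => c'.1 (ue.2 c.1)).2]; simp
        · rw [c.2, ((K _ hp ps).resolve_left fun c' => c.1 (ue.1 c'.1)).2,
            conj_eq_of_comm (comm_mul_right gz gs)]
      generalize g * ρ * g⁻¹ = σ, g * u * g⁻¹ = v at e1
      have e2 : σ * v * σ⁻¹ = ρ * v * ρ⁻¹ := by rw [← dd_mul_self, e1, dd_mul_self]
      calc ρ⁻¹ * σ * v = ρ⁻¹ * (σ * v * σ⁻¹) * σ := by group
        _ = v * (ρ⁻¹ * σ) := by rw [e2]; group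
  have v2 := k.E_sq (k.inV_E hv).1 (k.inV_E hv).2
  have vg := conj_eq_of_comm (hv.comm gz gs)
  have e1 : g * ρ * g⁻¹ = ρ * (ρ⁻¹ * (g * ρ * g⁻¹)) := by group
  generalize ρ⁻¹ * (g * ρ * g⁻¹) = v at *
  apply comm_of_conj_eq
  calc g * g * ρ * (g * g)⁻¹ = g * (g * ρ * g⁻¹) * g⁻¹ := by group
    _ = g * ρ * g⁻¹ * (g * v * g⁻¹) := by rw [e1]; nth_rw 2 [← e1]; group
    _ = ρ := by rw [e1, vg, mul_assoc, v2, mul_one]

namespace E9

variable (h : E9 z)
include h

omit [Finite G] in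
theorem of_isConj (hd : IsConj z d) : E9 d := by
  refine ⟨h.1.of_isConj hd, ?_⟩
  obtain ⟨g, rfl⟩ := isConj_iff.1 hd
  intro s hs s2 s1 sz
  obtain ⟨u, rfl⟩ : ∃ u, s = g * u * g⁻¹ := ⟨g⁻¹ * s * g, by group⟩
  have k : ∀ {x y : G}, g * x * g⁻¹ ∈ O2C (g * y * g⁻¹) → x ∈ O2C y := fun m => by
    rw [mem_O2C_conj] at m; simpa [mul_assoc] using m
  obtain ⟨a, b⟩ := h.2 u (k hs) (by simpa using s2) (by simpa using s1) (by simpa using sz)
  refine ⟨(hd.symm.trans a).trans (isConj_cj g u), fun x h1 h2 => ?_⟩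
  obtain ⟨v, rfl⟩ : ∃ u, x = g * u * g⁻¹ := ⟨g⁻¹ * x * g, by group⟩
  simpa only [InV, conj_mul, mul_left_inj, mul_right_inj, conj_eq_one_iff] using b v (k h1) (k h2)

omit [Finite G] in
theorem fp (hs : s ∈ O2C z) (s2 : s * s = 1) (s1 : s ≠ 1) (sz : s ≠ z) : FP z s :=
  ⟨h.1, (h.2 s hs s2 s1 sz).1, hs, sz⟩

omit [Finite G] in
theorem small (k : FP z s) : ∀ x ∈ O2C z, x ∈ O2C s → InV z s x := (h.2 s k.mem k.tt k.t_ne k.ne).2

theorem rho (k : FP z s) (he : e ∈ O2C z) (e2 : e * e = 1) (c : e * s = s * e) (n : ¬ InV z s e) :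
    ∃ ρ ∈ O2C s, ρ ∈ O2C e ∧ ρ * z = z * ρ ∧ ρ * ρ = 1 ∧ ρ ∉ O2C z ∧ KA z s e ρ := by
  have X := h.1.xs
  obtain ⟨R, T⟩ := exists_tri3 k.pair (h.small k)
  have ke := h.fp he e2 (fun c => n (Or.inl c)) fun c => n (Or.inr (Or.inl c))
  obtain ⟨R', T'⟩ := exists_tri3 ke.pair (h.small ke)
  obtain ⟨y, hy, ye, ys⟩ : ∃ y ∈ O2C z, y * e = e * y ∧ y * s ≠ s * y := by
    by_contra m
    push Not at m
    rcases X.eq_of_comm_centralizer he k.mem m with m | m | m | m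
    exacts [k.t_ne m, k.ne m, n (Or.inr (Or.inr (Or.inl m.symm))),
      n (Or.inr (Or.inr (Or.inr (by rw [m, ← mul_assoc, ← ke.tz, X.mul_z_z]))))]
  have key : ∀ ρ, ρ * z = z * ρ → KA z s e ρ → dd ρ y = z * e → ρ ∈ O2C e := fun ρ ρz K m =>
    T'.mem_P ρz (K.comm he c rfl) fun p hp pe => by
      by_cases ps : p * s = s * p
      · exact Or.inl (dd_eq_one.2 (K.comm hp ps pe))
      · have h1 := dd_eq_one.2 (K.comm (mul_mem hy hp) (X.mul_comm_of_not_comm k.mem hy hp ys ps)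
          (comm_mul_left ye pe))
        rw [dd_mul_right, m] at h1
        have h2 : y * (z * e) * y⁻¹ = z * e :=
          conj_eq_of_comm (comm_mul_right (X.z_comm y hy) ye)
        have h3 : z * e * (z * e) = 1 := by
          rw [mul_assoc, ← mul_assoc e, ke.tz, mul_assoc, e2, mul_one, h.1.zz]
        refine Or.inr (?_ : dd ρ p = z * e)
        have h4 : y * dd ρ p * y⁻¹ = y * (z * e) * y⁻¹ := by
          rw [h2]; exact mul_left_cancel (h1.trans h3.symm)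
        simpa using h4
  obtain ⟨ρ, l⟩ := T.exists_lk_left he c
  have ρ2 := (T.sq_iff l).2 e2
  have K : KA z s e ρ := fun p hp ps => T.K_eq l hp ps
  have ρQ : ρ ∉ O2C z := fun m => n (T.QR e he
    ((mul_mem_cancel_left (T.inV_R (T.QP ρ m l.uP))).1 l.mem))
  have hv := T.lk_unique l (T.lk_of_q hy ys l.uP l.uz)
  have ρi : ρ⁻¹ = ρ := inv_eq_of_mul_eq_one_right ρ2
  rw [show ρ⁻¹ * y * ρ * y⁻¹ = dd ρ y by rw [dd, ρi], inv_eq_of_mul_eq_one_right e2] at hv
  have m : dd ρ y = e * (e * dd ρ y) := by rw [← mul_assoc, e2, one_mul]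
  have ns : ∀ v, InV z s v → dd ρ y = e * v → v * y = y * v := fun v hv m => by
    have h1 := sqv_dd h.1.lx l.uz hy
    have h2 : e * v * (e * v) = 1 := by
      rw [mul_assoc, ← mul_assoc v, ← hv.comm ke.tz c, mul_assoc, T.inV_sq hv, mul_one, e2]
    rw [m, sqv_eq_zero.2 h2, eq_comm, cmv_eq_zero, mul_assoc, ← mul_assoc y, ye, mul_assoc] at h1
    exact mul_left_cancel h1
  have := ns _ hv m
  rcases hv with hv | hv | hv | hv <;> rw [hv] at m this
  · have ρs := k.ht.xs.z_comm ρ l.uP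
    have K' : KA z s e (ρ * s) := fun p hp ps => by
      rw [dd_mul_left, dd_eq_one.2 ps.symm, mul_one, mul_inv_cancel, one_mul]; exact K p hp ps
    refine ⟨ρ * s, mul_mem l.uP k.ht.xs.z_mem, key _ (comm_mul_left l.uz k.tz) K' ?_,
      comm_mul_left l.uz k.tz, ?_, fun c => ρQ ((mul_mem_cancel_right k.mem).1 c), K'⟩
    · have : dd s y = z := by
        rw [dd, X.conj_of_ne k.mem hy (Ne.symm ys), mul_assoc y, ← comm_inv_left (X.z_comm y hy),
          mul_inv_cancel_left]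
      rw [dd_mul_left, this, conj_eq_of_comm l.uz, m, mul_one]
    · rw [mul_assoc, ← mul_assoc s, ← ρs, mul_assoc, k.tt, mul_one, ρ2]
  · exact ⟨ρ, l.uP, key ρ l.uz K (m.trans ke.tz), l.uz, ρ2, ρQ, K⟩
  · exact absurd this.symm ys
  · rw [mul_assoc, ← mul_assoc y, X.z_comm y hy, mul_assoc, mul_right_inj] at this
    exact absurd this.symm ys

theorem lemK (k : FP z s) {p : G} (hd : d ∈ O2C s) (dz : d * z = z * d) (dQ : d ∉ O2C z)
    (hp : p ∈ O2C z) (e : Eqv z (dd d p) 1) : d * p = p * d := by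
  by_cases c : p * s = s * p
  · obtain ⟨R, T⟩ := exists_tri3 k.pair (h.small k)
    obtain ⟨x, l⟩ := T.exists_lk_right hd dz
    rcases T.K_eq l hp c with m | m
    · exact dd_eq_one.1 m.2
    · rw [dd, m.2, eqv_one_iff] at e
      exact (e.elim T.zs_ne fun e => k.t_ne (by simpa using e)).elim
  · exact absurd (k.link_inj hp c hd (e.mem k.z_mem (one_mem _))) dQ

theorem exists_t {a b w a' b' w' : G} (ha : a ∈ O2C z) (hb : b ∈ O2C z) (hw : w ∈ O2C z)
    (ha' : a' ∈ O2C z) (hb' : b' ∈ O2C z) (hw' : w' ∈ O2C z) (a2 : a * a = 1) (b2 : b * b = 1)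
    (w2 : w * w = 1) (ab : b * a = a * b) (aw : w * a = a * w) (bw : w * b = b * w)
    (aa' : a' * a ≠ a * a') (ab' : b' * a = a * b') (bb' : b' * b ≠ b * b') (wb' : b' * w = w * b')
    (aw' : w' * a = a * w') (bw' : w' * b = b * w') (ww' : w' * w ≠ w * w') :
    ∃ t, IsConj z t ∧ IsConj z (t * a) ∧ t * z = z * t ∧ t * a = a * t ∧ t * b = b * t ∧
      t * w = w * t ∧ t ∉ O2C z ∧
      (∀ p ∈ O2C z, p * a = a * p → p * b = b * p → p * w = w * p → Eqv a (t * p * t⁻¹) p) ∧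
      (∀ g, g * z = z * g → g * a = a * g → g * b = b * g → g * w = w * g →
        g * g * (g * g) * t = t * (g * g * (g * g))) ∧
      ¬ ∀ u ∈ O2C z, u * a = a * u → InV z a (u⁻¹ * (t * u * t⁻¹)) := by
  have X := h.1.xs
  have k := h.fp ha a2 (fun c => aa' (by simp [c])) fun c => aa' (c ▸ X.z_comm a' ha')
  have h' := h.of_isConj k.conj
  have X' := h'.1.xs
  have za : z * a ≠ 1 := fun c => k.ne (by
    rw [← inv_eq_of_mul_eq_one_right c, inv_eq_of_mul_eq_one_right h.1.zz])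
  obtain ⟨x, xa, xb, xz, x2, xQ, Kx⟩ := h.rho k hb b2 ab fun c =>
    bb' (c.comm (X.z_comm b' hb') ab')
  obtain ⟨y, ya, yw, yz, y2, yQ, Ky⟩ := h.rho k hw w2 aw fun c =>
    ww' (c.comm (X.z_comm w' hw') aw')
  have kw := h.fp hw w2 (fun c => ww' (by simp [c])) fun c => ww' (c ▸ X.z_comm w' hw')
  have kx := h'.fp xa x2 (fun c => xQ (c ▸ one_mem _)) fun c => xQ (c ▸ ha)
  have xw' := Kx.comm hw' aw' bw'
  have yb' := Ky.comm hb' ab' wb'
  have yw' : w' * y ≠ y * w' := fun c => za ((Ky.ne hw' aw' ww').symm.trans (dd_eq_one.2 c.symm))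
  have xb' : b' * x ≠ x * b' := fun c => za ((Kx.ne hb' ab' bb').symm.trans (dd_eq_one.2 c.symm))
  have xy : y * x = x * y := by
    by_contra n
    have h1 : dd x y ∈ O2C w := dd_mem kw.ht.lx (Kx.comm hw aw bw) yw
    rw [dd, X'.conj_of_ne xa ya (Ne.symm n), mul_assoc y, ← comm_inv_left (X'.z_comm y ya),
      mul_inv_cancel_left] at h1
    exact aa' ((h.small kw a ha h1).elim (fun c => by simp [c]) fun c => c.elim
      (fun c => c ▸ X.z_comm a' ha') fun c => absurd ((InV.comm (z := z) (s := a)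
        (c.elim (fun c => Or.inr (Or.inr (Or.inl c.symm))) fun c => Or.inr (Or.inr (Or.inr (by
          rw [c, ← mul_assoc, h.1.zz, one_mul])))) (X.z_comm w' hw') aw')) ww')
  obtain ⟨t, tx, ty, ta, t2, tQ, Kt⟩ := h'.rho kx ya y2 xy fun c => yw' (c.comm aw' xw'.symm)
  -- elements of `Q_a` with prescribed commutation
  have dual : ∀ {u v m p : G}, u ∈ O2C a → v ∈ O2C a → m ∈ O2C a → p * a = a * p → p * u = u * p →
      p * v = v * p → p * m ≠ m * p → ∃ n ∈ O2C a, n * u = u * n ∧ n * v = v * n ∧ n * m ≠ m * n :=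
    fun {u v m p} hu hv hm h1 h2 h3 h4 => by
      obtain ⟨n, hn, c1, c2⟩ := X'.exists_comm_not_comm (A := O2C a ⊓ centralizer {p}) inf_le_left
        ⟨X'.z_mem, mem_c.2 h1.symm⟩ hm fun c => h4 (mem_c.1 c.2).symm
      exact ⟨n, hn, (c1 u ⟨hu, mem_c.2 h2.symm⟩).symm, (c1 v ⟨hv, mem_c.2 h3.symm⟩).symm, c2⟩
  obtain ⟨n, hn, nz, nx, ny⟩ := dual k.z_mem xa ya aw' (X.z_comm w' hw') xw'.symm yw'
  obtain ⟨n', hn', nz', ny', nx'⟩ := dual k.z_mem ya xa ab' (X.z_comm b' hb') yb'.symm xb'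
  obtain ⟨p0, hp0, p0x, p0y, p0z⟩ : ∃ p ∈ O2C a, p * x = x * p ∧ p * y = y * p ∧ p * z ≠ z * p := by
    have l1 : zpowers a ⊔ zpowers x ≤ O2C a := sup_le (zpowers_le.2 X'.z_mem) (zpowers_le.2 xa)
    have m1 : a ∈ zpowers a ⊔ zpowers x := mem_sup_left (mem_zpowers _)
    have l0 := zpowers_le.2 X'.z_mem
    have cz : ∀ {u v : G}, v ∈ zpowers a → u ∈ O2C a → u * v = v * u := fun hv hu => by
      rcases (mem_zpowers_invol a2).1 hv with rfl | rfl
      exacts [by simp, X'.z_comm _ hu]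
    obtain ⟨p, hp, c1, c2⟩ := X'.exists_comm_not_comm (A := zpowers a ⊔ zpowers x ⊔ zpowers y)
      (sup_le l1 (zpowers_le.2 ya)) (mem_sup_left m1) k.z_mem fun c => by
        rcases (X'.mem_sup_zpowers l1 m1 ya).1 c with c | c <;>
          rcases (X'.mem_sup_zpowers l0 (mem_zpowers a) xa).1 c with c | c
        · exact ((mem_zpowers_invol a2).1 c).elim X.z_ne k.ne.symm
        · have := cz c hn'
          rw [← mul_assoc, nz', mul_assoc, mul_assoc, mul_right_inj] at this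
          exact nx' this
        · have := cz c hn
          rw [← mul_assoc, nz, mul_assoc, mul_assoc, mul_right_inj] at this
          exact ny this
        · have := cz c hn
          rw [mul_assoc _ x n, ← nx, ← mul_assoc, ← mul_assoc, ← mul_assoc, mul_left_inj, nz,
            mul_assoc, mul_assoc, mul_right_inj] at this
          exact ny this
    exact ⟨p, hp, (c1 x (mem_sup_left (mem_sup_right (mem_zpowers _)))).symm,
      (c1 y (mem_sup_right (mem_zpowers _))).symm, c2⟩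
  have tz := Kt.comm k.z_mem xz.symm yz.symm
  have tp := Kt.comm hp0 p0x p0y
  have tQ' : t ∉ O2C z := fun m => tQ (k.symm.link_inj hp0 p0z m (dd_eq_one.2 tp ▸ one_mem _))
  have hx' := h.of_isConj (k.conj.trans kx.conj)
  have fix : ∀ {u v : G}, XH u → u ∉ O2C z → t ∈ O2C u → v ∈ O2C u → v ∈ O2C z → t * v = v * t :=
    fun {u v} hu n m1 m2 m3 => dd_eq_one.1 ((eqv_one_iff.1 (dd_of_mem hu.lx m1 m2)).resolve_right
      fun c => n (c ▸ dd_mem h.1.lx tz m3))
  have kb := h.fp hb b2 (fun c => bb' (by simp [c])) fun c => bb' (c ▸ X.z_comm b' hb')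
  have kbx := (h.of_isConj kb.conj).fp xb x2 kx.t_ne fun c => xQ (c ▸ hb)
  have kwy := (h.of_isConj kw.conj).fp yw y2 (fun c => yQ (c ▸ one_mem _)) fun c => yQ (c ▸ hw)
  have cj : ∀ u ∈ O2C x, u * u = 1 → u ∉ O2C a → IsConj z u := fun u hu u2 n =>
    (k.conj.trans kx.conj).trans (hx'.2 u hu u2 (fun c => n (c ▸ one_mem _)) fun c => n (c ▸ xa)).1
  refine ⟨t, cj t tx t2 tQ, cj _ (mul_mem tx kx.z_mem) (by
      rw [mul_assoc, ← mul_assoc a, ← ta, mul_assoc, a2, mul_one, t2])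
      fun c => tQ ((mul_mem_cancel_right X'.z_mem).1 c), tz, ta, fix kx.ht xQ tx kbx.z_mem hb,
    fix kwy.ht yQ ty kwy.z_mem hw, tQ', fun p hp pa pb pw => ?_, fun g gz ga gb gw => ?_, fun H => ?_⟩
  · have px := Kx.comm hp pa pb
    have py := Ky.comm hp pa pw
    have cc : ∀ {u : G}, u * p = p * u → p0 * u = u * p0 → dd p p0 * u = u * dd p p0 := fun c1 c2 =>
      comm_mul_left (comm_mul_left (comm_mul_left c1.symm c2) (comm_inv_left c1.symm)) (comm_inv_left c2)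
    have h1 := Kt.comm (dd_mem h'.1.lx pa hp0) (cc px p0x) (cc py p0y)
    have h2 : t * (p * p0 * p⁻¹) = p * p0 * p⁻¹ * t := by
      rw [← dd_mul_self]; exact comm_mul_right h1 tp
    have h3 : p⁻¹ * (t * p * t⁻¹) * p0 = p0 * (p⁻¹ * (t * p * t⁻¹)) := by
      calc p⁻¹ * (t * p * t⁻¹) * p0 = p⁻¹ * t * p * (t⁻¹ * p0) := by group
        _ = p⁻¹ * (t * (p * p0 * p⁻¹)) * p * t⁻¹ := by rw [comm_inv_left tp]; group
        _ = _ := by rw [h2]; group
    have m1 : p⁻¹ * (t * p * t⁻¹) ∈ O2C z := mul_mem (inv_mem hp) (h.1.lx.norm t tz p hp)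
    have m2 := k.symm.link_inj hp0 p0z m1 (dd_eq_one.2 h3 ▸ one_mem _)
    have e1 : t * p * t⁻¹ = p * (p⁻¹ * (t * p * t⁻¹)) := by group
    rcases h.small k _ m1 m2 with c | c | c | c <;> rw [c] at h3 e1
    · exact Or.inl (by rw [e1, mul_one])
    · exact absurd h3.symm p0z
    · exact Or.inr e1
    · rw [mul_assoc, ← X'.z_comm p0 hp0, ← mul_assoc, ← mul_assoc, mul_left_inj] at h3
      exact absurd h3.symm p0z
  · exact Kt.rig kx ta (comm_mul_left ga ga) (Kx.rig k xz gz ga gb) (Ky.rig k yz gz ga gw)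
  · obtain ⟨u, hu, ua, m⟩ := k.symm.link_surj hp0 p0z hn nz
    have m0 := dd_mem h'.1.lx ua hp0
    have hv := h'.small k.symm _ (mul_mem m0 hn) m
    have e1 := H u hu ua
    have e2 : t * u * t⁻¹ = u * (u⁻¹ * (t * u * t⁻¹)) := by group
    generalize u⁻¹ * (t * u * t⁻¹) = μ at e1 e2
    have e3 : Eqv a (t * dd u p0 * t⁻¹) (dd u p0) := by
      rw [conj_dd, conj_eq_of_comm tp, e2, dd_mul_left]
      rcases eqv_one_iff.1 (dd_of_mem h'.1.lx (k.inV_E e1).2 hp0) with c | c <;> rw [c]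
      · exact Or.inl (by simp)
      · exact Or.inr (by rw [conj_eq_of_comm ua, X'.z_comm _ m0])
    have e4 := (e3.mul_right (X'.z_comm _ (h'.1.lx.norm t ta n hn))).symm a2
    rw [show t * dd u p0 * t⁻¹ * (t * n * t⁻¹) = t * (dd u p0 * n) * t⁻¹ by group,
      conj_eq_of_comm (hv.comm ta tz), ← dd_mul_self t n, Kt.ne hn nx ny] at e4
    rcases e4 with c | c
    · rw [mul_right_inj, mul_eq_right] at c
      exact xQ ((mul_mem_cancel_left ha).1 (c ▸ one_mem _))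
    · rw [mul_assoc (dd u p0), mul_right_inj, X'.z_comm n hn, mul_left_inj, mul_eq_left] at c
      exact kx.t_ne c

end E9

end Cfsg.Agent.X9
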