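import Cfsg.Agent.X9.K4A

/-! The symplectic polarity swapping two complementary solids. -/

set_option autoImplicit false

namespace Cfsg.Agent.X9

open Cfsg.Agent.U6R Cfsg.Agent.Class.Orth QuadraticMap Module
open Cfsg.Agent.X7 (z2 eich_two)

variable {V : Type} [AddCommGroup V] [Module (ZMod 2) V] {q : QuadraticForm (ZMod 2) V}
  {U W : Submodule (ZMod 2) V}

structure Pol (U W : Submodule (ZMod 2) V) (i : OG q) : Prop where
  nd : ND q
  disj : ∀ v ∈ U, v ∈ W → v = 0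
  dec : ∀ v, ∃ u ∈ U, ∃ w ∈ W, v = u + w
  sU : ∀ v ∈ U, q v = 0
  sW : ∀ v ∈ W, q v = 0
  ii : ∀ v, i.1 (i.1 v) = v
  UW : ∀ u ∈ U, i.1 u ∈ W
  WU : ∀ w ∈ W, i.1 w ∈ U
  alt : ∀ u ∈ U, polar q u (i.1 u) = 0
  two : ∃ a ∈ U, ∃ b ∈ U, a ≠ 0 ∧ b ≠ 0 ∧ a ≠ b ∧ polar q a (i.1 b) = 0

theorem polar_of_sing (s : ∀ v ∈ U, q v = 0) {a b : V} (ha : a ∈ U) (hb : b ∈ U) :
    polar q a b = 0 := by
  rw [polar, s _ (add_mem ha hb), s a ha, s b hb, sub_zero, sub_zero]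

theorem UW.exists_pol {γ : Geo q} (h : UW γ U W) : ∃ i : OG q, Pol U W i := by
  have fin : Module.Finite (ZMod 2) V := Module.finite_of_finrank_pos (by rw [γ.dim]; decide)
  have hc : IsCompl U W := (Submodule.isCompl_iff_disjoint U W (by rw [γ.dim, h.dU, h.dW])).2
    (disjoint_iff.2 h.disj)
  have dec : ∀ v, ∃ u ∈ U, ∃ w ∈ W, v = u + w := fun v => by
    obtain ⟨u, hu, w, hw, e⟩ := Submodule.mem_sup.1 (hc.sup_eq_top.ge (Submodule.mem_top (x := v)))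
    exact ⟨u, hu, w, hw, e.symm⟩
  let b := Module.finBasisOfFinrankEq (ZMod 2) U h.dU
  let ψ0 : W →ₗ[ZMod 2] (Fin 4 → ZMod 2) :=
    LinearMap.pi fun j => (polarBilin q (b j)).comp W.subtype
  have key : ∀ (u : U) (w : W), polar q u w = b.equivFun u ⬝ᵥ ψ0 w := fun u w => by
    conv_lhs => rw [← b.sum_equivFun u, ← polarBilin_apply_apply, Submodule.coe_sum, map_sum,
      LinearMap.sum_apply]
    simp [ψ0, dotProduct]
  have inj : Function.Injective ψ0 := (injective_iff_map_eq_zero _).2 fun w e =>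
    Subtype.ext (γ.nd _ fun v => by
      obtain ⟨u, hu, w', hw, rfl⟩ := dec v
      rw [polar_add_right, polar_of_sing h.sW w.2 hw, polar_comm, key ⟨u, hu⟩ w, e]
      simp)
  let ψ := LinearMap.linearEquivOfInjective ψ0 inj (by rw [h.dW]; simp)
  let E := (Submodule.prodEquivOfIsCompl U W hc).symm.trans (b.equivFun.prodCongr ψ)
  have hE : ∀ (u : U) (w : W), E (u + w) = (b.equivFun u, ψ0 w) := fun u w => by
    have : (Submodule.prodEquivOfIsCompl U W hc).symm (u + w) = (u, w) :=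
      (LinearEquiv.symm_apply_eq _).2 (by simp)
    simp only [E, LinearEquiv.trans_apply, this]
    rfl
  have hq : ∀ v, q v = (E v).1 ⬝ᵥ (E v).2 := fun v => by
    obtain ⟨u, hu, w, hw, rfl⟩ := dec v
    rw [hE ⟨u, hu⟩ ⟨w, hw⟩, ← key, polar, h.sU u hu, h.sW w hw, sub_zero, sub_zero]
  have hU : ∀ v, v ∈ U ↔ (E v).2 = 0 := fun v => by
    obtain ⟨u, hu, w, hw, rfl⟩ := dec v
    rw [hE ⟨u, hu⟩ ⟨w, hw⟩, map_eq_zero_iff _ inj, U.add_mem_iff_right hu, Subtype.ext_iff]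
    exact ⟨fun m => h.disj.le ⟨m, hw⟩, fun e => (show w = 0 from e) ▸ zero_mem _⟩
  have hW : ∀ v, v ∈ W ↔ (E v).1 = 0 := fun v => by
    obtain ⟨u, hu, w, hw, rfl⟩ := dec v
    rw [hE ⟨u, hu⟩ ⟨w, hw⟩, map_eq_zero_iff _ b.equivFun.injective, W.add_mem_iff_left hw,
      Subtype.ext_iff]
    exact ⟨fun m => h.disj.le ⟨hu, m⟩, fun e => (show u = 0 from e) ▸ zero_mem _⟩
  let τ : Fin 4 → Fin 4 := ![1, 0, 3, 2]
  let J0 : ((Fin 4 → ZMod 2) × (Fin 4 → ZMod 2)) →ₗ[ZMod 2] (Fin 4 → ZMod 2) × (Fin 4 → ZMod 2) :=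
    ((LinearMap.funLeft _ _ τ).comp (LinearMap.snd _ _ _)).prod
      ((LinearMap.funLeft _ _ τ).comp (LinearMap.fst _ _ _))
  have hJ : ∀ x, J0 x = (x.2 ∘ τ, x.1 ∘ τ) := fun x => rfl
  have tt : ∀ a : Fin 4 → ZMod 2, (a ∘ τ) ∘ τ = a := fun a => by
    ext j; fin_cases j <;> rfl
  have JJ : Function.Involutive J0 := fun x => by rw [hJ, hJ, tt, tt]
  let i0 := E.trans ((LinearEquiv.ofInvolutive J0 JJ).trans E.symm)
  have hi : ∀ v, E (i0 v) = ((E v).2 ∘ τ, (E v).1 ∘ τ) := fun v => E.apply_symm_apply _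
  have d1 : ∀ a c : Fin 4 → ZMod 2, (c ∘ τ) ⬝ᵥ (a ∘ τ) = a ⬝ᵥ c := fun a c => by
    simp [dotProduct, Fin.sum_univ_four, τ]; ring
  have iU : ∀ u ∈ U, i0 u ∈ W := fun u hu => (hW _).2 (by rw [hi, (hU u).1 hu]; rfl)
  have pl : ∀ u ∈ U, ∀ v ∈ U, polar q u (i0 v) = (E u).1 ⬝ᵥ ((E v).1 ∘ τ) := fun u hu v hv => by
    rw [polar, h.sU u hu, h.sW _ (iU v hv), sub_zero, sub_zero, hq, map_add, hi,
      Prod.fst_add, Prod.snd_add, (hU u).1 hu, (hU v).1 hv, zero_add]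
    congr 1
    exact add_zero _
  have m : ∀ a, E.symm (a, 0) ∈ U := fun a => (hU _).2 (by simp)
  refine ⟨⟨i0, fun v => by rw [hq, hq, hi, d1]⟩, γ.nd, fun v a c => h.disj.le ⟨a, c⟩, dec, h.sU,
    h.sW, fun v => E.injective (by rw [hi, hi, tt, tt]), iU,
    fun w hw => (hU _).2 (by rw [hi, (hW w).1 hw]; rfl), fun u hu => ?_,
    _, m ![1, 0, 0, 0], _, m ![0, 0, 1, 0], ?_, ?_, ?_, ?_⟩
  · rw [pl u hu u hu]
    generalize (E u).1 = a
    revert a; decide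
  · rw [Ne, map_eq_zero_iff _ E.symm.injective]; decide
  · rw [Ne, map_eq_zero_iff _ E.symm.injective]; decide
  · rw [Ne, E.symm.injective.eq_iff]; decide
  · rw [pl _ (m _) _ (m _), E.apply_symm_apply, E.apply_symm_apply]; decide

namespace Pol

variable {i : OG q} (h : Pol U W i) {a b v : V} {g : OG q}
include h

theorem sw (a b : V) : polar q a (i.1 b) = polar q b (i.1 a) := by
  rw [← OG.map_polar i, h.ii, polar_comm]

theorem ne_zero (ha : a ∈ U) (n : a ≠ 0) : a + i.1 a ≠ 0 := fun e =>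
  n (h.disj a ha (two_eq_of_add e ▸ h.UW a ha))

theorem ne_one : i ≠ 1 := by
  obtain ⟨a, ha, -, -, n, -⟩ := h.two
  rintro rfl
  exact h.ne_zero ha n (two_add_self a)

theorem uniq {c d : V} (ha : a ∈ U) (hb : b ∈ W) (hc : c ∈ U) (hd : d ∈ W) (e : a + b = c + d) :
    a = c ∧ b = d := by
  have k : a + c = b + d := by
    rw [← two_add_add' a b, e]
    rw [show c + d + b + c = c + c + (b + d) by abel, two_add_self, zero_add]
  have := h.disj _ (add_mem ha hc) (k ▸ add_mem hb hd)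
  exact ⟨two_eq_of_add this, two_eq_of_add (k ▸ this)⟩

theorem of_fix (e : i.1 v = v) : ∃ a ∈ U, v = a + i.1 a := by
  obtain ⟨u, hu, w, hw, rfl⟩ := h.dec v
  rw [map_add, add_comm] at e
  exact ⟨u, hu, by rw [(h.uniq (h.WU w hw) (h.UW u hu) hu hw e).2]⟩

theorem fix (a : V) : i.1 (a + i.1 a) = a + i.1 a := by rw [map_add, h.ii, add_comm]

theorem q_fix (e : i.1 v = v) : q v = 0 := by
  obtain ⟨a, ha, rfl⟩ := h.of_fix e
  have := h.alt a ha
  rwa [polar, h.sU a ha, h.sW _ (h.UW a ha), sub_zero, sub_zero] at this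

theorem eq_zero (e : i.1 v = v) (m : v ∈ U ∨ v ∈ W) : v = 0 :=
  m.elim (fun m => h.disj v m (e ▸ h.UW v m)) fun m => h.disj v (e ▸ h.WU v m) m

theorem exists_one (ha : a ∈ U) (n : a ≠ 0) : ∃ b ∈ U, polar q a (i.1 b) = 1 := by
  by_contra k
  push Not at k
  refine n (h.nd a fun v => ?_)
  obtain ⟨u, hu, w, hw, rfl⟩ := h.dec v
  rw [polar_add_right, polar_of_sing h.sU ha hu, zero_add, ← h.ii w]
  exact (z2 _).resolve_right (k _ (h.WU w hw))

theorem triv (hg : ((∀ v ∈ U, g.1 v ∈ U) ∧ ∀ v ∈ W, g.1 v ∈ W) ∨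
    ((∀ v ∈ U, g.1 v ∈ W) ∧ ∀ v ∈ W, g.1 v ∈ U)) (e : ∀ v, i.1 v = v → g.1 v = v) :
    g = 1 ∨ g = i := by
  refine hg.imp (fun k => OG.ext fun v => ?_) fun k => OG.ext fun v => ?_
  · have f : ∀ a ∈ U, g.1 a = a ∧ g.1 (i.1 a) = i.1 a := fun a ha =>
      h.uniq (k.1 a ha) (k.2 _ (h.UW a ha)) ha (h.UW a ha) (map_add g.1 _ _ ▸ e _ (h.fix a))
    obtain ⟨u, hu, w, hw, rfl⟩ := h.dec v
    rw [map_add, (f u hu).1, ← h.ii w, (f _ (h.WU w hw)).2]
    rfl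
  · have f : ∀ a ∈ U, g.1 (i.1 a) = a ∧ g.1 a = i.1 a := fun a ha =>
      h.uniq (k.2 _ (h.UW a ha)) (k.1 a ha) ha (h.UW a ha)
        (by rw [add_comm, ← map_add]; exact e _ (h.fix a))
    obtain ⟨u, hu, w, hw, rfl⟩ := h.dec v
    rw [map_add, map_add, (f u hu).2, ← h.ii w, (f _ (h.WU w hw)).1, h.ii]

theorem tv_apply (ha : a ∈ U) (v : V) :
    (eichler q a (i.1 a)).1 v = v + polar q v (i.1 a) • a + polar q v a • i.1 a := by
  rw [eich_two (h.sU a ha) (h.alt a ha), h.sW _ (h.UW a ha), zero_mul, add_zero]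

theorem tv_U (ha : a ∈ U) (hv : v ∈ U) :
    (eichler q a (i.1 a)).1 v = v + polar q v (i.1 a) • a := by
  rw [h.tv_apply ha, polar_of_sing h.sU hv ha, zero_smul, add_zero]

theorem tv_i (ha : a ∈ U) (v : V) :
    (eichler q a (i.1 a)).1 (i.1 v) = i.1 ((eichler q a (i.1 a)).1 v) := by
  rw [h.tv_apply ha, h.tv_apply ha, OG.map_polar, map_add, map_add, map_smul, map_smul, h.ii,
    polar_comm q (i.1 v), h.sw a v]
  abel

/-- an element of order three cycling `a, b, a + b` -/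
theorem exists_three (ha : a ∈ U) (hb : b ∈ U) (e : polar q a (i.1 b) = 1) : ∃ σ : OG q,
    (∀ v ∈ U, σ.1 v ∈ U) ∧ (∀ v ∈ W, σ.1 v ∈ W) ∧ σ * i = i * σ ∧ σ ^ 4 = σ ∧ σ.1 a = b ∧
      σ.1 b = a + b := by
  let σ := eichler q a (i.1 a) * eichler q b (i.1 b)
  have e' : polar q b (i.1 a) = 1 := (h.sw b a).trans e
  have c : ∀ v, σ.1 (i.1 v) = i.1 (σ.1 v) := fun v => by
    rw [OG.mul_apply, OG.mul_apply, h.tv_i hb, h.tv_i ha]
  have f : ∀ v ∈ U, σ.1 v = v + polar q v (i.1 b) • b +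
      (polar q v (i.1 a) + polar q v (i.1 b)) • a := fun v hv => by
    rw [OG.mul_apply, h.tv_U hb hv, h.tv_U ha (add_mem hv (U.smul_mem _ hb)), polar_add_left,
      polar_smul_left', e', mul_one]
  have m : ∀ v ∈ U, σ.1 v ∈ U := fun v hv =>
    f v hv ▸ add_mem (add_mem hv (U.smul_mem _ hb)) (U.smul_mem _ ha)
  have sa : σ.1 a = b := by
    rw [f a ha, e, h.alt a ha, zero_add, one_smul, one_smul, add_comm a b, two_add_add']
  have sb : σ.1 b = a + b := by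
    rw [f b hb, e', h.alt b hb, zero_smul, add_zero, add_zero, one_smul, add_comm]
  have t : ∀ v ∈ U, σ.1 (σ.1 (σ.1 v)) = v := fun v hv => by
    have za : a + σ.1 a + σ.1 (σ.1 a) = 0 := by rw [sa, sb, two_add_self]
    have zb : b + σ.1 b + σ.1 (σ.1 b) = 0 := by
      rw [sb, map_add, sa, sb, two_add_self]
    have k := f v hv
    have : σ.1 (σ.1 (σ.1 v)) = v + polar q v (i.1 b) • (b + σ.1 b + σ.1 (σ.1 b)) +
        (polar q v (i.1 a) + polar q v (i.1 b)) • (a + σ.1 a + σ.1 (σ.1 a)) := by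
      simp only [k, map_add, map_smul]
      module
    rw [this, za, zb, smul_zero, smul_zero, add_zero, add_zero]
  refine ⟨σ, m, fun w hw => ?_, OG.ext c, ?_, sa, sb⟩
  · rw [← h.ii w, c]; exact h.UW _ (m _ (h.WU w hw))
  · rw [pow_succ, show σ ^ 3 = 1 from OG.ext fun v => ?_, one_mul]
    obtain ⟨u, hu, w, hw, rfl⟩ := h.dec v
    change σ.1 (σ.1 (σ.1 _)) = _
    rw [map_add, map_add, map_add, t u hu, ← h.ii w, c, c, c, t _ (h.WU w hw)]
    rfl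

end Pol

end Cfsg.Agent.X9
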