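import Cfsg.Agent.X9.Tau
import Cfsg.Agent.Class.Orth.MaxSingular
import Cfsg.Agent.Class.Orth.IndexTwo

/-! The vectors whose Eichler maps lie in `A x`. -/

set_option autoImplicit false

namespace Cfsg.Agent.X9

open Subgroup Cfsg.Agent.U6R Cfsg.Agent.Class.Orth QuadraticMap Module
open Cfsg.Agent.X7 (z2 eich_two eq_of_perp1)

variable {V : Type} [AddCommGroup V] [Module (ZMod 2) V] {q : QuadraticForm (ZMod 2) V}

/-- the vectors of `W` orthogonal to `x` -/
def hy (q : QuadraticForm (ZMod 2) V) (W : Submodule (ZMod 2) V) (x : V) : Submodule (ZMod 2) V :=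
  W ⊓ LinearMap.ker (polarBilin q x)

theorem mem_hy {W : Submodule (ZMod 2) V} {x v : V} : v ∈ hy q W x ↔ v ∈ W ∧ polar q x v = 0 :=
  Iff.rfl

theorem le_hy [Finite V] (W : Submodule (ZMod 2) V) (x : V) :
    finrank (ZMod 2) W ≤ finrank (ZMod 2) (hy q W x) + 1 := finrank_le_finrank_inf_ker _ _

theorem hy_lt [Finite V] {W : Submodule (ZMod 2) V} {x v : V} (hv : v ∈ W) (h : polar q x v = 1) :
    finrank (ZMod 2) (hy q W x) < finrank (ZMod 2) W :=
  Submodule.finrank_lt_finrank_of_lt (lt_of_le_of_ne inf_le_left fun e =>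
    zero_ne_one ((e.ge hv).2.symm.trans h))

theorem ex_nm [Finite V] {S W : Submodule (ZMod 2) V}
    (h : finrank (ZMod 2) S < finrank (ZMod 2) W) : ∃ w ∈ W, w ∉ S := by
  by_contra! c
  exact h.not_ge (Submodule.finrank_mono c)

theorem mem_sp {x v : V} : v ∈ Submodule.span (ZMod 2) {x} ↔ v = 0 ∨ v = x := by
  rw [Submodule.mem_span_singleton]
  constructor
  · rintro ⟨c, rfl⟩
    rcases z2 c with rfl | rfl <;> simp
  · rintro (rfl | rfl)
    exacts [⟨0, by simp⟩, ⟨1, by simp⟩]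

theorem ex_ne [Finite V] {W : Submodule (ZMod 2) V} (h : 2 ≤ finrank (ZMod 2) W) (x : V) :
    ∃ w ∈ W, w ≠ 0 ∧ w ≠ x := by
  obtain ⟨w, hw, n⟩ := ex_nm (S := Submodule.span (ZMod 2) {x})
    (((finrank_span_le_card _).trans (by simp)).trans_lt h)
  exact ⟨w, hw, not_or.1 (mt mem_sp.2 n)⟩

theorem pc {x y : V} {c : ZMod 2} (h : polar q x y = c) : polar q y x = c :=
  (polar_comm q y x).trans h

namespace Geo

variable (γ : Geo q) {x e u v y : V} {g : OG q}

/-- the vectors whose Eichler maps are in `A x` -/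
def Y (x : V) : Submodule (ZMod 2) V := AddSubgroup.toZModSubmodule 2
  { carrier := {y | polar q x y = 0 ∧ eichler q x y ∈ γ.A x}
    zero_mem' := ⟨polar_zero_right _ _, by rw [eichler_zero]; exact one_mem _⟩
    add_mem' := fun ⟨a, c⟩ ⟨b, d⟩ => ⟨by rw [polar_add_right, a, b, add_zero], by
      by_cases h : q x = 0
      · rw [eichler_add h a b]; exact mul_mem c d
      · rw [eichler_of_not fun k => h k.1]; exact one_mem _⟩
    neg_mem' := fun {a} ha => by rwa [neg_eq_of_add_eq_zero_left (two_add_self a)] }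

variable {γ}

theorem mem_Y : y ∈ γ.Y x ↔ polar q x y = 0 ∧ eichler q x y ∈ γ.A x := Iff.rfl

theorem self_Y (hx : x ∈ γ.Ω) : x ∈ γ.Y x := ⟨polar_two_self _ _, by
  have := eichler_self_smul (q_eq hx) 1
  rw [one_smul] at this
  exact this ▸ one_mem _⟩

theorem Y_H (hx : x ∈ γ.Ω) (hy : y ∈ γ.Y x) : eichler q x y ∈ γ.H := γ.le x hx hy.2

theorem Y_map (hg : g ∈ γ.H) (hx : x ∈ γ.Ω) (hy : y ∈ γ.Y x) : g.1 y ∈ γ.Y (g.1 x) :=
  ⟨by rw [OG.map_polar, hy.1], conj_eichler g x y ▸ γ.mapA g hg x hx _ hy.2⟩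

theorem Y_L (hx : x ∈ γ.Ω) (hy : y ∈ γ.Y x) (hl : y ∈ γ.L x) : y = 0 ∨ y = x := by
  obtain ⟨e, he⟩ := γ.nd.exists_polar_eq (γ.ne x hx) 1
  have k := eich_two (q_eq hx) hy.1 e
  rw [pc he, one_smul, add_assoc] at k
  rw [γ.inj x hx _ hy.2 e he (by
    rw [k, add_comm, two_add_add]
    exact add_mem (Submodule.smul_mem _ _ (γ.self x hx)) hl), OG.one_apply, left_eq_add] at k
  exact mem_sp.1 (two_eq_of_add k ▸ Submodule.smul_mem _ _ (Submodule.mem_span_singleton_self x))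

theorem Y_sum (hx : x ∈ γ.Ω) (h : γ.T0 x) (hv : polar q x v = 0) : ∃ y ∈ γ.Y x, y + v ∈ γ.L x := by
  obtain ⟨e, he⟩ := γ.nd.exists_polar_eq (γ.ne x hx) 1
  obtain ⟨g, hg, m⟩ := γ.surj x hx e he v hv
  have a : polar q x (g.1 e + e) = 0 := by
    rw [polar_add_right, he]
    conv_lhs => rw [← γ.fix x hx g hg, OG.map_polar, he]
    rfl
  have b : q (g.1 e + e) = polar q (g.1 e + e) e := by
    rw [Q_add, OG.map_Q, polar_add_left, polar_two_self, CharTwo.add_self_eq_zero, zero_add, add_zero]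
  suffices e : g = eichler q x (g.1 e + e) from ⟨_, ⟨a, e ▸ hg⟩, m⟩
  refine OG.ext fun w => ?_
  rw [h.eich hx hg he w, eich_two (q_eq hx) a, b, polar_comm q w, polar_comm q w, mul_comm,
    add_right_comm]

theorem perp_YL (hx : x ∈ γ.Ω) (h : γ.T0 x) (h1 : ∀ y ∈ γ.Y x, polar q y v = 0)
    (h2 : ∀ y ∈ γ.L x, polar q y v = 0) : v = 0 ∨ v = x :=
  eq_of_perp1 γ.nd fun w hw => by
    obtain ⟨y, hy, m⟩ := Y_sum hx h hw
    have := h2 _ m
    rwa [polar_add_left, h1 y hy, zero_add, polar_comm] at this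

theorem rank_Y (hx : x ∈ γ.Ω) (h : γ.T0 x) :
    finrank (ZMod 2) (γ.Y x) + finrank (ZMod 2) (γ.L x) = 8 := by
  have := γ.finite
  have a : γ.Y x ⊓ γ.L x = Submodule.span (ZMod 2) {x} := le_antisymm
    (fun v hv => mem_sp.2 (Y_L hx hv.1 hv.2))
    ((Submodule.span_singleton_le_iff_mem _ _).2 ⟨self_Y hx, γ.self x hx⟩)
  have b : γ.Y x ⊔ γ.L x = perp q (Submodule.span (ZMod 2) {x}) := le_antisymm
    (sup_le (fun v hv u hu => (mem_sp.1 hu).elim (· ▸ polar_zero_left _ _) (· ▸ hv.1))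
      fun v hv u hu => (mem_sp.1 hu).elim (· ▸ polar_zero_left _ _) (· ▸ perpL hx (γ.self x hx) hv))
    fun v hv => by
      obtain ⟨y, hy, m⟩ := Y_sum hx h (hv x (Submodule.mem_span_singleton_self x))
      exact two_add_add y v ▸ Submodule.add_mem_sup hy m
  have c := γ.nd.finrank_perp (Submodule.span (ZMod 2) {x})
  rw [← Submodule.finrank_sup_add_finrank_inf_eq, a, b, add_comm, c, γ.dim]

end Geo

end Cfsg.Agent.X9
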