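import Cfsg.Agent.X9.OPTh
import Cfsg.Agent.O3R.W3

/-! The case `3⁴ : 2³`: the hypothesis `W3`. -/

set_option autoImplicit false
set_option maxRecDepth 100000

namespace Cfsg.Agent.X9

open Subgroup Cfsg.Agent.TT Cfsg.Agent.LES Cfsg.Agent.XSC Cfsg.Agent.Comp.BN Cfsg.Agent.O8C
  Cfsg.Agent.O3R
open Cfsg.Agent.J4 (app app_mm)
open Cfsg.Agent.X7 (mem_c)

variable {G : Type*} [Group G] [Finite G] {z : G} {ψ : ℕ → G}

namespace O3A

/-- the translation of codes and its inverse -/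
def fc (n : ℕ) : ℕ := OA.xr fr81 (cw n)
def gc : ℕ → ℕ := lin fun b => [232, 159, 215, 183, 218, 188, 230, 150].getD b 0

theorem k1 : ∀ n < 256, gc (fc n) = n ∧ (d81.om.testBit (fc n) = true ↔ ty n = 0 ∨ ty n = 4) := by
  decide +kernel

theorem k2 : ∀ b < 8, gc (app (ThT.mw d81.ls [3, 2, 3, 2]) (fc (2 ^ b))) = cd (D3w b) := by decide +kernel

theorem k3 : ∀ M ∈ d81.na, (∃ v < 256, app M (app M v) ≠ v) ∨
    ((Finset.range 256).filter fun v => app M v = v).card ≤ 16 ∨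
      32 < ((Finset.range 256).filter fun v => app M v = v).card := by decide +kernel

theorem k4 (k : ℕ) : fr81 k < 256 := by
  by_cases hk : k < 8
  · revert k; decide
  · rw [fr81, List.getD_eq_default _ _ (by simpa using hk)]; decide

/-- `g` centralises at least as many elements of `Q` as it fixes codes -/
theorem cent_card {u b M : ℕ} {g : G} (h : CF z ψ u b) (a : Ac z ψ g M) :
    ((Finset.range 256).filter fun v => app M v = v).card ≤
      Nat.card (O2C z ⊓ centralizer {g} : Subgroup G) := by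
  classical
  obtain ⟨w, hw, W⟩ : ∃ w < 256, ∀ v < 256, g * ψ v * g⁻¹ = ψ v * z →
      g * (ψ (v ^^^ w) * z) * g⁻¹ = ψ (v ^^^ w) * z := by
    by_cases e : ∃ w < 256, g * ψ w * g⁻¹ = ψ w * z
    · obtain ⟨w, hw, e⟩ := e
      refine ⟨w, hw, fun v hv e' => ?_⟩
      have : g * (ψ v * ψ w) * g⁻¹ = ψ v * ψ w := by
        rw [← conj_mul, e, e', mul_assoc, ← mul_assoc z, ← h.xs.z_comm _ (h.mem w), mul_assoc, h.zz, mul_one]
      rcases h.add v hv w hw with k | k <;> rw [k]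
      · rw [← conj_mul, this, conj_eq_of_comm a.1]
      · rw [mul_assoc _ z, h.zz, mul_one, this]
    · exact ⟨0, by decide, fun v hv e' => (e ⟨v, hv, e'⟩).elim⟩
  rw [← Set.ncard_coe_finset, ← SetLike.coe_sort_coe, Nat.card_coe_set_eq]
  refine Set.ncard_le_ncard_of_injOn (fun v => if g * ψ v * g⁻¹ = ψ v then ψ v else ψ (v ^^^ w) * z)
    (fun v hv => ?_) fun v hv v' hv' e => ?_
  · obtain ⟨hv, e⟩ : v < 256 ∧ app M v = v := by simpa using hv
    split_ifs with c
    · exact ⟨h.mem v, mem_c.2 (comm_of_conj_eq c).symm⟩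
    · exact ⟨mul_mem (h.mem _) h.xs.z_mem, mem_c.2
        (comm_of_conj_eq (W v hv ((e ▸ (a.2 v hv).2 :).resolve_left c))).symm⟩
  · have hv : v < 256 := by simpa using (Finset.mem_filter.1 hv).1
    have hv' : v' < 256 := by simpa using (Finset.mem_filter.1 hv').1
    have k : ∀ {v v'}, v < 256 → v' < 256 → ψ v ≠ ψ v' * z := fun a b e =>
      h.xs.z_ne (left_eq_mul.1 (h.inj _ a _ b (.inr e) ▸ e :))
    beta_reduce at e
    split_ifs at e
    · exact h.inj _ hv _ hv' (.inl e)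
    · exact (k hv (xor_lt hv' hw) e).elim
    · exact (k hv' (xor_lt hv hw) e.symm).elim
    · exact Nat.xor_left_inj.1 (h.inj _ (xor_lt hv hw) _ (xor_lt hv' hw) (.inl (mul_right_cancel e)))

end O3A

open O3A in
theorem Cs.w3 (h : Cs z ψ d81) (r2 : R2 z) (nr : NR z) : ∃ (y : ℕ → G) (t : ℕ → G × M3),
    W3 y t ∧ y 8 = z ∧ (∀ b < 8, y b = ψ (fr81 b)) ∧ y 18 ∈ O2C (ψ 255) ∧
      ∀ i : Fin 3, y (9 + i) ∈ O2C (ψ 255) := by
  obtain ⟨θ, inj, rfl, hb, h18, h9⟩ := h.theta81 r2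
  have o := orc_θ inj
  set y := fun k => θ (m k) with hy
  change Cs (y 8) ψ d81 at h
  have E : ∀ n, fc n < 256 ∧ Eqv (y 8) (ev y (cw n)) (ψ (fc n)) := fun n => by
    rw [ev_congr (y := fun k => ψ (fr81 k)) fun k hk => hb k (cw_lt8 n k hk)]
    exact OA.xr_eqv h.toCF k4 _
  have K : ∀ a ∈ Qy y, Eqv (y 8) a (ψ (fc (κ y a))) := fun a ha => (κ_spec o ha).trans h.zz (E _).2
  have eQ : Qy y = O2C (y 8) := eq_of_le_of_card_ge (fun a ha => (K a ha).mem h.xs.z_mem (h.mem _))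
    (by rw [card_Q o, h.xh.card]; rfl)
  have lx : LX (Qy y) (y 8) := eQ ▸ h.xh.lx
  have A : ∀ {g M n}, Ac (y 8) ψ g M → fc (act y g n) = app M (fc n) := fun {g M n} a =>
    h.inj _ (E _).1 _ (a.2 _ (E n).1).1 (((K _ (cjQ (lx.mem_normalizer a.1) (cw_mem n))).symm h.zz).trans h.zz
      (h.ac_eqv a (E n).1 (E n).2))
  obtain ⟨ρ, hρ⟩ := h.exists_ls ok81
  have ad := h.ac_word (fun k => (hρ k).2) [3, 2, 3, 2]
  obtain ⟨d', -, gl, st⟩ := exists_st inj lx ad.1 fun b hb => by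
    rw [← k2 b hb, ← A ad, (k1 _ (act_lt _ _)).1]
  refine ⟨y, tu3 θ d', ⟨o, st, gl, fun k hk => by rw [tu3_lt θ d' hk], lx, eQ ▸ r2, fun s cs sz hs => ?_,
    fun a ha ne => ?_⟩, rfl, hb, h18, h9⟩
  · have := Fact.mk Nat.prime_two
    have ss := (h.xh.of_isConj cs).zz
    obtain ⟨c, hc, f⟩ := h.exists_fix ok81 odd81 (P := zpowers s) (fun y => ⟨1, Subtype.ext (by
      rcases (mem_zpowers_invol ss).1 y.2 with e | e <;> simp [e, pow_two, ss])⟩) (zpowers_le.2 (mem_c.2 sz))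
    obtain ⟨M, hM, ac⟩ := f s (mem_zpowers s)
    have cN := lx.mem_normalizer (mem_c.1 (C0_le h.xh hc))
    have sN := lx.mem_normalizer sz
    have le : ((Finset.range 256).filter fun n => act y s n = n).card ≤
        ((Finset.range 256).filter fun v => app M v = v).card := by
      refine Finset.card_le_card_of_injOn (fun n => fc (act y c⁻¹ n)) (fun n hn => ?_) fun n hn n' hn' e => ?_
      · obtain ⟨hn, e⟩ : n < 256 ∧ act y s n = n := by simpa using hn
        refine Finset.mem_filter.2 ⟨Finset.mem_range.2 (E _).1, ?_⟩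
        rw [← A ac, act_mul o (mul_mem (inv_mem cN) sN) cN, act_inv' o cN hn, act_mul o (inv_mem cN) sN, e]
      · have := congrArg (fun v => act y c (gc v)) e
        simp only [(k1 _ (act_lt _ _)).1] at this
        rwa [act_inv' o cN (by simpa using (Finset.mem_filter.1 hn).1),
          act_inv' o cN (by simpa using (Finset.mem_filter.1 hn').1)] at this
    by_contra n
    rcases k3 M hM with ⟨v, hv, e⟩ | e | e
    · have := h.ac_unique (h.ac_mul ac ac) (h.ac_of_mem (by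
        rw [show c⁻¹ * s * c * (c⁻¹ * s * c) = c⁻¹ * (s * s) * c by group, ss]; simp)) hv
      rw [app_mm _ _ (by omega), ThT.app_i8 _ hv] at this
      exact e this
    · omega
    · have := (cent_card h.toCF ac).trans (nr _ (cs.trans (isConj_iff.2 ⟨c⁻¹, by rw [inv_inv]⟩)) ac.1 fun e =>
        n (by simpa [mul_assoc] using cjQ cN (eQ.ge e)))
      omega
  · rw [← (k1 _ (κ_lt a)).2, ← h.om _ (E _).1, ← h.fp_iff (K a ha)]
    exact ⟨fun c => ⟨h.xh, c, eQ.le ha, ne⟩, fun f => f.conj⟩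

end Cfsg.Agent.X9
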