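import Cfsg.Agent.X9.OMa
import Cfsg.Agent.X9.OMd
import Cfsg.Agent.X9.Def2
import Cfsg.Agent.O8C.StepL

/-! The graph over the involution centraliser in the case `S₃ × A₅`. -/

set_option autoImplicit false
set_option maxRecDepth 100000

namespace Cfsg.Agent.X9.OM

open Subgroup Cfsg.Agent.TT Cfsg.Agent.LES Cfsg.Agent.XSC Cfsg.Agent.XSC.WC Cfsg.Agent.XW
  Cfsg.Agent.Comp.BN
open Cfsg.Agent.J4 (app mm bil app_mm)
open Cfsg.Agent.ThT (x8 l12 i8 app_i8 mw)
open Cfsg.Agent.O8C (X Ql dl_of_frame frC exists_adj allP_of)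

variable {G : Type*} [Group G]

noncomputable def fv : ℕ → ℕ := nth 0 [255, 105, 90, 72, 153, 9, 36, 32]

theorem fv_lt (k : ℕ) : fv k < 256 := nth_prop (· < 256) _ _ (by decide) (by decide) k

/-- the tuple of letters -/
noncomputable def tup (z : G) (ψ : ℕ → G) (r a d b x : G) : ℕ → G × Mo := fun k =>
  ([ψ 255, ψ 105, ψ 90, ψ 72, ψ 153, ψ 9, ψ 36, ψ 32, z, r, a,
    b * a * b * a * b⁻¹ * a * (b * a * b * a * b⁻¹)⁻¹, d, d⁻¹, b, b⁻¹, b * a * b * a * b⁻¹,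
    (b * a * b * a * b⁻¹)⁻¹, x].getD k 1, m k)

noncomputable def Dq (z : G) (ψ : ℕ → G) : Subgroup (G × Mo) := genW (tup z ψ 1 1 1 1 1) ([8] :: Ql)

variable {z : G} {ψ : ℕ → G} {r a d b x c : G}

theorem tup_q {k : ℕ} (hk : k < 8) : tup z ψ r a d b x k = (ψ (fv k), m k) := by
  interval_cases k <;> rfl

theorem genW_Dq : genW (tup z ψ r a d b x) ([8] :: Ql) = Dq z ψ :=
  genW_congr fun W hW => ev_congr fun k hk => by
    have : k < 9 := by revert k W; decide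
    interval_cases k <;> rfl

theorem low_mem {k : ℕ} (h : k < 9) : tup z ψ r a d b x k ∈ Dq z ψ := by
  simpa [genW_Dq] using mem_genW (x := tup z ψ r a d b x) (ws := [8] :: Ql) (W := [k]) (by
    interval_cases k <;> decide)

theorem q_mem {k : ℕ} (h : k < 8) : (ψ (fv k), m k) ∈ Dq z ψ :=
  tup_q (z := z) (r := 1) (a := 1) (d := 1) (b := 1) (x := 1) h ▸ low_mem (by omega)

theorem snd_tup (W : List ℕ) : (ev (tup z ψ r a d b x) W).2 = ev m W := snd_ev (fun _ => rfl) W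

theorem lt_of_bit {S k : ℕ} (n : ℕ) (hk : S.testBit k = true) (h : S < 2 ^ n) : k < n := by
  by_contra e
  rw [Nat.testBit_lt_two_pow (h.trans_le (Nat.pow_le_pow_right (by norm_num) (by omega)))] at hk
  exact Bool.noConfusion hk

theorem dec {K : Type*} [Group K] {Δ Λ : Subgroup K} (h : Λ ≤ normalizer (Δ : Set K)) {γ : K}
    (hγ : γ ∈ Δ ⊔ Λ) : ∃ δ ∈ Δ, ∃ l ∈ Λ, δ * l = γ := by
  rwa [← SetLike.mem_coe, coe_mul_of_right_le_normalizer_left _ _ h] at hγ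

noncomputable def xs (W : List ℕ) : ℕ := List.rec 0 (fun k _ ih => Nat.xor (fv k) ih) W

noncomputable def adjC (k M : ℕ) (act : List (List ℕ)) : Bool :=
  band (eqC val [k, 8] [8, k]) (allN (fun b => band (band (allL (fun j => Nat.blt j 8) (nth [] act b))
    (Nat.beq (app M (fv b)) (xs (nth [] act b)))) (bor (eqC val [k, b] (appendL (nth [] act b) [k]))
      (eqC val [k, b] (appendL (nth [] act b) [8, k])))) 8)

noncomputable def adjPC (k : ℕ) : Bool :=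
  allL (fun e => bor (eqC val [k, e] [e, k]) (eqC val [k, e] [e, 0, k])) [0, 1, 2, 4]

theorem b1 : frC val 8 [0, 1, 2, 3, 4, 5, 6, 7] (fun i => 7 - i) = true := by decide +kernel
theorem b2 : ∀ i < 8, bil d15.u (fv i) (fv i) = 0 ∧ ∀ j < 8, (bil d15.b (fv i) (fv j) = 0 ↔ j ≠ 7 - i) := by
  decide +kernel
theorem b3 : allL (fun V => bor (anyL (fun e => ncomC val V [e]) [0, 1, 2, 4]) (onC 279 V))
    (nfL [8] Ql) = true := by decide +kernel

section
variable [Finite G] (h : Cs z ψ d15)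
include h

theorem fr (r a d b x : G) : Dl (O2C z) z (Dq z ψ) (z, m 8) ∧ XG (tup z ψ r a d b x) [8] Ql := by
  have := dl_of_frame h.xh.lx (t := tup z ψ r a d b x) (fun _ => rfl) orc (c := 8) rfl
    (ls := [0, 1, 2, 3, 4, 5, 6, 7]) (fun i hi => by
      have h1 : i < 8 := by revert i; decide
      rw [tup_q h1]; exact ⟨h.mem _, (h.sq _ (fv_lt i)).2 (b2 i h1).1⟩) (fun i hi j hj => by
      have h1 : i < 8 := by revert i; decide
      have h2 : j < 8 := by revert j; decide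
      rw [tup_q h1, tup_q h2]; exact (h.comm _ (fv_lt i) _ (fv_lt j)).trans ((b2 i h1).2 j h2))
    (by decide) h.xh.card b1 (l := Ql) rfl
  rwa [genW_Dq] at this

theorem dl : Dl (O2C z) z (Dq z ψ) (z, m 8) := (fr h 1 1 1 1 1).1

theorem nf (r a d b x : G) {δ : G × Mo} (hδ : δ ∈ Dq z ψ) :
    ∃ V ∈ nfL [8] Ql, ev (tup z ψ r a d b x) V = δ := (fr h r a d b x).2.nf (genW_Dq.ge hδ)

theorem fP : ∀ e ∈ [0, 1, 2, 4], ψ (fv e) ∈ O2C (ψ 255) := fun e he =>
  (h.aL _ (fv_lt e)).2 (by revert e; decide +kernel)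

omit [Finite G] in
theorem evq (W : List ℕ) : xs W < 256 ∧ Eqv z (ev (fun k => ψ (fv k)) W) (ψ (xs W)) := by
  induction W with
  | nil => exact ⟨by decide +kernel, h.zero.symm h.zz⟩
  | cons k W ih => exact ⟨x8 (fv_lt k) ih.1, by
      rw [ev_cons]; exact h.mul_eqv (fv_lt k) ih.1 (.refl _ _) ih.2⟩

omit [Finite G] in
theorem acQ {M : ℕ} (hc : Ac z ψ c M) {y : G} (hy : y ∈ O2C z) : Ac z ψ (c * y) M :=
  (h.ac_mul hc (h.ac_of_mem hy)).congr fun v hv => by rw [app_mm _ _ (l12 hv), app_i8 v hv]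

theorem adj {k M : ℕ} (hc : Ac z ψ c M) {act : List (List ℕ)} (e : adjC k M act = true) :
    ∃ y ∈ O2C z, (c * y, m k) ∈ normalizer (Dq z ψ : Set (G × Mo)) := by
  simp only [adjC, band_eq, allN_eq, allL_eq, bor_eq, Nat.blt_eq, appendL_eq, Nat.beq_eq] at e
  have e1 : m k * m 8 = m 8 * m k := by simpa using orc.eq e.1
  have D := dl h
  refine exists_adj D hc.1 e1 fun W hW => ?_
  rcases List.mem_cons.1 hW with rfl | hW
  · refine ⟨_, D.mem, by simp [tup, e1], ?_⟩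
    rw [ev_cons, ev_nil, mul_one]
    exact Or.inl (conj_eq_of_comm hc.1)
  obtain ⟨b, hb, rfl⟩ : ∃ b < 8, W = [b] := by revert W; decide
  obtain ⟨⟨e2, e7⟩, e3⟩ := e.2 b hb
  have e4 : (ev (tup z ψ 1 1 1 1 1) (nth [] act b)).1 = ev (fun k => ψ (fv k)) (nth [] act b) := by
    rw [fst_ev]; exact ev_congr fun j hj => by rw [tup_q (e2 j hj)]
  have e5 : ev (tup z ψ 1 1 1 1 1) (nth [] act b) ∈ Dq z ψ :=
    ev_mem_of fun j hj => low_mem ((e2 j hj).trans (by decide))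
  have e6 := (e7 ▸ (hc.2 _ (fv_lt b)).2).trans h.zz ((evq h (nth [] act b)).2.symm h.zz)
  rw [ev_cons, ev_nil, mul_one, tup_q hb]
  rcases e3 with e3 | e3
  · refine ⟨_, e5, ?_, e4 ▸ e6⟩
    rw [snd_tup, eq_mul_inv_iff_mul_eq]
    simpa using (orc.eq e3).symm
  · refine ⟨_, mul_mem e5 D.mem, ?_, ?_⟩
    · rw [Prod.snd_mul, snd_tup, eq_mul_inv_iff_mul_eq]
      simpa [mul_assoc] using (orc.eq e3).symm
    · rw [Prod.fst_mul, e4]
      exact e6.trans h.zz (Or.inr (h.xs.mul_z_z _).symm)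

theorem adj3 {k M : ℕ} (hc : Ac z ψ c M) {act : List (List ℕ)} (e : adjC k M act = true)
    (e3 : eqC val [k, k, k] [] = true) :
    ∃ d, (d, m k) ∈ normalizer (Dq z ψ : Set (G × Mo)) ∧ d ^ 3 = 1 ∧ Ac z ψ d M := by
  obtain ⟨y, hy, n⟩ := adj h hc e
  have m3 : m k ^ 3 = 1 := by simpa [pow_succ, mul_assoc] using orc.eq e3
  have k3 : (c * y) ^ 3 = 1 ∨ (c * y) ^ 3 = z :=
    ((dl h).ker (pow_mem n 3) m3).imp (congrArg Prod.fst) (congrArg Prod.fst)
  refine ⟨(c * y) ^ 4, by simpa [pow_succ' (m k) 3, m3] using pow_mem n 4, ?_, ?_⟩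
  · rw [← pow_mul, mul_comm, pow_mul]
    rcases k3 with e | e <;> rw [e]
    · simp
    · rw [show 4 = 2 * 2 from rfl, pow_mul, pow_two z, h.zz, one_pow]
  · rw [pow_succ']
    exact acQ h (acQ h hc hy) (k3.elim (· ▸ one_mem _) (· ▸ h.xs.z_mem))

theorem adjP {k i : ℕ} (hi : i < 8) {act : List (List ℕ)} (e : adjC k (tr i) act = true)
    (e' : adjPC k = true) :
    ∃ r ∈ O2C (ψ 255), (r, m k) ∈ normalizer (Dq z ψ : Set (G × Mo)) ∧ Ac z ψ r (tr i) := by
  obtain ⟨c, cP, hc⟩ := h.aA i hi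
  obtain ⟨y, hy, n⟩ := adj h hc e
  have D := dl h
  have p := (h.fp ok15).pair
  refine ⟨_, mul_mem cP ?_, n, acQ h hc hy⟩
  obtain ⟨δ, hδ, e⟩ := D.exists_of_mem hy
  obtain ⟨V, hV, rfl⟩ := nf h 1 1 1 1 1 hδ
  rcases (bor_eq _ _).1 ((allL_eq _ _).1 b3 V hV) with e1 | e1
  · exfalso
    obtain ⟨b, hb, e1⟩ := (anyL_eq _ _).1 e1
    have m1 := q_mem (z := z) (ψ := ψ) (k := b) (by clear e1; revert b; decide)
    have m0 := q_mem (z := z) (ψ := ψ) (k := 0) (by decide)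
    have e2 : Eqv (ψ 255) (c * y * ψ (fv b) * (c * y)⁻¹) (ψ (fv b)) := by
      rcases (bor_eq _ _).1 ((allL_eq _ _).1 e' b hb) with e2 | e2
      · exact Or.inl (congrArg Prod.fst (D.gr.eq (D.conj_mem n m1) m1 (by
          simpa [mul_inv_eq_iff_eq_mul] using orc.eq e2)))
      · exact Or.inr (congrArg Prod.fst (D.gr.eq (D.conj_mem n m1) (mul_mem m1 m0) (by
          simpa [mul_inv_eq_iff_eq_mul, ← mul_assoc] using orc.eq e2)))
    have e3 := (e2.conj (comm_inv_left (p.hP.z_comm _ cP))).trans p.hP.z_sq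
      (p.hP.toXS.conj (inv_mem cP) (fP h b hb))
    rw [show c⁻¹ * (c * y * ψ (fv b) * (c * y)⁻¹) * c⁻¹⁻¹ = y * ψ (fv b) * y⁻¹ by group] at e3
    rcases h.xs.conj hy (h.mem (fv b)) with e4 | e4
    · refine orc.ne e1 ?_
      have := congrArg Prod.snd (D.gl.eq (mul_mem hδ m1) (mul_mem m1 hδ) (by
        simpa [e] using comm_of_conj_eq e4))
      simpa [appendL_eq, snd_tup] using this
    · rw [e4] at e3
      exact e3.elim (fun e => h.xs.z_ne (mul_eq_left.1 e)) fun e => p.ne (mul_left_cancel e).symm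
  · rw [← e]
    refine genOn_le (H := (O2C (ψ 255)).comap (MonoidHom.fst G Mo)) (fun k hk => ?_) (ev_mem_genOn e1)
    have := lt_of_bit 9 hk (by decide)
    interval_cases k <;> first
      | exact absurd hk (by decide) | exact p.z_mem | exact fP h 0 (by decide)
      | exact fP h 1 (by decide) | exact fP h 2 (by decide) | exact fP h 4 (by decide)

end

def Md : ℕ := 0x81002004018010024042080
def Mb : ℕ := 0x4040069010008096002020

structure Bs (z : G) (ψ : ℕ → G) (r a d b : G) : Prop where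
  cs : Cs z ψ d15
  nr : (r, m 9) ∈ normalizer (Dq z ψ : Set (G × Mo))
  na : (a, m 10) ∈ normalizer (Dq z ψ : Set (G × Mo))
  nd : (d, m 12) ∈ normalizer (Dq z ψ : Set (G × Mo))
  nb : (b, m 14) ∈ normalizer (Dq z ψ : Set (G × Mo))
  d3 : d ^ 3 = 1
  b3 : b ^ 3 = 1
  rP : r ∈ O2C (ψ 255)
  aP : a ∈ O2C (ψ 255)
  ab : (a * b) ^ 5 = 1
  cr : Ac z ψ r (tr 7)
  ca : Ac z ψ a (tr 3)
  cd : Ac z ψ d Md
  cb : Ac z ψ b Mb

theorem exists_bs [Finite G] (h : Cs z ψ d15) : ∃ r a d b, Bs z ψ r a d b := by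
  obtain ⟨ρ, hρ⟩ := h.exists_ls ok15
  have w := h.ac_word fun k => (hρ k).2
  obtain ⟨r, r1, r2, r3⟩ := adjP h (k := 9) (i := 7) (by decide) (act := [[0], [0, 1], [2], [2, 3], [4],
    [4, 5], [6], [6, 7]]) (by decide +kernel) (by decide +kernel)
  obtain ⟨a, a1, a2, a3⟩ := adjP h (k := 10) (i := 3) (by decide) (act := [[0], [1], [0, 2], [1, 3], [4],
    [5], [0, 4, 6], [1, 5, 7]]) (by decide +kernel) (by decide +kernel)
  obtain ⟨d, d1, d2, d3⟩ := adj3 h (k := 12) ((w [0, 1, 2, 3, 5]).of_eq8 (N := Md) (by decide +kernel))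
    (act := [[1], [0, 1], [3], [2, 3], [5], [4, 5], [7], [6, 7]]) (by decide +kernel) (by decide +kernel)
  obtain ⟨b, b1, b2, b3⟩ := adj3 h (k := 14) ((w [0, 2, 3]).of_eq8 (N := Mb) (by decide +kernel))
    (act := [[0, 2, 6], [1, 3, 7], [2], [3], [0, 2, 4], [1, 3, 5], [0], [1]]) (by decide +kernel)
    (by decide +kernel)
  have m5 : (m 10 * m 14) ^ 5 = 1 := by
    simpa [ev_powW] using orc.eq (U := powW [10, 14] 5) (V := []) (by decide +kernel)
  rcases (dl h).ker (pow_mem (mul_mem a2 b1) 5) m5 with e | e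
  · exact ⟨r, a, d, b, h, r2, a2, d1, b1, d2, b2, r1, a1, congrArg Prod.fst e, r3, a3, d3, b3⟩
  · refine ⟨r, a * z, d, b, h, r2, by simpa using mul_mem a2 (dl h).z1_mem, d1, b1, d2, b2, r1,
      mul_mem a1 (h.fp ok15).z_mem, ?_, r3, acQ h a3 h.xs.z_mem, d3, b3⟩
    rw [mul_assoc, ← b3.1, ← mul_assoc, (show Commute (a * b) z from comm_mul_left a3.1 b3.1).mul_pow,
      show (a * b) ^ 5 = z from congrArg Prod.fst e, ← pow_succ', show 5 + 1 = 2 * 3 from rfl, pow_mul,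
      pow_two, h.zz, one_pow]

end Cfsg.Agent.X9.OM
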