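import Cfsg.Agent.X9.OMb

/-! The graph over the involution centraliser in the case `S₃ × A₅`, II. -/

set_option autoImplicit false
set_option maxRecDepth 100000

namespace Cfsg.Agent.X9.OM

open Subgroup Cfsg.Agent.TT Cfsg.Agent.LES Cfsg.Agent.XSC Cfsg.Agent.XSC.WC Cfsg.Agent.XW
  Cfsg.Agent.Comp.BN
open Cfsg.Agent.J4 (app mm bil app_mm)
open Cfsg.Agent.ThT (x8 l12 i8 app_i8 mw)
open Cfsg.Agent.O8C (X Ql allP_of)

variable {G : Type*} [Group G]

def wsC : List (List ℕ) := [[9], [10], [12], [13], [14], [15]]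
def KC : List (List ℕ) := [[9, 10, 9, 10], [12, 12, 12], [14, 14, 14], [9, 12, 9, 12], [12, 14, 13, 15],
  [9, 14, 9, 15], [10, 12, 10, 13], [10, 14, 10, 14, 10, 14, 10, 14, 10, 14]]
def W0 : List ℕ := [8, 7, 18, 15, 12, 18, 14, 13, 18, 8, 18, 12, 15, 18, 13, 14, 18, 7, 8]

theorem c1 : satC val X.I [] KC PC wsC (List.replicate 8 []) = true := by decide +kernel
theorem c2 : stepC val X.I 61440 19 wsC [[2], [4]] [12, 14] [[4, 1], [4, 1, 0], [5, 1, 5, 1], [5, 1, 5, 1, 0], [4, 1, 4, 1], [4, 1, 4, 1, 0], [1, 4, 1], [1, 4, 1, 0], [1, 5, 1, 4, 1], [4, 1, 5, 1], [4, 1, 5, 1, 0], [5, 1], [5, 1, 0], [1], [1, 0], [], [0], [1, 5, 1], [1, 5, 1, 0], [5, 1, 4, 1], [5, 1, 4, 1, 0]] AC.doneC.n = true := by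
  decide +kernel
theorem c3 : allL (fun W => comC val W W0) wsC = true := by decide +kernel
theorem c4 : allL (fun V => bor (eqC val V []) (ncomC val V W0)) (nfL [8] Ql) = true := by
  decide +kernel
theorem c5 : allL (fun V => bor (onC 511 V) (anyL (fun b => band (ncomC val V [b])
    (neC val (appendL V [b]) (b :: 8 :: V))) [0, 1, 2, 3, 4, 5, 6, 7])) (nfL [8] [[9], [10], [11]]) = true := by
  decide +kernel
def onW : List (List ℕ) := [[0, 3, 1, 3, 3, 1, 3, 1, 3, 3, 1, 3], [0, 1, 3, 1, 3, 3, 1, 3, 1, 3, 3, 1, 3],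
  [0, 1], [1, 3, 3, 1, 3, 1, 3, 3, 1, 3, 1], [1, 3, 1, 3, 3, 1, 3, 1, 3], [0, 1, 2, 3, 3, 1, 3, 1, 3, 3, 1, 3, 1]]
theorem c6 : ∀ k < 6, eq8 (d15.ls k) (mw (nth i8 [tr 7, tr 3, Md, Mb]) (nth [] onW k)) = true := by
  decide +kernel

noncomputable def ctC (ts us Us : List (List ℕ)) : Bool :=
  band (band (allL (onC 4095) ts) (allL (fun b => anyL (eqL b) ts) ([8] :: [0] :: us)))
    (band (allL (fun M => bor (anyL (fun b => band (anyL (eqL [b]) ts)
        (bif' (Nat.beq (app M (fv b)) (fv b)) false true)) [0, 1, 2, 3, 4, 5, 6, 7])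
      (bor (eq8 i8 M) (eq8 (tr 7) M))) d15.na)
      (allL (fun V => bor (anyL (ncomC val V) ts) (anyL (fun U => eqC val V (subst us U)) Us))
        (nfL [8] ([9] :: Ql))))

namespace Bs

variable [Finite G] {z : G} {ψ : ℕ → G} {r a d b : G} (h : Bs z ψ r a d b)
include h

theorem pr : LXPair (O2C z) (O2C (ψ 255)) z (ψ 255) := (h.cs.fp ok15).pair

theorem eqP {γ : G × Mo} (h1 : γ ∈ normalizer (Dq z ψ : Set (G × Mo))) (h2 : γ.2 = 1)
    (h3 : γ.1 = 1 ∨ γ.1 = ψ 255) : γ.1 = 1 :=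
  h3.resolve_right fun e => ((dl h.cs).ker h1 h2).elim (fun e' => h.pr.hP.z_ne (e ▸ congrArg Prod.fst e'))
    fun e' => h.pr.ne (e ▸ congrArg Prod.fst e')

theorem rr : r * r = 1 := h.eqP (mul_mem h.nr h.nr) (m_inv 9) (h.pr.hP.toXS.sq h.rP)

theorem aa : a * a = 1 := h.eqP (mul_mem h.na h.na) (m_inv 10) (h.pr.hP.toXS.sq h.aP)

theorem ov {x : G} (hx : x * x = 1) : Ov (tup z ψ r a d b x) m val X.I := by
  refine ⟨fun _ => rfl, orc, fun k => Prod.ext ?_ (m_inv k)⟩
  by_cases hk : k < 8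
  · rw [show X.I k = k by interval_cases k <;> rfl, tup_q hk]
    exact (h.cs.sq _ (fv_lt k)).2 (b2 k hk).1
  by_cases hk : k < 19
  · interval_cases k <;> first
      | omega | exact h.cs.zz | exact h.rr | exact h.aa | exact inv_mul_cancel _
      | exact mul_inv_cancel _ | exact hx | exact conj_mul.trans (by rw [h.aa, mul_one]; exact mul_inv_cancel _)
  · rw [I_of_le X (not_lt.1 hk), tup, List.getD_eq_default _ _ (by simpa using hk)]
    exact one_mul _

theorem lam {x : G} (hx : x * x = 1) {H : Subgroup (G × Mo)} (h1 : ∀ k ∈ [9, 10, 12, 14], tup z ψ r a d b x k ∈ H)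
    {k : ℕ} (h2 : 9 ≤ k) (h3 : k < 18) : tup z ψ r a d b x k ∈ H := by
  have o := h.ov hx
  set t := tup z ψ r a d b x
  have a1 := h1 10 (by simp)
  have a2 := h1 14 (by simp)
  have i : ∀ k, t k ∈ H → t (X.I k) ∈ H := fun k hk => eq_inv_of_mul_eq_one_left (o.inv k) ▸ inv_mem hk
  have e1 : t 16 = t 14 * t 10 * t 14 * t 10 * t 15 := Prod.ext rfl (by
    simpa [mul_assoc] using o.snd_eq (U := [16]) (V := [14, 10, 14, 10, 15]) (by decide +kernel))
  have e2 : t 11 = t 16 * t 10 * t 17 := Prod.ext rfl (by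
    simpa [mul_assoc] using o.snd_eq (U := [11]) (V := [16, 10, 17]) (by decide +kernel))
  have a3 : t 16 ∈ H := e1 ▸ mul_mem (mul_mem (mul_mem (mul_mem a2 a1) a2) a1) (i 14 a2)
  interval_cases k
  exacts [h1 9 (by simp), a1, e2 ▸ mul_mem (mul_mem a3 a1) (i 16 a3), h1 12 (by simp),
    i 12 (h1 12 (by simp)), a2, i 14 a2, a3, i 16 a3]

theorem nrm {x : G} (hx : x * x = 1) {k : ℕ} (hk : k < 18) :
    tup z ψ r a d b x k ∈ normalizer (Dq z ψ : Set (G × Mo)) := by
  by_cases h9 : k < 9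
  · exact le_normalizer (low_mem h9)
  · exact h.lam hx (by simpa using ⟨h.nr, h.na, h.nd, h.nb⟩) (not_lt.1 h9) hk

theorem kc {x : G} (hx : x * x = 1) : ∀ W ∈ KC, ev (tup z ψ r a d b x) W = 1 := by
  have o := h.ov hx
  have n := fun k hk => h.nrm hx (k := k) hk
  set t := tup z ψ r a d b x
  have c : ∀ k, (t k).1 ^ 3 = 1 → eqC val [k, k, k] [] = true → t k ^ 3 = 1 := fun k e e' =>
    Prod.ext e (by simpa [pow_succ, mul_assoc] using o.snd_eq e')
  have c12 := c 12 h.d3 (by decide +kernel)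
  have c13 := c 13 (inv_pow d 3 ▸ inv_eq_one.2 h.d3) (by decide +kernel)
  have c14 := c 14 h.b3 (by decide +kernel)
  have cub : ∀ g k j, g < 18 ∧ k < 18 ∧ j < 18 → t k ^ 3 = 1 → t j ^ 3 = 1 →
      eqC val (cj X.I [g] [k]) [j] = true → ev t [g, k, X.I g, X.I j] = 1 := fun g k j l e1 e2 e => by
    have := (dl h.cs).eq_of_cube (mul_mem (mul_mem (n g l.1) (n k l.2.1)) (inv_mem (n g l.1))) (n j l.2.2)
      (by simpa [ev_cj o.inv] using o.snd_eq e) (by rw [conj_pow, e1]; group) e2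
    simp only [ev_cons, ev_nil, eq_inv_of_mul_eq_one_left (o.inv _), ← this]
    group
  simp only [KC, List.forall_mem_cons]
  refine ⟨Prod.ext (h.eqP (ev_mem_of fun k hk => n k (by revert k; decide))
      (o.snd_eq (V := []) (by decide +kernel)) ?_) (o.snd_eq (V := []) (by decide +kernel)),
    by simpa [pow_succ, mul_assoc] using c12, by simpa [pow_succ, mul_assoc] using c14,
    cub 9 12 13 (by decide) c12 c13 (by decide +kernel), cub 12 14 14 (by decide) c14 c14 (by decide +kernel),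
    cub 9 14 14 (by decide) c14 c14 (by decide +kernel), cub 10 12 12 (by decide) c12 c12 (by decide +kernel),
    Prod.ext ?_ (o.snd_eq (V := []) (by decide +kernel)), by simp⟩
  · change r * (a * (r * (a * 1))) = 1 ∨ r * (a * (r * (a * 1))) = _
    rw [mul_one, ← mul_assoc, ← mul_assoc]
    nth_rewrite 2 4 [← inv_eq_of_mul_eq_one_right h.rr]
    rcases h.pr.hP.toXS.conj h.rP h.aP with e | e <;> rw [e]
    · exact Or.inl h.aa
    · exact Or.inr (by rw [h.pr.hP.z_comm a h.aP, mul_assoc, h.aa, mul_one])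
  · refine Eq.trans ?_ h.ab
    simp only [pow_succ, pow_zero, one_mul, mul_assoc]
    exact congrArg (fun y => a * (b * (a * (b * (a * (b * (a * (b * (a * y))))))))) (mul_one b)

theorem grL {x : G} (hx : x * x = 1) : Gr (genW (tup z ψ r a d b x) wsC) := by
  have o := h.ov hx
  have k := h.kc hx
  have n := fun k hk => h.nrm hx (k := k) hk
  set t := tup z ψ r a d b x
  refine o.step AC.done (St.sat (Ss := []) ⟨o, trivial, allP_of k⟩ c1) (fun γ hγ e => ?_) AC_l c2
  have i := fun k => eq_inv_of_mul_eq_one_left (o.inv k)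
  have c : Commute (t 12) (t 14) := by
    have := k [12, 14, 13, 15] (by decide)
    rw [ev_cons, ev_cons, ev_cons, ev_cons, ev_nil, show t 13 = _ from i 12, show t 15 = _ from i 14] at this
    exact commutatorElement_eq_one_iff_commute.1 (by simpa [commutatorElement_def, mul_assoc] using this)
  have p : ∀ j, [j, j, j] ∈ KC → ∀ n : ℤ, (t j ^ n) ^ 3 = 1 := fun j hj n => by
    rw [← zpow_natCast, ← zpow_mul, mul_comm, zpow_mul, zpow_natCast,
      show t j ^ 3 = 1 by simpa [pow_succ, mul_assoc] using k _ hj, one_zpow]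
  let f := (zpowersHom _ (t 12)).noncommCoprod (zpowersHom _ (t 14)) fun _ _ => c.zpow_zpow _ _
  obtain ⟨⟨u, v⟩, e1⟩ := genOn_le (H := f.range) (fun j hj => by
    have a : t 12 ∈ f.range := ⟨(.ofAdd 1, 1), (by simp : t 12 ^ (1 : ℤ) * t 14 ^ (0 : ℤ) = _)⟩
    have b : t 14 ∈ f.range := ⟨(1, .ofAdd 1), (by simp : t 12 ^ (0 : ℤ) * t 14 ^ (1 : ℤ) = _)⟩
    rcases (by decide : ∀ j < 16, Nat.testBit 61440 j = true → j = 12 ∨ j = 13 ∨ j = 14 ∨ j = 15) j
      (lt_of_bit 16 hj (by decide)) hj with rfl | rfl | rfl | rfl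
    exacts [a, (i 12).symm ▸ inv_mem a, b, (i 14).symm ▸ inv_mem b]) hγ
  refine ((dl h.cs).ker (genOn_le (fun j hj => n j ((lt_of_bit 16 hj (by decide)).trans (by decide))) hγ)
    e).resolve_right fun e2 => h.cs.xs.z_ne ?_
  have e3 : γ ^ 3 = 1 := by
    rw [← e1]
    exact ((c.zpow_zpow _ _).mul_pow 3).trans (by rw [p 12 (by decide), p 14 (by decide), one_mul])
  simpa [e2, pow_succ, h.cs.zz] using congrArg Prod.fst e3

theorem gr {x : G} (hx : x * x = 1) : Gr (genOn (tup z ψ r a d b x) 262143) := fun γ hγ e => by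
  obtain ⟨δ, hδ, l, hl, rfl⟩ := dec (Δ := Dq z ψ) (Λ := genW (tup z ψ r a d b x) wsC)
    (genW_le fun W hW => ev_mem_of fun k hk => h.nrm hx (by revert k W; decide))
    (genOn_le (H := Dq z ψ ⊔ _) (fun k hk => (lt_or_ge k 9).elim (fun e => mem_sup_left (low_mem e)) fun e =>
      mem_sup_right (h.lam hx (fun j hj => by
        simpa using mem_genW (x := tup z ψ r a d b x) (W := [j]) (ws := wsC) (by revert j; decide)) e
        (lt_of_bit 18 hk (by decide)))) hγ)
  obtain ⟨V, hV, rfl⟩ := nf h.cs r a d b x hδ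
  have c := congrArg Prod.snd (comm_genW (g := (1, ev m W0)) (fun W hW => Prod.ext (by simp) (by
    simpa [appendL_eq, snd_tup] using orc.eq ((allL_eq _ _).1 c3 W hW))) hl)
  rcases (bor_eq _ _).1 ((allL_eq _ _).1 c4 V hV) with e1 | e1
  · rw [(dl h.cs).gr _ hδ ((snd_tup V).trans (orc.eq e1)), one_mul] at e ⊢
    exact h.grL hx l hl e
  · refine absurd ?_ (orc.ne e1)
    rw [ev_app, ev_app, show ev m V = l.2⁻¹ from (snd_tup V).symm.trans (eq_inv_of_mul_eq_one_left e)]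
    exact comm_inv_left c

theorem gl {x : G} (hx : x * x = 1) : Gl (genOn (tup z ψ r a d b x) 4095) := fun γ hγ e => by
  have o := h.ov hx
  have D := dl h.cs
  have n : genW (tup z ψ r a d b x) [[8], [9], [10], [11]] ≤ normalizer (Dq z ψ : Set (G × Mo)) :=
    genW_le fun W hW => ev_mem_of fun k hk => h.nrm hx (by revert k W; decide)
  obtain ⟨δ, hδ, l, hl, rfl⟩ := dec n (genOn_le (H := Dq z ψ ⊔ _) (fun k hk => (lt_or_ge k 9).elim
    (fun e => mem_sup_left (low_mem e)) fun e => mem_sup_right (by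
      have := lt_of_bit 12 hk (by decide)
      simpa using mem_genW (x := tup z ψ r a d b x) (W := [k]) (by interval_cases k <;> decide))) hγ)
  have c : ∀ w ∈ [[8], [9], [10], [11]], ev (tup z ψ r a d b x) (appendL w w) = ev _ [] ∧
      ∀ v ∈ [[8], [9], [10], [11]], ev (tup z ψ r a d b x) (appendL w v) = ev _ (appendL v w) :=
    fun w hw => ⟨o.eqOn (h.gr hx) (by revert w; decide +kernel),
      fun v hv => o.eqOn (h.gr hx) (by revert v; revert w; decide +kernel)⟩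
  simp only [ev_app, ev_nil] at c
  obtain ⟨V, hV, rfl⟩ := XG.nf ⟨(c _ (by simp)).1, fun w hw => (c w (by simp [hw])).2 _ (by simp),
    fun w hw => Or.inl (c w (by simp [hw])).1, fun w hw v hv => Or.inl ((c w (by simp [hw])).2 v
      (by simp [hv]))⟩ hl
  rcases (bor_eq _ _).1 ((allL_eq _ _).1 c5 V hV) with e1 | e1
  · exact D.gl _ (mul_mem hδ (genOn_le (fun k hk => low_mem (lt_of_bit 9 hk (by decide)))
      (ev_mem_genOn e1))) e
  exfalso
  obtain ⟨j, hj, e1⟩ := (anyL_eq _ _).1 e1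
  rw [band_eq] at e1
  have m1 := q_mem (z := z) (ψ := ψ) (k := j) (by clear e1; revert j; decide)
  have m2 := D.conj_mem (n hl) m1
  rcases h.cs.xs.conj (eq_inv_of_mul_eq_one_right e ▸ inv_mem (D.fst_mem hδ) :
    (ev (tup z ψ r a d b x) V).1 ∈ O2C z) (h.cs.mem (fv j)) with e2 | e2
  · exact orc.ne e1.1 (by
      simpa [appendL_eq, snd_tup, mul_inv_eq_iff_eq_mul] using congrArg Prod.snd (D.gl.eq m2 m1 e2))
  · exact orc.ne e1.2 (by
      simpa [appendL_eq, snd_tup, mul_inv_eq_iff_eq_mul, ← mul_assoc] using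
        congrArg Prod.snd (D.gl.eq m2 (mul_mem m1 D.mem) e2))

theorem onto (hC : centralizer {z} ≤ C0 z) (x : G) :
    centralizer {z} ≤ (genOn (tup z ψ r a d b x) 262143).map (MonoidHom.fst G Mo) := by
  have w := h.cs.ac_word (ρ := fun k => [r, a, d, b].getD k 1) (Ms := nth i8 [tr 7, tr 3, Md, Mb]) fun k => by
    rcases k with _ | _ | _ | _ | k
    exacts [h.cr, h.ca, h.cd, h.cb, h.cs.ac_of_mem (one_mem _)]
  refine hC.trans (h.cs.C0_le_of ok15 (ρ := fun k => ev (fun k => [r, a, d, b].getD k 1) (nth [] onW k))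
    (fun k => ?_) (fun y hy => ?_) fun k => ev_mem (fun j => ?_) _)
  · by_cases hk : k < 6
    · exact (w _).of_eq8 (c6 k hk)
    · rw [nth_of_le _ onW _ (not_lt.1 hk), Dt.ls, nth_of_le _ _ _ (not_lt.1 hk)]
      exact h.cs.ac_of_mem (one_mem _)
  · obtain ⟨δ, hδ, rfl⟩ := (dl h.cs).exists_of_mem hy
    exact mem_map_fst (genW_le_genOn (by decide +kernel) (genW_Dq.ge hδ))
  · rcases j with _ | _ | _ | _ | j
    exacts [mem_map_fst (mem_genOn (k := 9) (by decide)), mem_map_fst (mem_genOn (k := 10) (by decide)),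
      mem_map_fst (mem_genOn (k := 12) (by decide)), mem_map_fst (mem_genOn (k := 14) (by decide)), one_mem _]

theorem ct {x : G} (hx : x * x = 1) {ts us Us : List (List ℕ)} (e : ctC ts us Us = true) :
    CT (tup z ψ r a d b x) ts us Us := by
  simp only [ctC, band_eq] at e
  obtain ⟨⟨e1, e2⟩, e3, e4⟩ := e
  have o := h.ov hx
  have c := h.cs
  have gr := (h.gr hx).mono (genOn_le (S := 4095) fun k hk =>
    mem_genOn ((testBit_ones 18 k).trans (by simpa using (lt_of_bit 12 hk (by decide)).trans (by decide))))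
  have h0 : ∀ b', anyL (eqL b') ts = true → ev (tup z ψ r a d b x) b' ∈ genW _ ts := fun b hb => by
    obtain ⟨W, h2, h3⟩ := (anyL_eq _ _).1 hb
    rw [eqL_spec h3]; exact mem_genW h2
  have h1 := fun b hb => h0 b ((allL_eq _ _).1 e2 b hb)
  have h2 := genW_le_genOn (x := tup z ψ r a d b x) e1
  have h3 := genW_le fun W hW => h1 W (List.mem_cons_of_mem _ (List.mem_cons_of_mem _ hW))
  refine ⟨gr.mono h2, (h.gl hx).mono h2, h3, fun g hg => ?_⟩
  obtain ⟨M, hM, ac⟩ := c.na g (by simpa [tup] using hg _ (h1 [8] (by simp)))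
    (Or.inl (conj_eq_of_comm (by simpa [tup] using hg _ (h1 [0] (by simp)))))
  obtain ⟨V, hV, rfl⟩ : ∃ V ∈ nfL [8] ([9] :: Ql), (ev (tup z ψ r a d b x) V).1 = g := by
    have := (allL_eq _ _).1 e3 M hM
    simp only [bor_eq, anyL_eq, band_eq] at this
    rcases this with ⟨j, hj, a1, a2⟩ | a1 | a1
    · have := hg _ (h0 [j] ((anyL_eq _ _).2 a1))
      rw [ev_cons, ev_nil, mul_one, tup_q (by clear * - hj; revert j; decide)] at this
      have a3 := (ac.2 _ (fv_lt j)).2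
      rw [conj_eq_of_comm this] at a3
      rw [← c.inj _ (fv_lt j) _ (ac.2 _ (fv_lt j)).1 a3, Nat.beq_refl] at a2
      exact Bool.noConfusion a2
    · obtain ⟨δ, hδ, rfl⟩ := (dl c).exists_of_mem (c.mem_of_ac (ac.of_eq8 a1) app_i8)
      obtain ⟨V, hV, rfl⟩ := nf c r a d b x hδ
      exact ⟨V, nfL_cons _ _ _ ▸ List.mem_append_right _ hV, rfl⟩
    · obtain ⟨δ, hδ, e⟩ := (dl c).exists_of_mem (c.inv_mul_mem h.cr (ac.of_eq8 a1))
      obtain ⟨V, hV, rfl⟩ := nf c r a d b x hδ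
      refine ⟨9 :: V, nfL_cons _ _ _ ▸ List.mem_append_left _ (List.mem_map.2 ⟨V, hV, rfl⟩), ?_⟩
      rw [ev_cons, Prod.fst_mul, e]
      exact mul_inv_cancel_left r g
  have mV := genW_le_genOn (S := 4095) (by decide +kernel) (nfL_mem (x := tup z ψ r a d b x) hV)
  rcases (bor_eq _ _).1 ((allL_eq _ _).1 e4 V hV) with a1 | a1 <;> obtain ⟨U, hU, a2⟩ := (anyL_eq _ _).1 a1
  · exact absurd (hg _ (mem_genW hU)) (o.ncom (h.gl hx) mV (h2 (mem_genW hU)) a2)
  · exact ⟨U, hU, congrArg Prod.fst (o.eq gr mV (h2 (h3 (ev_subst_mem _ _ _))) a2).symm⟩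

end Bs

end Cfsg.Agent.X9.OM
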