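import Cfsg.Agent.X9.OMc

/-! The involution of the conjugate extraspecial group moving `z`, in the case `S₃ × A₅`. -/

set_option autoImplicit false
set_option maxRecDepth 100000

namespace Cfsg.Agent.X9.OM

open Subgroup Cfsg.Agent.TT Cfsg.Agent.LES Cfsg.Agent.XSC Cfsg.Agent.XSC.WC Cfsg.Agent.XW
  Cfsg.Agent.Comp.BN
open Cfsg.Agent.O8C (X Ql Pl Rl duP dl_of_frame frC com_iff allP_of)

variable {G : Type*} [Group G]

structure Xs (z : G) (ψ : ℕ → G) (r a d b x : G) : Prop where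
  xP : x ∈ O2C (ψ 255)
  xx : x * x = 1
  xc : ∀ k ∈ [0, 1, 2, 10, 4, 11], x * (tup z ψ 1 a d b 1 k).1 = (tup z ψ 1 a d b 1 k).1 * x
  xr : x * r = r * x
  xz : x * z ≠ z * x

theorem x1 : band (allL (fun W => comC val W [18]) [[0], [1], [2], [10], [4], [11], [9]])
    (ncomC val [8] [18]) = true := by decide +kernel
theorem x2 : frC val 0 [8, 18, 1, 9, 2, 10, 4, 11] duP = true := by decide +kernel
theorem x3 : ∀ i ∈ Rl, ∀ j ∈ Rl, comC val [i] [j] = true ↔ j ≠ duP i := by decide +kernel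

noncomputable def epsC (g ω : List ℕ) (Us : List (List ℕ)) : Bool :=
  band (band (all2 (fun v U => band (eqOn val 262143 (cj X.I (invW X.I g) [v]) U) (onC 266007 U)) Rl Us)
    (eqOn val 262143 (cj X.I g [0]) [0])) (band (band (onC 266007 ω) (eqC val (cj X.I g [18]) ω))
      (band (eqC val (appendL ω ω) []) (ncomC val ω [8])))

def Kx : List (List ℕ) := [[18, 6, 18, 6, 9], [18, 5, 18, 5, 10, 1], [18, 3, 18, 3, 11, 1], [18, 16, 18, 17]]

theorem sig {e p q u v w s x : G} (f0 : e * x * e⁻¹ = x) (f1 : e * p * e⁻¹ = q)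
    (f2 : e * q * e⁻¹ = q * p) (f3 : e * u * e⁻¹ = v) (f4 : e * v * e⁻¹ = w) (f5 : e * s * e⁻¹ = s)
    (h : p * x * p⁻¹ = x * u * s) : q * x * q⁻¹ = x * v * s ∧ v * s * (q * (u * s) * q⁻¹) = w * s := by
  have k : ∀ {p u p' u'}, p * x * p⁻¹ = x * u * s → e * p * e⁻¹ = p' → e * u * e⁻¹ = u' →
      p' * x * p'⁻¹ = x * u' * s := fun {p u _ _} h a b => by
    rw [← a, ← b]
    calc _ = e * p * e⁻¹ * (e * x * e⁻¹) * (e * p * e⁻¹)⁻¹ := by rw [f0]
      _ = e * (p * x * p⁻¹) * e⁻¹ := by group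
      _ = e * x * e⁻¹ * (e * u * e⁻¹) * (e * s * e⁻¹) := by rw [h]; group
      _ = _ := by rw [f0, f5]
  have h1 := k h f1 f3
  have h2 := k h1 f2 f4
  refine ⟨h1, mul_left_cancel (a := x) ?_⟩
  calc _ = q * x * q⁻¹ * (q * (u * s) * q⁻¹) := by rw [h1]; group
    _ = q * (p * x * p⁻¹) * q⁻¹ := by rw [h]; group
    _ = q * p * x * (q * p)⁻¹ := by group
    _ = _ := by rw [h2, mul_assoc]

namespace Bs

variable [Finite G] {z : G} {ψ : ℕ → G} {r a d b : G} (h : Bs z ψ r a d b)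
include h

theorem mP (x : G) : ∀ k ∈ 0 :: Rl, (tup z ψ r a d b x k).1 ∈ O2C (ψ 255) := by
  have := congrArg Prod.fst ((h.ov (one_mul 1)).eqOn (h.gr (one_mul 1)) (U := [16, 0]) (V := [0, 16])
    (by decide +kernel))
  simp only [ev_cons, ev_nil, mul_one] at this
  simpa [Rl] using ⟨h.pr.hP.z_mem, h.pr.z_mem, fP h.cs 1 (by decide), h.rP, fP h.cs 2 (by decide), h.aP,
    fP h.cs 4 (by decide), h.pr.hP.norm _ this a h.aP⟩

theorem cz {x : G} (hx : x * x = 1) {k : ℕ} (hk : k < 18) :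
    (tup z ψ r a d b x k).1 * z = z * (tup z ψ r a d b x k).1 := (dl h.cs).fst_comm (h.nrm hx hk)

theorem exists_x : ∃ x, Xs z ψ r a d b x := by
  have p := h.pr
  let A := genW (tup z ψ r a d b 1) [[0], [1], [2], [10], [4], [11], [9]]
  have hA : A ≤ genOn (tup z ψ r a d b 1) 4095 := genW_le_genOn (by decide +kernel)
  have mA : ∀ k ∈ [0, 1, 2, 10, 4, 11, 9], (tup z ψ r a d b 1 k).1 ∈ A.map (MonoidHom.fst G Mo) :=
    fun k hk => mem_map_fst (by
      simpa using mem_genW (x := tup z ψ r a d b 1) (W := [k]) (by revert k; decide))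
  obtain ⟨y, hy, h1, h2⟩ := p.hP.toXS.exists_comm_not_comm (A := A.map (MonoidHom.fst G Mo))
    (map_le_iff_le_comap.2 (genW_le fun W hW => ev_mem_of fun k hk => h.mP 1 k (by revert k W; decide)))
    (mA 0 (by simp)) p.z_mem (by
      rintro ⟨γ, hγ, e⟩
      have e1 : γ = tup z ψ r a d b 1 8 := (h.gl (one_mul 1)).eq (hA hγ) (mem_genOn (by decide)) e
      have := comm_genW (g := (1, m 18)) (fun W hW => Prod.ext (by simp) (by
        simpa [appendL_eq, snd_tup] using orc.eq ((allL_eq _ _).1 ((band_eq _ _).1 x1).1 W hW))) hγ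
      exact orc.ne ((band_eq _ _).1 x1).2 (by simpa [e1, appendL_eq, tup] using congrArg Prod.snd this))
  have key : ∀ y ∈ O2C (ψ 255), y * y = 1 → y * z ≠ z * y → (∀ k ∈ [0, 1, 2, 10, 4, 11, 9],
      y * (tup z ψ r a d b 1 k).1 = (tup z ψ r a d b 1 k).1 * y) → Xs z ψ r a d b y := fun y a1 a2 a3 a4 =>
    ⟨a1, a2, by
      simp only [List.forall_mem_cons] at a4 ⊢
      exact ⟨a4.1, a4.2.1, a4.2.2.1, a4.2.2.2.1, a4.2.2.2.2.1, a4.2.2.2.2.2.1, by simp⟩,
      a4 9 (by simp), a3⟩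
  rcases p.hP.toXS.sq hy with e | e
  · exact ⟨y, key y hy e h2 fun k hk => (h1 _ (mA k hk)).symm⟩
  · refine ⟨y * z, key _ (mul_mem hy p.z_mem) ?_ (fun e1 => h2 ?_) fun k hk =>
      comm_mul_left (h1 _ (mA k hk)).symm (h.cz (one_mul 1) (by revert k; decide)).symm⟩
    · nth_rewrite 2 [p.hP.toXS.comm_of_ne hy p.z_mem h2]
      calc y * z * (z * y * ψ 255) = y * (z * z) * y * ψ 255 := by group
        _ = 1 := by rw [p.hQ.z_sq, mul_one, e, p.hP.z_sq]
    · rw [← mul_assoc z] at e1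
      exact mul_right_cancel e1

variable {x : G} (hx : Xs z ψ r a d b x)
include hx

omit [Finite G] h in
theorem k1 : ∀ j ∈ [8, 18, 1, 9, 2, 10, 4, 11],
    (x * (tup z ψ r a d b x j).1 = (tup z ψ r a d b x j).1 * x ↔ j ≠ 8) := by
  simpa using ⟨hx.xz, rfl, hx.xc 1 (by simp), hx.xr, hx.xc 2 (by simp), hx.xc 10 (by simp),
    hx.xc 4 (by simp), hx.xc 11 (by simp)⟩

theorem dlP : Dl (O2C (ψ 255)) (ψ 255) (genW (tup z ψ r a d b x) ([0] :: Pl)) (tup z ψ r a d b x 0) := by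
  have o := h.ov hx.xx
  have k1 := k1 hx
  have gr := (h.gr hx.xx).mono (genOn_le (S := 4095) fun k hk =>
    mem_genOn ((testBit_ones 18 k).trans (by simpa using (lt_of_bit 12 hk (by decide)).trans (by decide))))
  have mR : ∀ j ∈ Rl, tup z ψ r a d b x j ∈ genOn _ 4095 := fun j hj => mem_genOn (by revert j; decide)
  refine (dl_of_frame h.pr.hP o.snd orc (c := 0) rfl (ls := [8, 18, 1, 9, 2, 10, 4, 11]) (du := duP)
    (fun i hi => ⟨?_, ?_⟩) (fun a ha b hb => ?_) (by decide) (h.cs.fp ok15).ht.card x2 (l := Pl) rfl).1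
  · by_cases e : i = 18
    · rw [e]; exact hx.xP
    · exact h.mP x i (by clear * - hi e; revert i; decide)
  · have := congrArg Prod.fst (o.inv i)
    rwa [show X.I i = i by clear * - hi; revert i; decide +kernel] at this
  by_cases e1 : a = 18
  · rw [e1]; exact k1 b hb
  by_cases e2 : b = 18
  · rw [e2, eq_comm]
    exact (k1 a ha).trans (by clear * - ha; revert a; decide)
  have ha' : a ∈ Rl := by clear * - ha e1; revert a; decide
  have hb' : b ∈ Rl := by clear * - hb e2; revert b; decide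
  rw [com_iff gr (h.gl hx.xx) (mR a ha') (mR b hb'), ← x3 a ha' b hb', comC, orc.eq_iff]
  simp [appendL_eq, o.snd]

omit [Finite G] h hx in
theorem leP : genOn (tup z ψ r a d b x) 266007 ≤ genW (tup z ψ r a d b x) ([0] :: Pl) :=
  genOn_le fun k hk => by
    simpa using mem_genW (x := tup z ψ r a d b x) (W := [k]) (ws := [0] :: Pl)
      ((by decide : ∀ k < 19, Nat.testBit 266007 k = true → [k] ∈ [0] :: Pl) k
        (lt_of_bit 19 hk (by decide)) hk)

theorem eps {g ω : List ℕ} {Us : List (List ℕ)} (c : epsC g ω Us = true) :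
    Eqv (ψ 255) ((ev (tup z ψ r a d b x) g).1 * x * (ev (tup z ψ r a d b x) g).1⁻¹)
      (ev (tup z ψ r a d b x) ω).1 := by
  simp only [epsC, band_eq] at c
  obtain ⟨⟨a1, a2⟩, ⟨a3, a4⟩, a5, a6⟩ := c
  have o := h.ov hx.xx
  have p := h.pr
  have dl := h.dlP hx
  have gr := h.gr hx.xx
  have cz := fun k hk => h.cz hx.xx (k := k) hk
  have mP : ∀ j ∈ 18 :: Rl, tup z ψ r a d b x j ∈ genW _ ([0] :: Pl) := fun j hj =>
    leP (mem_genOn (by clear * - hj; revert j; decide))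
  have hw := leP (ev_mem_genOn (x := tup z ψ r a d b x) a3)
  set t := tup z ψ r a d b x
  have gs := congrArg Prod.fst (o.eqOn gr a2)
  have b5 := o.snd_eq a4
  have ww := congrArg Prod.fst (o.eq dl.gr (by rw [ev_app]; exact mul_mem hw hw) (one_mem _) (V := []) a5)
  have wz := o.ncom dl.gl hw (by simpa using mP 8 (by decide)) a6
  simp only [ev_cj o.inv, ev_app, ev_cons, ev_nil, mul_one, Prod.fst_mul, Prod.fst_inv, Prod.snd_mul,
    Prod.snd_inv, Prod.fst_one] at gs b5 ww wz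
  have yP := p.hP.norm _ (comm_of_conj_eq gs) x hx.xP
  have wP := dl.fst_mem hw
  have yy : (ev t g).1 * x * (ev t g).1⁻¹ * ((ev t g).1 * x * (ev t g).1⁻¹) = 1 := by
    rw [conj_mul, hx.xx]; group
  have k2 : ∀ v ∈ Rl, (t v).1 * ((ev t ω).1 * ((ev t g).1 * x * (ev t g).1⁻¹)) =
      (ev t ω).1 * ((ev t g).1 * x * (ev t g).1⁻¹) * (t v).1 := by
    intro v hv
    obtain ⟨U, b⟩ := all2_spec a1 v hv
    rw [band_eq] at b
    have vm := mP v (by simp [hv])
    have b3 := com_iff dl.gr dl.gl (mP 18 (by simp)) (leP (ev_mem_genOn b.2))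
    rw [← o.eqOn gr b.1, ← comm_conj_iff (ev t g).1, ← comm_conj_iff (ev t g).2, b5] at b3
    simp only [ev_cj o.inv, o.ev_inv, ev_cons, ev_nil, mul_one, Prod.fst_mul, Prod.fst_inv, Prod.snd_mul,
      Prod.snd_inv, inv_inv, mul_assoc, mul_inv_cancel_left, mul_inv_cancel] at b3
    rw [← com_iff dl.gr dl.gl hw vm] at b3
    rw [eq_comm, ← cmv_eq_zero, cmv_mul_left p.hP.toXS wP yP (dl.fst_mem vm),
      cmv_congr (x := _ * x * _) (by simp only [mul_assoc]; exact b3)]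
    exact CharTwo.add_self_eq_zero _
  have k3 : ∀ u ∈ O2C (ψ 255), (∀ v ∈ Rl, (t v).1 * u = u * (t v).1) → u * x = x * u →
      u = 1 ∨ u = ψ 255 := by
    refine fun u hu h1 h2 => p.hP.cent u hu fun y hy => (comm_genW (x := fun k => (t k).1)
      (ws := [0] :: Pl) ?_ (by rw [← dl.map, map_genW] at hy; exact hy)).symm
    simp only [Rl, List.forall_mem_cons] at h1
    simpa [Pl] using ⟨(p.hP.z_comm u hu).symm, h1.1, h2.symm, h1.2.1, h1.2.2.1, h1.2.2.2.1,
      h1.2.2.2.2.1, h1.2.2.2.2.2.1, h1.2.2.2.2.2.2.1⟩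
  have uP := mul_mem wP yP
  change _ * z ≠ z * _ at wz
  generalize (ev t g).1 * x * (ev t g).1⁻¹ = y at *
  generalize (ev t ω).1 = w at *
  obtain ⟨u, rfl⟩ : ∃ u, y = w * u := ⟨_, (mul_inv_cancel_left _ _).symm⟩
  rw [← mul_assoc, ww, one_mul] at k2 uP
  by_cases e : u * x = x * u
  · rcases k3 _ uP k2 e with e | e <;> rw [e]
    exacts [Or.inl (mul_one _), Or.inr rfl]
  have zz := p.hQ.z_sq
  have e1 := k3 _ (mul_mem uP p.z_mem) (fun v hv => (comm_mul_left (k2 v hv).symm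
    (cz v (by clear * - hv; revert v; decide)).symm).symm)
    (p.hP.toXS.mul_comm_of_not_comm hx.xP uP p.z_mem e hx.xz.symm)
  refine absurd ((eq_inv_of_mul_eq_one_left (?_ : w * z * (w * z) = 1)).trans ?_) wz
  · obtain ⟨c, rfl⟩ : ∃ c, u = c * z := ⟨u * z, by rw [mul_assoc, zz, mul_one]⟩
    rw [mul_assoc, zz, mul_one] at e1
    rcases e1 with rfl | rfl
    · simpa using yy
    · rw [p.sz, ← mul_assoc w z, ← mul_assoc, mul_assoc (w * z), ← p.hP.z_comm _ (mul_mem wP p.z_mem),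
        ← mul_assoc, p.hP.toXS.mul_z_z] at yy
      exact yy
  · rw [mul_inv_rev, inv_eq_of_mul_eq_one_right zz, inv_eq_of_mul_eq_one_right ww]

theorem twist : ∃ r x, Bs z ψ r a d b ∧ Xs z ψ r a d b x ∧ ψ 36 * x * (ψ 36)⁻¹ = x * r := by
  have e := h.eps hx (g := [6]) (ω := [18, 9]) (Us := [[8], [8, 1], [9], [2], [0, 10, 4], [4], [0, 2, 11]])
    (by decide +kernel)
  simp only [ev_cons, ev_nil, mul_one] at e
  rcases e with e | e
  · exact ⟨r, x, h, hx, e⟩
  change ψ 36 * x * (ψ 36)⁻¹ = x * r * ψ 255 at e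
  have f := fun U V e => congrArg Prod.fst ((h.ov (one_mul 1)).eqOn (h.gr (one_mul 1)) (U := U) (V := V) e)
  have f1 : ψ 105 * (r * 1) = r * (ψ 105 * (ψ 255 * 1)) := f [1, 9] [9, 1, 0] (by decide +kernel)
  have f2 : ψ 36 * (ψ 105 * 1) = ψ 105 * (z * (ψ 36 * 1)) := f [6, 1] [1, 8, 6] (by decide +kernel)
  have f3 : ψ 105 * (ψ 105 * 1) = 1 := f [1, 1] [] (by decide +kernel)
  have f4 : ψ 105 * (ψ 255 * 1) = ψ 255 * (ψ 105 * 1) := f [1, 0] [0, 1] (by decide +kernel)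
  simp only [mul_one] at f1 f2 f3 f4
  have p := h.pr
  have qz := h.cs.xs.z_comm _ (h.cs.mem 105)
  have xq : x * ψ 105 = ψ 105 * x := hx.xc 1 (by simp)
  have k : x * ψ 105 * (r * z) = x * r * ψ 255 * (ψ 105 * z) := by
    rw [mul_assoc, ← mul_assoc (ψ 105), f1, f4]; group
  refine ⟨r * z, x * ψ 105, { h with
      nr := by simpa using mul_mem h.nr (dl h.cs).z1_mem
      rP := mul_mem h.rP p.z_mem
      cr := acQ h.cs h.cr h.cs.xs.z_mem },
    ⟨mul_mem hx.xP (fP h.cs 1 (by decide)), ?_, fun k hk => comm_mul_left (hx.xc k hk) ?_, ?_,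
      fun e => hx.xz ?_⟩, ?_⟩
  · rw [mul_assoc, ← mul_assoc (ψ 105), ← xq, mul_assoc, f3, mul_one, hx.xx]
  · have := f [1, k] [k, 1] (by clear * - hk; revert k; decide +kernel)
    simp only [ev_cons, ev_nil, mul_one, List.mem_cons, List.not_mem_nil, or_false] at this hk
    rcases hk with rfl | rfl | rfl | rfl | rfl | rfl <;> exact this
  · rw [k, hx.xr, qz, mul_assoc r z, ← mul_assoc z, p.hP.toXS.comm_of_ne p.z_mem hx.xP hx.xz.symm,
      mul_assoc x z, ← p.sz]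
    group
  · rw [mul_assoc, qz, ← mul_assoc, ← mul_assoc] at e
    exact mul_right_cancel e
  · rw [k, ← e, ← conj_mul, f2]; group

theorem kx (h6 : ψ 36 * x * (ψ 36)⁻¹ = x * r) : ∀ W ∈ Kx, ev (tup z ψ r a d b x) W = 1 := by
  have o := h.ov hx.xx
  have e5 := h.eps hx (g := [5]) (ω := [18, 1, 10])
    (Us := [[8], [1], [8, 9, 4], [8, 2], [10], [4], [1, 11]]) (by decide +kernel)
  have e16 := h.eps hx (g := [16]) (ω := [18]) (Us := [[8], [1], [9], [4], [10, 11], [2, 4], [10]])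
    (by decide +kernel)
  have f := fun U V e => congrArg Prod.fst (o.eqOn (h.gr hx.xx) (U := U) (V := V) e)
  have g := fun U V e => f (cj X.I [16] U) V e
  have n := o.ne (h.gl hx.xx) (U := appendL [1, 11, 0] (cj X.I [3] [1, 10, 0])) (V := [1, 10, 11, 0])
    (ev_mem_genOn (by decide +kernel)) (ev_mem_genOn (by decide +kernel)) (by decide +kernel)
  have i := fun k => congrArg Prod.fst (o.inv k)
  have f0 := f [16, 16, 16] [] (by decide +kernel)
  have f1 := g [5] [3] (by decide +kernel)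
  have f2 := g [3] [3, 5] (by decide +kernel)
  have f3 := g [1, 10] [1, 11] (by decide +kernel)
  have f4 := g [1, 11] [1, 10, 11] (by decide +kernel)
  have f5 := g [0] [0] (by decide +kernel)
  set t := tup z ψ r a d b x
  simp only [ev_cj o.inv, ev_app, ev_cons, ev_nil, mul_one, Prod.fst_mul, Prod.fst_inv, Prod.fst_one]
    at e5 e16 f0 f1 f2 f3 f4 f5 n
  change Eqv (t 0).1 (_ * x * _) x at e16
  change Eqv (t 0).1 (_ * x * _) (x * _) at e5
  have e : (t 16).1 * x * (t 16).1⁻¹ = x := e16.resolve_right fun e => by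
    have e1 : (t 16).1 * ((t 16).1 * x * (t 16).1⁻¹) * (t 16).1⁻¹ = x := by
      rw [e, ← conj_mul, e, f5]; exact h.pr.hP.toXS.mul_z_z x
    have e2 : (t 16).1 * ((t 16).1 * ((t 16).1 * x * (t 16).1⁻¹) * (t 16).1⁻¹) * (t 16).1⁻¹ = x := by
      calc _ = (t 16).1 * ((t 16).1 * (t 16).1) * x * ((t 16).1 * ((t 16).1 * (t 16).1))⁻¹ := by group
        _ = x := by rw [f0]; group
    rw [e1, e] at e2
    exact h.pr.hP.z_ne (mul_eq_left.1 e2)
  replace e5 := e5.resolve_right fun e5 => n (by simpa only [mul_assoc] using (sig e f1 f2 f3 f4 f5 e5).2)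
  have e3 := (sig (s := 1) e f1 f2 f3 f4 (by simp) (by rwa [mul_one])).1
  have k : ∀ {p u v : G}, p * p = 1 → u * u = 1 → v * v = 1 → p * x * p⁻¹ = x * (v * u) →
      x * (p * (x * (p * (u * (v * 1))))) = 1 := fun {p u v} a1 a2 a3 a4 => by
    rw [inv_eq_of_mul_eq_one_right a1] at a4
    calc _ = x * (p * x * p) * u * v := by group
      _ = x * x * (v * (u * u) * v) := by rw [a4]; group
      _ = 1 := by rw [hx.xx, a2, mul_one, a3, mul_one]
  simp only [Kx, List.forall_mem_cons]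
  refine ⟨Prod.ext ?_ (o.snd_eq (V := []) (by decide +kernel)),
    Prod.ext (k (i 5) (i 10) (i 1) e5) (o.snd_eq (V := []) (by decide +kernel)),
    Prod.ext (k (i 3) (i 11) (i 1) (mul_one (x * _) ▸ e3)) (o.snd_eq (V := []) (by decide +kernel)),
    Prod.ext ?_ (o.snd_eq (V := []) (by decide +kernel)), by simp⟩
  · have := k (p := ψ 36) (i 6) h.rr (one_mul 1) (h6.trans (by rw [one_mul]))
    rwa [one_mul] at this
  · change x * ((t 16).1 * (x * ((t 16).1⁻¹ * 1))) = 1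
    rw [mul_one, ← mul_assoc (t 16).1, e, hx.xx]

end Bs

end Cfsg.Agent.X9.OM
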