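import Cfsg.Agent.X9.OPB

/-!
# The embedding of `Ω₈⁺(2)` when `C(z)/Q` has no long root element
-/

set_option autoImplicit false
set_option maxRecDepth 100000

namespace Cfsg.Agent.O8C.Gn

open Subgroup Cfsg.Agent.TT Cfsg.Agent.LES Cfsg.Agent.XSC Cfsg.Agent.Comp.BN

variable {G : Type*} [Group G]

/-- `C(z)/Q` contains no long root element -/
def RQ (Q : Subgroup G) (z : G) : Prop := ∀ g a b, g * z = z * g → a ∈ Q → b ∈ Q → a * a = 1 →
  b * b = 1 → a * b = b * a → (∀ x ∈ Q, x * a = a * x → x * b = b * x → Eqv z (g * x * g⁻¹) x) → g ∈ Q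

noncomputable def ctC (a b : ℕ) (ts us Us : List (List ℕ)) : Bool :=
  band (band (band (allL (onC 262143) ts) (allL (fun u => anyL (eqL u) ts) ([8] :: us)))
    (band (band (Nat.blt a 8) (Nat.blt b 8)) (comC val [a] [b])))
    (allL (fun V => band (onC 511 V) (band
      (bor (ncomC val V [a]) (bor (ncomC val V [b]) (allL (fun c => anyL (eqL [c]) ts) V)))
      (bor (anyL (ncomC val V) ts) (anyL (fun U => eqC val V (subst us U)) Us)))) (nfL [8] Ql))

theorem Bs.ct [Finite G] {Q P : Subgroup G} {z : G} {q : ℕ → G} {r d : Fin 3 → G}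
    (h : Bs Q P z q r d) (r2 : RQ Q z) {x : G} (hx : x * x = 1) {a b : ℕ} {ts us Us : List (List ℕ)}
    (e : ctC a b ts us Us = true) : CT (tup z q r d x) ts us Us := by
  have c := h.co x
  have o := h.ov hx
  simp only [ctC, band_eq, bor_eq, Nat.blt_eq] at e
  obtain ⟨⟨⟨e1, e2⟩, ⟨ha, hb⟩, e3⟩, e4⟩ := e
  have nf : ∀ g ∈ Q, ∃ V ∈ nfL [8] Ql, (ev (tup z q r d x) V).1 = g := fun g hg => by
    obtain ⟨δ, hδ, rfl⟩ := h.dl.exists_of_mem hg
    obtain ⟨V, hV, rfl⟩ := h.xg.nf hδ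
    refine ⟨V, hV, congrArg Prod.fst (ev_low fun k hk => ?_)⟩
    have := (allL_eq _ _).1 ((allL_eq _ _).1 k2 V hV) k hk
    rw [tb_eq] at this
    simpa using (testBit_ones 9 k).symm.trans this
  have mQ : ∀ k < 8, q k ∈ Q := fun k hk => by
    have := h.dl.fst_mem (low_mem (r := r) (d := d) (x := x) (W := [k]) (by simpa using hk.trans (by decide)))
    simpa [tup_q hk] using this
  have tq : ∀ k < 8, (ev (tup z q r d x) [k]).1 = q k := fun k hk => by simp [tup_q hk]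
  have t8 : (ev (tup z q r d x) [8]).1 = z := mul_one _
  generalize tup z q r d x = t at *
  have h1 : ∀ {l : List (List ℕ)}, allL (fun u => anyL (eqL u) ts) l = true → ∀ u ∈ l,
      ev t u ∈ genW t ts := fun e u hu => by
    obtain ⟨W, h2, h3⟩ := (anyL_eq _ _).1 ((allL_eq _ _).1 e u hu)
    rw [eqL_spec h3]; exact mem_genW h2
  have h2 := genW_le_genOn (x := t) e1
  have on : ∀ V, onC 511 V = true → ev t V ∈ genOn t 262143 := fun V hV =>
    (genOn_le fun k hk => mem_genOn (by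
      have : k < 9 := by simpa using (testBit_ones 9 k).symm.trans hk
      interval_cases k <;> decide) : genOn t 511 ≤ _) (ev_mem_genOn hV)
  have on1 : ∀ k < 8, ev t [k] ∈ genOn t 262143 := fun k hk => on _ (by
    interval_cases k <;> decide +kernel)
  have nc : ∀ {V W}, ev t V ∈ genOn t 262143 → ev t W ∈ genOn t 262143 → ncomC val V W = true →
      (ev t V).1 * (ev t W).1 ≠ (ev t W).1 * (ev t V).1 := fun h1 h2 e e' => by
    refine o.ne c.gl ?_ ?_ e (by simpa [ev_app] using e') <;> rw [ev_app]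
    exacts [mul_mem h1 h2, mul_mem h2 h1]
  have h3 : genW t us ≤ genW t ts := genW_le fun W hW => h1 e2 W (List.mem_cons_of_mem _ hW)
  refine ⟨c.gr.mono h2, c.gl.mono h2, h3, fun g hg => ?_⟩
  have gz : g * z = z * g := t8 ▸ hg _ (h1 e2 _ List.mem_cons_self)
  obtain ⟨V, hV, rfl⟩ := nf g (r2 g (q a) (q b) gz (mQ a ha) (mQ b hb) (h.qq a) (h.qq b) (by
    have := congrArg Prod.fst (o.eq c.gr (U := appendL [a] [b]) (V := appendL [b] [a])
      (by rw [ev_app]; exact mul_mem (on1 a ha) (on1 b hb))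
      (by rw [ev_app]; exact mul_mem (on1 b hb) (on1 a ha)) e3)
    rwa [ev_app, ev_app, Prod.fst_mul, Prod.fst_mul, tq a ha, tq b hb] at this) fun y hy ya yb => by
      obtain ⟨V, hV, rfl⟩ := nf y hy
      have e5 := (allL_eq _ _).1 e4 V hV
      simp only [band_eq, bor_eq] at e5
      rcases e5.2.1 with e6 | e6 | e6
      · exact absurd (tq a ha ▸ ya) (nc (on V e5.1) (on1 a ha) e6)
      · exact absurd (tq b hb ▸ yb) (nc (on V e5.1) (on1 b hb) e6)
      refine Or.inl (conj_eq_of_comm (hg _ (ev_mem_of fun k hk => ?_)))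
      obtain ⟨W, h2, h3⟩ := (anyL_eq _ _).1 ((allL_eq _ _).1 e6 k hk)
      simpa [← eqL_spec h3] using mem_genW (x := t) h2)
  have e5 := (allL_eq _ _).1 e4 V hV
  simp only [band_eq, bor_eq, anyL_eq] at e5
  rcases e5.2.2 with ⟨W, hW, e6⟩ | ⟨U, hU, e6⟩
  · exact absurd (hg _ (mem_genW hW)) (nc (on V e5.1) (h2 (mem_genW hW)) e6)
  · exact ⟨U, hU, congrArg Prod.fst
      (o.eq c.gr (on V e5.1) (h2 (h3 (ev_subst_mem t us U))) e6).symm⟩

/-- known graphs and relators -/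
structure StB (z : G) (t : ℕ → G × Mo) (Ss : List ℕ) (Ks : List (List ℕ)) : Prop where
  st : St t m val X.I Ss Ks
  gr : Gr (genOn t 262143)
  ct : ∀ {a b : ℕ} {ts us Us : List (List ℕ)}, ctC a b ts us Us = true → CT t ts us Us

theorem ctV : ctC 0 0 [[8], [0], [1], [2], [4], [3], [5], [6], [9], [10], [11]] [[8], [0]]
    [[], [1, 0], [1], [0]] = true := by decide +kernel

theorem ct0 : ctC 0 1 [[8], [0], [1], [2], [3], [4], [5], [10], [11]] [[8], [0], [1]]
    [[], [2, 0], [1, 0], [2, 1], [2, 1, 0], [1], [2], [0]] = true := by decide +kernel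

theorem ct1 : ctC 0 2 [[8], [0], [2], [1], [3], [4], [6], [9], [11]] [[8], [0], [2]]
    [[], [2, 0], [1, 0], [2, 1], [2, 1, 0], [1], [2], [0]] = true := by decide +kernel

theorem ct2 : ctC 0 4 [[8], [0], [4], [1], [2], [5], [6], [9], [10]] [[8], [0], [4]]
    [[], [2, 0], [1, 0], [2, 1], [2, 1, 0], [1], [2], [0]] = true := by decide +kernel

section
variable [Finite G] {z : G} {t : ℕ → G × Mo}

theorem stV (h : StB z t [262143] Kx) : StB z t [266239, 262143] [] := by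
  have o := h.st
  have ct := h.ct ctV
  have o1 := o.addK (ct.fpf o.toOv (normD_spec o v2) [0, 1] 3 (by decide +kernel))
  have o0 : St t m val X.I [] [] := ⟨o.toOv, trivial, trivial⟩
  exact ⟨⟨o.toOv, ⟨(o.toOv.step AV.done (o1.sat v3) h.gr AV_l v4).mono (o0.le_genW v5), o.gr⟩,
    trivial⟩, h.gr, h.ct⟩

theorem stL0 (h : StB z t [266239, 262143] []) : Gr (genOn t 275072) := by
  have o := h.st
  have ct := h.ct ct0
  have hn := o.norm l2_0
  have o1 := (o.addK (ct.fpf o.toOv hn [0, 1, 3, 2] 7 (by decide +kernel))).addK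
    (ct.pow o.toOv hn (k := 2) (by decide +kernel) [1, 2, 3, 1, 2, 3, 2, 1, 3] (by decide +kernel))
  have o0 : St t m val X.I [262143] [] := ⟨o.toOv, o.gr.2, trivial⟩
  exact (o.toOv.step AL.done (o1.sat l3_0) h.gr AL_l l4_0).mono (o0.le_genW l5_0)

theorem stL1 (h : StB z t [266239, 262143] []) : Gr (genOn t 312448) := by
  have o := h.st
  have ct := h.ct ct1
  have hn := o.norm l2_1
  have o1 := (o.addK (ct.fpf o.toOv hn [0, 1, 3, 2] 7 (by decide +kernel))).addK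
    (ct.pow o.toOv hn (k := 2) (by decide +kernel) [1, 2, 3, 1, 2, 3, 2, 1, 3] (by decide +kernel))
  have o0 : St t m val X.I [262143] [] := ⟨o.toOv, o.gr.2, trivial⟩
  exact (o.toOv.step AL.done (o1.sat l3_1) h.gr AL_l l4_1).mono (o0.le_genW l5_1)

theorem stL2 (h : StB z t [266239, 262143] []) : Gr (genOn t 460928) := by
  have o := h.st
  have ct := h.ct ct2
  have hn := o.norm l2_2
  have o1 := (o.addK (ct.fpf o.toOv hn [0, 1, 3, 2] 7 (by decide +kernel))).addK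
    (ct.pow o.toOv hn (k := 2) (by decide +kernel) [1, 2, 3, 1, 2, 3, 2, 1, 3] (by decide +kernel))
  have o0 : St t m val X.I [262143] [] := ⟨o.toOv, o.gr.2, trivial⟩
  exact (o.toOv.step AL.done (o1.sat l3_2) h.gr AL_l l4_2).mono (o0.le_genW l5_2)

theorem stF (h : StB z t [262143] Kx) : Gr (genW t wsF) ∧ genOn t 262143 ≤ genW t wsF := by
  have h1 := stV h
  have o1 := ((h1.st.addS (stL0 h1)).addS (stL1 h1)).addS (stL2 h1)
  have o0 : St t m val X.I [262143] [] := ⟨h.st.toOv, h.st.gr, trivial⟩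
  exact ⟨h.st.toOv.step AF.done (o1.sat f3) h.gr AF_l f4, o0.le_genW f5⟩

end

variable [Finite G] {Q P : Subgroup G} {z x : G} {q : ℕ → G} {r d : Fin 3 → G}

theorem Bs.stB (h : Bs Q P z q r d) (r2 : RQ Q z) (hx : Xs P z q r x)
    (hk : ∀ i : Fin 3, q (7 - 2 ^ (i : ℕ)) * x * (q (7 - 2 ^ (i : ℕ)))⁻¹ = x * r i) :
    StB z (tup z q r d x) [262143] Kx := by
  have o := h.ov hx.xx
  have rr : ∀ i, r i * r i = 1 := fun i => congrArg Prod.fst (h.rr i)
  have a : ∀ b, x * b = b * x → b * b = 1 → x * (b * (x * b)) = 1 := fun b e e' => by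
    rw [e, ← mul_assoc b, e', one_mul, hx.xx]
  have c : ∀ i : Fin 3, x * (q (7 - 2 ^ (i : ℕ)) * (x * (q (7 - 2 ^ (i : ℕ)) * r i))) = 1 := fun i => by
    have := hk i
    rw [inv_eq_of_mul_eq_one_right (h.qq _)] at this
    rw [← mul_assoc x (q _) (r i), ← mul_assoc (q _), ← mul_assoc (q _), this, mul_assoc, rr, mul_one,
      hx.xx]
  have k : ∀ W ∈ Kx, (ev (tup z q r d x) W).1 = 1 := by
    simp only [Kx, List.forall_mem_cons, ev_cons, ev_nil, mul_one, Prod.fst_mul]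
    refine ⟨a _ (h.pr.hP.z_comm x hx.xP) (h.qq 0), a _ (hx.xf 0) (h.qq _), a _ (hx.xf 1) (h.qq _),
      a _ (hx.xf 2) (h.qq _), a _ (hx.xr 0) (rr 0), a _ (hx.xr 1) (rr 1), a _ (hx.xr 2) (rr 2), ?_,
      c 0, c 1, c 2, by simp⟩
    change x * (z * (x * (q 0 * z))) = 1
    rw [← mul_assoc x (q 0), ← mul_assoc z, ← mul_assoc z,
      ← h.pr.hP.toXS.comm_of_ne hx.xP h.pr.z_mem hx.xz, mul_assoc x z, h.pr.hQ.z_sq, mul_one, hx.xx]
  exact ⟨⟨o, ⟨(h.co x).gr, trivial⟩, allP_of fun W hW =>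
    Prod.ext (k W hW) (o.snd_eq ((allL_eq _ _).1 k1 W hW))⟩, (h.co x).gr, fun e => h.ct r2 hx.xx e⟩

/-- the embedding determined by the letters -/
theorem Bs.theta (h : Bs Q P z q r d) (r2 : RQ Q z) (hx : Xs P z q r x)
    (hk : ∀ i : Fin 3, q (7 - 2 ^ (i : ℕ)) * x * (q (7 - 2 ^ (i : ℕ)))⁻¹ = x * r i) :
    ∃ θ : Mo →* G, Function.Injective θ ∧ (∀ k, θ (m k) = (tup z q r d x k).1) ∧
      Q ≤ θ.range ∧ P ≤ θ.range := by
  have s := h.stB r2 hx hk
  obtain ⟨h1, h2⟩ := stF s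
  have o := s.st.toOv
  have dP := h.dlP hx
  have dQ : Dl Q z (genW (tup z q r d x) ([8] :: Ql)) (z, m 8) := by rw [genW_Dq]; exact h.dl
  have t8 : (tup z q r d x 8).1 = z := rfl
  have out : ∀ k, 19 ≤ k → tup z q r d x k = 1 := fun k hk => Prod.ext (by
    simp [tup, show ¬ k < 8 by omega, show ¬ k = 8 by omega, show ¬ k < 12 by omega,
      show ¬ k < 18 by omega, show ¬ k = 18 by omega]) (by
    change m k = 1
    rw [m, cut_le _ hk])
  generalize tup z q r d x = t at *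
  have h4 : ∀ k, t k ∈ genW t wsF := fun k => by
    by_cases hk : k < 18
    · exact h2 (mem_genOn ((testBit_ones 18 k).trans (by simpa using hk)))
    by_cases hk' : k = 18
    · simpa [hk'] using mem_genW (x := t) (ws := wsF) (W := [18]) (by decide)
    · rw [out k (by omega)]; exact one_mem _
  have h3 : (genW t wsF).map (MonoidHom.snd G Mo) = ⊤ := eq_top_of fun k => ⟨_, h4 k, o.snd k⟩
  obtain ⟨θ, hθ⟩ := h1.exists_hom (MonoidHom.id Mo) fun a => mem_map.1 (h3 ▸ mem_top a)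
  have k1 : ∀ k, θ (m k) = (t k).1 := fun k =>
    congrArg Prod.fst (h1.eq (hθ (m k)) (h4 k) (o.snd k).symm)
  have k2 : ∀ ws, (genW t ws).map (MonoidHom.fst G Mo) ≤ θ.range := fun ws =>
    map_le_iff_le_comap.2 (genW_le fun W _ => ev_mem_of fun k _ => ⟨m k, k1 k⟩)
  refine ⟨θ, ?_, k1, dQ.map ▸ k2 _, dP.map ▸ k2 _⟩
  rcases θ.normal_ker.eq_bot_or_eq_top with e | e
  · exact (MonoidHom.ker_eq_bot_iff θ).1 e
  · exact absurd (t8 ▸ k1 8 ▸ MonoidHom.mem_ker.1 (e ▸ mem_top _)) h.pr.hQ.z_ne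

/-- the embedding attached to a frame -/
theorem Fm.theta {a : Fin 3 → G} (f : Fm Q P z q a d) (r2 : RQ Q z) :
    ∃ (θ : Mo →* G) (r d' : Fin 3 → G) (x : G), Function.Injective θ ∧ Bs Q P z q r d' ∧
      Xs P z q r x ∧ (∀ k, θ (m k) = (tup z q r d' x k).1) ∧ Q ≤ θ.range ∧ P ≤ θ.range ∧
      (∀ i, (a i)⁻¹ * r i ∈ Q) ∧ ∀ i, (d i)⁻¹ * d' i ∈ Q := by
  obtain ⟨r0, d', h0, e1, e2⟩ := f.exists_bs
  obtain ⟨r, x, h, hx, hk, e3⟩ := h0.twist
  obtain ⟨θ, h1, h2, h3, h4⟩ := h.theta r2 hx hk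
  exact ⟨θ, r, d', x, h1, h, hx, h2, h3, h4, fun i => by
    simpa [mul_assoc] using mul_mem (e1 i) (e3 i), e2⟩

end Cfsg.Agent.O8C.Gn
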