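import Cfsg.Agent.O8C.StepF

/-!
# The graph over `⟨Q, rᵢ, dᵢ⟩` (version of O8C without any hypothesis on `C(z)/Q`)
-/

set_option autoImplicit false
set_option maxRecDepth 100000

namespace Cfsg.Agent.O8C.Gn

open Subgroup Cfsg.Agent.TT Cfsg.Agent.LES Cfsg.Agent.XSC Cfsg.Agent.Comp.BN

variable {G : Type*} [Group G]

/-- a frame of `Q` with three involutions of `P` and three elements acting with order three -/
structure Fm (Q P : Subgroup G) (z : G) (q : ℕ → G) (a d : Fin 3 → G) : Prop where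
  pr : LXPair Q P z (q 0)
  cQ : Nat.card Q = 2 ^ 9
  cP : Nat.card P = 2 ^ 9
  qQ : ∀ b, q b ∈ Q
  qq : ∀ b, q b * q b = 1
  cm : ∀ b < 8, ∀ c < 8, q b * q c = q c * q b ↔ c ≠ 7 - b
  fP : ∀ i : Fin 3, q (2 ^ (i : ℕ)) ∈ P
  aP : ∀ i, a i ∈ P
  az : ∀ i, a i * z = z * a i
  dz : ∀ i, d i * z = z * d i
  acta : ∀ i : Fin 3, ∀ b < 8, Eqv z (a i * q b * (a i)⁻¹) (ev q (aR i b))
  actd : ∀ i : Fin 3, ∀ b < 8, Eqv z (d i * q b * (d i)⁻¹) (ev q (aD i b))

structure Bs (Q P : Subgroup G) (z : G) (q : ℕ → G) (r d : Fin 3 → G) : Prop where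
  pr : LXPair Q P z (q 0)
  cP : Nat.card P = 2 ^ 9
  dl : Dl Q z (Dq z q) (z, m 8)
  xg : XG (tup z q 1 1 1) [8] Ql
  qq : ∀ b, q b * q b = 1
  nr : ∀ i, (r i, m (9 + i)) ∈ normalizer (Dq z q : Set (G × Mo))
  nd : ∀ i, (d i, m (12 + 2 * i)) ∈ normalizer (Dq z q : Set (G × Mo))
  cube : ∀ i, d i ^ 3 = 1
  rP : ∀ i, r i ∈ P
  fP : ∀ i : Fin 3, q (2 ^ (i : ℕ)) ∈ P

/-- a two-sided graph inside the centraliser of `z` -/
structure CO (z : G) (t : ℕ → G × Mo) (S : ℕ) : Prop where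
  gr : Gr (genOn t S)
  gl : Gl (genOn t S)
  cent : ∀ γ ∈ genOn t S, γ.1 * z = z * γ.1

theorem Fm.exists_bs [Finite G] {Q P : Subgroup G} {z : G} {q : ℕ → G} {a d : Fin 3 → G}
    (f : Fm Q P z q a d) :
    ∃ r d', Bs Q P z q r d' ∧ (∀ i, (a i)⁻¹ * r i ∈ Q) ∧ ∀ i, (d i)⁻¹ * d' i ∈ Q := by
  have p := f.pr
  obtain ⟨dl, xg⟩ := dl_of_frame p.hQ (t := tup z q 1 1 1) (fun _ => rfl) orc (c := 8) rfl
    (ls := [0, 1, 2, 3, 4, 5, 6, 7]) (fun i hi => by
      rw [tup_q (by revert i; decide)]; exact ⟨f.qQ i, f.qq i⟩) (fun i hi j hj => by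
      have h1 : i < 8 := by revert i; decide
      have h2 : j < 8 := by revert j; decide
      rw [tup_q h1, tup_q h2]; exact f.cm i h1 j h2) (by decide) f.cQ b1 (l := Ql) rfl
  replace dl : Dl Q z (Dq z q) (z, m 8) := dl
  choose y yQ hy using fun i => adj dl (f.az i) (f.acta i) (b2 i).1
  choose y' yQ' hy' using fun i => adj dl (f.dz i) (f.actd i) (b2 i).2.1
  have h4 : ∀ i : Fin 3, m (12 + 2 * i) ^ 4 = m (12 + 2 * i) := fun i => by
    rw [pow_succ, cube_m, one_mul]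
  have eP : ∀ e ∈ [0, 1, 2, 4], q e ∈ P := by
    simpa using ⟨p.hP.z_mem, f.fP 0, f.fP 1, f.fP 2⟩
  refine ⟨fun i => a i * y i, fun i => (d i * y' i) ^ 4, ⟨p, f.cP, dl, xg, f.qq, hy,
    fun i => by simpa [h4] using pow_mem (hy' i) 4, fun i => ?_, fun i => mul_mem (f.aP i) ?_, f.fP⟩,
    fun i => by simpa using yQ i, fun i => ?_⟩
  · rw [← pow_mul, mul_comm, pow_mul]
    rcases dl.ker (pow_mem (hy' i) 3) (cube_m i) with e | e <;>
      rw [show (d i * y' i) ^ 3 = _ from congrArg Prod.fst e]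
    · simp
    · rw [show 4 = 2 * 2 from rfl, pow_mul, pow_two z, p.hQ.z_sq, one_pow]
  · obtain ⟨δ, hδ, e⟩ := dl.exists_of_mem (yQ i)
    obtain ⟨V, hV, rfl⟩ := xg.nf hδ
    rcases (bor_eq _ _).1 ((allL_eq _ _).1 b3 V hV) with e1 | e1
    · exfalso
      obtain ⟨b, hb, e1⟩ := (anyL_eq _ _).1 e1
      have hb' : b < 8 := by clear e1; revert b; decide
      have m1 : (q b, m b) ∈ Dq z q := by
        simpa [tup_q hb'] using low_mem (z := z) (q := q) (r := 1) (d := 1) (x := 1) (W := [b])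
          (by simpa using hb'.trans (by decide))
      have m0 : (q 0, m 0) ∈ Dq z q := by
        simpa [tup_q] using low_mem (z := z) (q := q) (r := 1) (d := 1) (x := 1) (W := [0]) (by simp)
      have e2 : Eqv (q 0) (a i * y i * q b * (a i * y i)⁻¹) (q b) := by
        rcases (bor_eq _ _).1 ((allL_eq _ _).1 (b2 i).2.2.2 b hb) with e2 | e2
        · exact Or.inl (congrArg Prod.fst (dl.gr.eq (dl.conj_mem (hy i) m1) m1 (by
            simpa [mul_inv_eq_iff_eq_mul] using orc.eq e2)))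
        · exact Or.inr (congrArg Prod.fst (dl.gr.eq (dl.conj_mem (hy i) m1) (mul_mem m1 m0) (by
            simpa [mul_inv_eq_iff_eq_mul, ← mul_assoc] using orc.eq e2)))
      have e3 := (e2.conj (comm_inv_left (p.hP.z_comm _ (f.aP i)))).trans p.hP.z_sq
        (p.hP.toXS.conj (inv_mem (f.aP i)) (eP b hb))
      rw [show (a i)⁻¹ * (a i * y i * q b * (a i * y i)⁻¹) * (a i)⁻¹⁻¹ = y i * q b * (y i)⁻¹ by group] at e3
      rcases p.hQ.toXS.conj (yQ i) (f.qQ b) with e4 | e4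
      · refine orc.ne e1 ?_
        have := congrArg Prod.snd (dl.gl.eq (mul_mem hδ m1) (mul_mem m1 hδ) (by
          simpa [e] using comm_of_conj_eq e4))
        simpa [appendL_eq, snd_tup] using this
      · rw [e4] at e3
        exact e3.elim (fun e => p.hQ.z_ne (mul_eq_left.1 e)) fun e => p.ne (mul_left_cancel e).symm
    · rw [← e]
      refine genOn_le (H := P.comap (MonoidHom.fst G Mo)) (fun k hk => ?_) (ev_mem_genOn e1)
      have : k < 9 := by
        by_contra h9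
        rw [Nat.testBit_lt_two_pow (lt_of_lt_of_le (by norm_num : 279 < 2 ^ 9)
          (Nat.pow_le_pow_right (by norm_num) (by omega)))] at hk
        exact Bool.noConfusion hk
      interval_cases k <;> first | exact absurd hk (by decide) | exact eP _ (by decide) | exact p.z_mem
  · beta_reduce
    rw [pow_succ', mul_assoc (d i), inv_mul_cancel_left]
    refine mul_mem (yQ' i) ?_
    rcases dl.ker (pow_mem (hy' i) 3) (cube_m i) with e | e <;>
      rw [show (d i * y' i) ^ 3 = _ from congrArg Prod.fst e]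
    exacts [one_mem _, p.hQ.z_mem]

namespace Bs

variable {Q P : Subgroup G} {z : G} {q : ℕ → G} {r d : Fin 3 → G}
  (h : Bs Q P z q r d)
include h

theorem eqP {γ : G × Mo} (h1 : γ ∈ normalizer (Dq z q : Set (G × Mo))) (h2 : γ.2 = 1)
    (h3 : γ.1 = 1 ∨ γ.1 = q 0) : γ = 1 :=
  (h.dl.ker h1 h2).resolve_right fun e => by
    rw [e] at h3
    exact h3.elim h.pr.hQ.z_ne h.pr.ne.symm

theorem rr (i : Fin 3) : ((r i, m (9 + i)) : G × Mo) * (r i, m (9 + i)) = 1 :=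
  h.eqP (mul_mem (h.nr i) (h.nr i)) (by simpa using orc.eq (g1 i i).1) (h.pr.hP.toXS.sq (h.rP i))

theorem ov {x : G} (hx : x * x = 1) : Ov (tup z q r d x) m val X.I := by
  refine ⟨fun _ => rfl, orc, fun k => Prod.ext ?_ (m_inv k)⟩
  have r2 := fun i => congrArg Prod.fst (h.rr i)
  by_cases hk : k < 19
  · interval_cases k <;>
      first
        | exact h.qq _ | exact h.pr.hQ.z_sq | exact r2 0 | exact r2 1 | exact r2 2
        | exact inv_mul_cancel _ | exact mul_inv_cancel _ | exact hx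
  · rw [I_of_le X (not_lt.1 hk)]
    simp [tup, show ¬ k < 8 by omega, show ¬ k = 8 by omega, show ¬ k < 12 by omega,
      show ¬ k < 18 by omega, show ¬ k = 18 by omega]

theorem d_not_mem (i : Fin 3) : d i ∉ Q := fun e => by
  have e1 : d i = 1 := by
    have := h.pr.hQ.toXS.pow_four e
    rwa [pow_succ, h.cube, one_mul] at this
  have m0 : (q 0, m 0) ∈ Dq z q := by
    simpa [tup_q] using low_mem (z := z) (q := q) (r := 1) (d := 1) (x := 1) (W := [0]) (by simp)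
  have e2 := congrArg Prod.snd (h.dl.gl.eq (h.dl.conj_mem (h.nd i) m0) m0 (by simp [e1]))
  have e3 : ∀ i : Fin 3, ncomC val [12 + 2 * i] [0] = true := by decide +kernel
  exact orc.ne (e3 i) (by simpa [appendL_eq, mul_inv_eq_iff_eq_mul] using e2)

theorem co [Finite G] (x : G) : CO z (tup z q r d x) 262143 := by
  have c3 : ∀ i, ((d i, m (12 + 2 * i)) : G × Mo) ^ 3 = 1 := fun i => Prod.ext (h.cube i) (cube_m i)
  have cj : ∀ (g : G × Mo) i, (g * (d i, m (12 + 2 * i)) * g⁻¹) ^ 3 = 1 := fun g i => by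
    rw [conj_pow, c3, mul_one, mul_inv_cancel]
  obtain ⟨ψ, hψ⟩ := exists_psi (R := fun i => ((r i, m (9 + i)) : G × Mo))
    (D := fun i => (d i, m (12 + 2 * i))) h.rr c3
    (fun i => h.dl.eq_of_cube (mul_mem (mul_mem (h.nr i) (h.nd i)) (inv_mem (h.nr i))) (inv_mem (h.nd i))
      (by simpa [mul_inv_eq_iff_eq_mul, eq_inv_mul_iff_mul_eq] using orc.eq (g1 i i).2.2.2.1) (cj _ i)
      (by rw [inv_pow, c3, inv_one]))
    (fun i j => commutatorElement_eq_one_iff_commute.1 (h.eqP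
      (mul_mem (mul_mem (mul_mem (h.nr i) (h.nr j)) (inv_mem (h.nr i))) (inv_mem (h.nr j)))
      (by simpa [commutatorElement_def, mul_inv_eq_iff_eq_mul] using orc.eq (g1 i j).2.1)
      ((h.pr.hP.toXS.conj (h.rP i) (h.rP j)).imp (fun e => mul_inv_eq_one.2 e) fun e => by
        change r i * r j * (r i)⁻¹ * (r j)⁻¹ = _
        rw [e, h.pr.hP.z_comm _ (h.rP j), mul_inv_cancel_right])))
    (fun i j => comm_of_conj_eq (h.dl.eq_of_cube
      (mul_mem (mul_mem (h.nd i) (h.nd j)) (inv_mem (h.nd i))) (h.nd j)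
      (by simpa [mul_inv_eq_iff_eq_mul] using orc.eq (g1 i j).2.2.1) (cj _ j) (c3 j)))
    (fun i j hij => comm_of_conj_eq (h.dl.eq_of_cube
      (mul_mem (mul_mem (h.nr i) (h.nd j)) (inv_mem (h.nr i))) (h.nd j)
      (by simpa [mul_inv_eq_iff_eq_mul] using orc.eq ((g1 i j).2.2.2.2 hij)) (cj _ j) (c3 j)))
  have n1 : ∀ σ, ψ σ ∈ normalizer (Dq z q : Set (G × Mo)) ⊓ genOn (tup z q r d x) 262143 := by
    have a : ∀ i : Fin 3, tup z q r d x (9 + i) ∈ genOn (tup z q r d x) 262143 ∧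
        tup z q r d x (12 + 2 * i) ∈ genOn (tup z q r d x) 262143 := fun i =>
      ⟨mem_genOn (by revert i; decide), mem_genOn (by revert i; decide)⟩
    simp only [tup_r, tup_d] at a
    refine fun σ => mem_comap.1 (gen3 (fun i => ?_) (fun i => ?_) σ)
    · rw [mem_comap, (hψ i).1]; exact ⟨h.nr i, (a i).1⟩
    · rw [mem_comap, (hψ i).2]; exact ⟨mul_mem (h.nr i) (h.nd i), mul_mem (a i).1 (a i).2⟩
  have cz := fun σ => h.dl.fst_comm (n1 σ).1
  have n2 : ∀ σ, (ψ σ).1 ∈ Q → σ = 1 := fun σ hσ => by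
    by_contra hne
    obtain ⟨i, hi⟩ := Function.ne_iff.1 hne
    have k : ∀ s : S3, s ≠ 1 → ∃ κ : S3, s * (κ * s⁻¹ * κ⁻¹) = ρ3 ∨ s * (κ * s⁻¹ * κ⁻¹) = ρ3⁻¹ := by
      decide
    obtain ⟨κ, hκ⟩ := k _ hi
    have e1 : σ * (el i κ * σ⁻¹ * (el i κ)⁻¹) = el i (σ i * (κ * (σ i)⁻¹ * κ⁻¹)) := by
      ext1 j
      by_cases e : j = i
      · subst e; simp [el]
      · simp [el, e]
    have e2 := mul_mem hσ (h.pr.hQ.norm _ (cz (el i κ)) _ (inv_mem hσ))
    have e3 : ψ (el i ρ3) = (d i, m (12 + 2 * i)) := by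
      rw [ρ3, el_mul, map_mul, (hψ i).1, (hψ i).2, ← mul_assoc, h.rr, one_mul]
    rw [← Prod.fst_inv, ← Prod.fst_inv, ← Prod.fst_mul, ← Prod.fst_mul, ← Prod.fst_mul, ← map_inv,
      ← map_inv, ← map_mul, ← map_mul, ← map_mul, e1] at e2
    refine h.d_not_mem i ?_
    rcases hκ with e | e <;> rw [e] at e2
    · rwa [e3] at e2
    · rwa [show el i ρ3⁻¹ = (el i ρ3)⁻¹ from eq_inv_of_mul_eq_one_left (by
        rw [← el_mul, inv_mul_cancel, el_one]), map_inv, e3, Prod.fst_inv, inv_mem_iff] at e2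
  let Γ : Subgroup (G × Mo) :=
    { carrier := {γ | ∃ δ ∈ Dq z q, ∃ σ, γ = δ * ψ σ}
      one_mem' := ⟨1, one_mem _, 1, by simp⟩
      mul_mem' := by
        rintro _ _ ⟨a, ha, σ, rfl⟩ ⟨b, hb, σ', rfl⟩
        exact ⟨_, mul_mem ha (h.dl.conj_mem (n1 σ).1 hb), σ * σ', by rw [map_mul]; group⟩
      inv_mem' := by
        rintro _ ⟨a, ha, σ, rfl⟩
        exact ⟨_, h.dl.conj_mem (n1 σ⁻¹).1 (inv_mem ha), σ⁻¹, by rw [map_inv]; group⟩ }
  have l1 : genOn (tup z q r d x) 262143 ≤ Γ := genOn_le fun k hk => by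
    have a : ∀ i : Fin 3, tup z q r d x (9 + i) ∈ Γ := fun i =>
      ⟨1, one_mem _, el i τ, by rw [one_mul, (hψ i).1, tup_r]⟩
    have b : ∀ i : Fin 3, tup z q r d x (12 + 2 * i) ∈ Γ := fun i =>
      ⟨1, one_mem _, el i ρ3, by
        rw [one_mul, ρ3, el_mul, map_mul, (hψ i).1, (hψ i).2, ← mul_assoc, h.rr, one_mul, tup_d]⟩
    have c : ∀ k < 9, tup z q r d x k ∈ Γ := fun k hk =>
      ⟨_, low_mem (r := r) (d := d) (x := x) (W := [k]) (by simpa using hk), 1, by simp⟩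
    have e : ∀ i : Fin 3, tup z q r d x (13 + 2 * i) = (tup z q r d x (12 + 2 * i))⁻¹ := fun i =>
      Prod.ext (by fin_cases i <;> rfl) (eq_inv_of_mul_eq_one_left (by
        have := m_inv (12 + 2 * i)
        fin_cases i <;> exact this))
    have hk' : k < 18 := by simpa using (testBit_ones 18 k).symm.trans hk
    by_cases h9 : k < 9
    · exact c k h9
    interval_cases k
    exacts [a 0, a 1, a 2, b 0, e 0 ▸ inv_mem (b 0), b 1, e 1 ▸ inv_mem (b 1), b 2, e 2 ▸ inv_mem (b 2)]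
  have l2 : ∀ γ ∈ Γ, γ ∈ normalizer (Dq z q : Set (G × Mo)) := by
    rintro _ ⟨a, ha, σ, rfl⟩
    exact mul_mem (le_normalizer ha) (n1 σ).1
  have l3 : ∀ γ ∈ Γ, γ.1 ∈ Q → γ ∈ Dq z q := by
    rintro _ ⟨a, ha, σ, rfl⟩ e
    have := n2 σ ((mul_mem_cancel_left (h.dl.fst_mem ha)).1 e)
    simpa [this] using ha
  refine ⟨fun γ hγ e => h.dl.gr γ (l3 γ (l1 hγ) ?_) e, fun γ hγ e =>
    h.dl.gl γ (l3 γ (l1 hγ) (e ▸ Q.one_mem)) e, fun γ hγ => h.dl.fst_comm (l2 γ (l1 hγ))⟩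
  rcases h.dl.ker (l2 γ (l1 hγ)) e with e | e <;> rw [e]
  exacts [Q.one_mem, h.pr.hQ.z_mem]

end Bs

end Cfsg.Agent.O8C.Gn
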