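import Cfsg.Agent.O8C.Theta

/-! The graph over `2^(1+8).(S₃ × S₃ × S₃)` from a frame. -/

set_option autoImplicit false
set_option maxRecDepth 100000

namespace Cfsg.Agent.X9

open Subgroup Cfsg.Agent.TT Cfsg.Agent.XSC Cfsg.Agent.Comp.BN Cfsg.Agent.O8C
open Cfsg.Agent.LES hiding tup

variable {G : Type*} [Group G]

/-- `O8C.Fm` without `π` -/
structure Fm' (Q P : Subgroup G) (z : G) (q : ℕ → G) (a d : Fin 3 → G) : Prop where
  qQ : ∀ b, q b ∈ Q
  qq : ∀ b, q b * q b = 1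
  cm : ∀ b < 8, ∀ c < 8, q b * q c = q c * q b ↔ c ≠ 7 - b
  fP : ∀ i : Fin 3, q (2 ^ (i : ℕ)) ∈ P
  aP : ∀ i, a i ∈ P
  az : ∀ i, a i * z = z * a i
  dz : ∀ i, d i * z = z * d i
  acta : ∀ i : Fin 3, ∀ b < 8, Eqv z (a i * q b * (a i)⁻¹) (ev q (aR i b))
  actd : ∀ i : Fin 3, ∀ b < 8, Eqv z (d i * q b * (d i)⁻¹) (ev q (aD i b))

namespace OA

/-- `O8C.Bs` without `π` -/
structure Bt (Q P : Subgroup G) (z : G) (q : ℕ → G) (a r d : Fin 3 → G) : Prop where
  pr : LXPair Q P z (q 0)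
  cP : Nat.card P = 2 ^ 9
  dl : Dl Q z (Dq z q) (z, m 8)
  xg : XG (tup z q 1 1 1) [8] Ql
  qq : ∀ b, q b * q b = 1
  nr : ∀ i, (r i, m (9 + i)) ∈ normalizer (Dq z q : Set (G × Mo))
  nd : ∀ i, (d i, m (12 + 2 * i)) ∈ normalizer (Dq z q : Set (G × Mo))
  cube : ∀ i, d i ^ 3 = 1
  rP : ∀ i, r i ∈ P
  fP : ∀ i : Fin 3, q (2 ^ (i : ℕ)) ∈ P
  ar : ∀ i, (a i)⁻¹ * r i ∈ Q

/-- a two-sided graph inside the centraliser of `z` -/
structure CP (z : G) (t : ℕ → G × Mo) : Prop where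
  gr : Gr (genOn t 262143)
  gl : Gl (genOn t 262143)
  cent : ∀ γ ∈ genOn t 262143, γ.1 * z = z * γ.1
  card : Nat.card (genOn t 262143) ≤ 110592

theorem exists_bt [Finite G] {Q P : Subgroup G} {z : G} {q : ℕ → G} {a d : Fin 3 → G} (lx : LX Q z)
    (hQ : Nat.card Q = 2 ^ 9) (p : LXPair Q P z (q 0)) (hP : Nat.card P = 2 ^ 9) (f : Fm' Q P z q a d) :
    ∃ r d, Bt Q P z q a r d := by
  obtain ⟨dl, xg⟩ := dl_of_frame lx (t := tup z q 1 1 1) (fun _ => rfl) orc (c := 8) rfl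
    (ls := [0, 1, 2, 3, 4, 5, 6, 7]) (fun i hi => by
      rw [tup_q (by revert i; decide)]; exact ⟨f.qQ i, f.qq i⟩) (fun i hi j hj => by
      have h1 : i < 8 := by revert i; decide
      have h2 : j < 8 := by revert j; decide
      rw [tup_q h1, tup_q h2]; exact f.cm i h1 j h2) (by decide) hQ b1 (l := Ql) rfl
  replace dl : Dl Q z (Dq z q) (z, m 8) := dl
  choose y yQ hy using fun i => adj dl (f.az i) (f.acta i) (b2 i).1
  choose y' yQ' hy' using fun i => adj dl (f.dz i) (f.actd i) (b2 i).2.1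
  have h4 : ∀ i : Fin 3, m (12 + 2 * i) ^ 4 = m (12 + 2 * i) := fun i => by
    rw [pow_succ, cube_m, one_mul]
  have eP : ∀ e ∈ [0, 1, 2, 4], q e ∈ P := by
    simpa using ⟨p.hP.z_mem, f.fP 0, f.fP 1, f.fP 2⟩
  refine ⟨fun i => a i * y i, fun i => (d i * y' i) ^ 4, p, hP, dl, xg, f.qq, hy,
    fun i => by simpa [h4] using pow_mem (hy' i) 4, fun i => ?_, fun i => mul_mem (f.aP i) ?_, f.fP,
    fun i => by simpa using yQ i⟩
  · rw [← pow_mul, mul_comm, pow_mul]
    rcases dl.ker (pow_mem (hy' i) 3) (cube_m i) with e | e <;>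
      rw [show (d i * y' i) ^ 3 = _ from congrArg Prod.fst e]
    · simp
    · rw [show 4 = 2 * 2 from rfl, pow_mul, pow_two z, lx.z_sq, one_pow]
  · obtain ⟨δ, hδ, e⟩ := dl.exists_of_mem (yQ i)
    obtain ⟨V, hV, rfl⟩ := xg.nf hδ
    rcases (bor_eq _ _).1 ((allL_eq _ _).1 b3 V hV) with e1 | e1
    · exfalso
      obtain ⟨b, hb, e1⟩ := (anyL_eq _ _).1 e1
      have hb' : b < 8 := by clear e1; revert b; decide
      have m1 : (q b, m b) ∈ Dq z q := by
        simpa [tup_q hb'] using low_mem (z := z) (q := q) (r := 1) (d := 1) (x := 1) (W := [b])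
          (by simpa using hb'.trans (by decide))
      have m0 : (q 0, m 0) ∈ Dq z q := by
        simpa [tup_q] using low_mem (z := z) (q := q) (r := 1) (d := 1) (x := 1) (W := [0]) (by simp)
      have e2 : Eqv (q 0) (a i * y i * q b * (a i * y i)⁻¹) (q b) := by
        rcases (bor_eq _ _).1 ((allL_eq _ _).1 (b2 i).2.2.2 b hb) with e2 | e2
        · exact Or.inl (congrArg Prod.fst (dl.gr.eq (dl.conj_mem (hy i) m1) m1 (by
            simpa [mul_inv_eq_iff_eq_mul] using orc.eq e2)))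
        · exact Or.inr (congrArg Prod.fst (dl.gr.eq (dl.conj_mem (hy i) m1) (mul_mem m1 m0) (by
            simpa [mul_inv_eq_iff_eq_mul, ← mul_assoc] using orc.eq e2)))
      have e3 := (e2.conj (comm_inv_left (p.hP.z_comm _ (f.aP i)))).trans p.hP.z_sq
        (p.hP.toXS.conj (inv_mem (f.aP i)) (eP b hb))
      rw [show (a i)⁻¹ * (a i * y i * q b * (a i * y i)⁻¹) * (a i)⁻¹⁻¹ = y i * q b * (y i)⁻¹ by group] at e3
      rcases lx.toXS.conj (yQ i) (f.qQ b) with e4 | e4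
      · refine orc.ne e1 ?_
        have := congrArg Prod.snd (dl.gl.eq (mul_mem hδ m1) (mul_mem m1 hδ) (by
          simpa [e] using comm_of_conj_eq e4))
        simpa [appendL_eq, snd_tup] using this
      · rw [e4] at e3
        exact e3.elim (fun e => lx.z_ne (mul_eq_left.1 e)) fun e => p.ne (mul_left_cancel e).symm
    · rw [← e]
      refine genOn_le (H := P.comap (MonoidHom.fst G Mo)) (fun k hk => ?_) (ev_mem_genOn e1)
      have : k < 9 := by
        by_contra h9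
        rw [Nat.testBit_lt_two_pow (lt_of_lt_of_le (by norm_num : 279 < 2 ^ 9)
          (Nat.pow_le_pow_right (by norm_num) (by omega)))] at hk
        exact Bool.noConfusion hk
      interval_cases k <;> first | exact absurd hk (by decide) | exact eP _ (by decide) | exact p.z_mem

theorem t3_normal {N : Subgroup T3} (hN : N.Normal) (h : ∀ i, el i ρ3 ∉ N) {σ : T3} (hσ : σ ∈ N) :
    σ = 1 := by
  have k : ∀ y : S3, y ≠ 1 → ∃ u : S3, ∃ n : Fin 3, (u * y * u⁻¹ * y⁻¹) ^ n.1 = ρ3 := by decide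
  ext1 i
  by_contra c
  obtain ⟨u, n, hu⟩ := k _ c
  refine h i ?_
  convert pow_mem (mul_mem (hN.conj_mem σ hσ (el i u)) (inv_mem hσ)) n using 1
  ext1 j
  by_cases e : j = i
  · subst e; simp [el, hu]
  · simp [el, e]

theorem g3 : ∀ i : Fin 3, ncomC val [12 + 2 * i] [0] = true := by decide +kernel

namespace Bt

variable {Q P : Subgroup G} {z : G} {q : ℕ → G} {a r d : Fin 3 → G}
  (h : Bt Q P z q a r d)
include h

theorem eqP {γ : G × Mo} (h1 : γ ∈ normalizer (Dq z q : Set (G × Mo))) (h2 : γ.2 = 1)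
    (h3 : γ.1 = 1 ∨ γ.1 = q 0) : γ = 1 :=
  (h.dl.ker h1 h2).resolve_right fun e => by
    rw [e] at h3
    exact h3.elim h.dl.lx.z_ne h.pr.ne.symm

theorem rr (i : Fin 3) : ((r i, m (9 + i)) : G × Mo) * (r i, m (9 + i)) = 1 :=
  h.eqP (mul_mem (h.nr i) (h.nr i)) (by simpa using orc.eq (g1 i i).1) (h.pr.hP.toXS.sq (h.rP i))

theorem ov {x : G} (hx : x * x = 1) : Ov (tup z q r d x) m val X.I := by
  refine ⟨fun _ => rfl, orc, fun k => Prod.ext ?_ (m_inv k)⟩
  have r2 := fun i => congrArg Prod.fst (h.rr i)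
  by_cases hk : k < 19
  · interval_cases k <;>
      first
        | exact h.qq _ | exact h.dl.lx.z_sq | exact r2 0 | exact r2 1 | exact r2 2
        | exact inv_mul_cancel _ | exact mul_inv_cancel _ | exact hx
  · rw [I_of_le X (not_lt.1 hk)]
    simp [tup, show ¬ k < 8 by omega, show ¬ k = 8 by omega, show ¬ k < 12 by omega,
      show ¬ k < 18 by omega, show ¬ k = 18 by omega]

theorem co [Finite G] (x : G) : CP z (tup z q r d x) := by
  have c3 : ∀ i, ((d i, m (12 + 2 * i)) : G × Mo) ^ 3 = 1 := fun i => Prod.ext (h.cube i) (cube_m i)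
  have cj : ∀ (g : G × Mo) i, (g * (d i, m (12 + 2 * i)) * g⁻¹) ^ 3 = 1 := fun g i => by
    rw [conj_pow, c3, mul_one, mul_inv_cancel]
  obtain ⟨ψ, hψ⟩ := exists_psi (R := fun i => ((r i, m (9 + i)) : G × Mo))
    (D := fun i => (d i, m (12 + 2 * i))) h.rr c3
    (fun i => h.dl.eq_of_cube (mul_mem (mul_mem (h.nr i) (h.nd i)) (inv_mem (h.nr i))) (inv_mem (h.nd i))
      (by simpa [mul_inv_eq_iff_eq_mul, eq_inv_mul_iff_mul_eq] using orc.eq (g1 i i).2.2.2.1) (cj _ i)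
      (by rw [inv_pow, c3, inv_one]))
    (fun i j => commutatorElement_eq_one_iff_commute.1 (h.eqP
      (mul_mem (mul_mem (mul_mem (h.nr i) (h.nr j)) (inv_mem (h.nr i))) (inv_mem (h.nr j)))
      (by simpa [commutatorElement_def, mul_inv_eq_iff_eq_mul] using orc.eq (g1 i j).2.1)
      ((h.pr.hP.toXS.conj (h.rP i) (h.rP j)).imp (fun e => mul_inv_eq_one.2 e) fun e => by
        change r i * r j * (r i)⁻¹ * (r j)⁻¹ = _
        rw [e, h.pr.hP.z_comm _ (h.rP j), mul_inv_cancel_right])))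
    (fun i j => comm_of_conj_eq (h.dl.eq_of_cube
      (mul_mem (mul_mem (h.nd i) (h.nd j)) (inv_mem (h.nd i))) (h.nd j)
      (by simpa [mul_inv_eq_iff_eq_mul] using orc.eq (g1 i j).2.2.1) (cj _ j) (c3 j)))
    (fun i j hij => comm_of_conj_eq (h.dl.eq_of_cube
      (mul_mem (mul_mem (h.nr i) (h.nd j)) (inv_mem (h.nr i))) (h.nd j)
      (by simpa [mul_inv_eq_iff_eq_mul] using orc.eq ((g1 i j).2.2.2.2 hij)) (cj _ j) (c3 j)))
  have n1 : ∀ σ, ψ σ ∈ normalizer (Dq z q : Set (G × Mo)) ⊓ genOn (tup z q r d x) 262143 := by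
    have a : ∀ i : Fin 3, tup z q r d x (9 + i) ∈ genOn (tup z q r d x) 262143 ∧
        tup z q r d x (12 + 2 * i) ∈ genOn (tup z q r d x) 262143 := fun i =>
      ⟨mem_genOn (by revert i; decide), mem_genOn (by revert i; decide)⟩
    simp only [tup_r, tup_d] at a
    refine fun σ => mem_comap.1 (gen3 (fun i => ?_) (fun i => ?_) σ)
    · rw [mem_comap, (hψ i).1]; exact ⟨h.nr i, (a i).1⟩
    · rw [mem_comap, (hψ i).2]; exact ⟨mul_mem (h.nr i) (h.nd i), mul_mem (a i).1 (a i).2⟩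
  have cz := fun σ => h.dl.fst_comm (n1 σ).1
  have n2 : ∀ σ, (ψ σ).1 ∈ Q → σ = 1 := fun σ hσ => by
    refine t3_normal (N := Q.comap ((MonoidHom.fst G Mo).comp ψ)) ⟨fun n hn g => ?_⟩ (fun i e => ?_) hσ
    · rw [mem_comap, map_mul, map_mul, map_inv]
      exact h.dl.lx.norm _ (cz g) _ hn
    · have e1 : ψ (el i ρ3) = (d i, m (12 + 2 * i)) := by
        rw [ρ3, el_mul, map_mul, (hψ i).1, (hψ i).2, ← mul_assoc, h.rr, one_mul]
      rw [mem_comap, MonoidHom.comp_apply, e1] at e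
      have e2 := h.dl.lx.toXS.pow_four e
      rw [pow_succ, show (MonoidHom.fst G Mo) (d i, m (12 + 2 * i)) = d i from rfl, h.cube, one_mul] at e2
      have m0 : (q 0, m 0) ∈ Dq z q := by
        simpa [tup_q] using low_mem (z := z) (q := q) (r := 1) (d := 1) (x := 1) (W := [0]) (by simp)
      have := congrArg Prod.snd (h.dl.gl.eq (h.dl.conj_mem (h.nd i) m0) m0 (by simp [e2]))
      exact orc.ne (g3 i) (by simpa [appendL_eq, mul_inv_eq_iff_eq_mul] using this)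
  let Γ : Subgroup (G × Mo) :=
    { carrier := {γ | ∃ δ ∈ Dq z q, ∃ σ, γ = δ * ψ σ}
      one_mem' := ⟨1, one_mem _, 1, by simp⟩
      mul_mem' := by
        rintro _ _ ⟨a, ha, σ, rfl⟩ ⟨b, hb, σ', rfl⟩
        exact ⟨_, mul_mem ha (h.dl.conj_mem (n1 σ).1 hb), σ * σ', by rw [map_mul]; group⟩
      inv_mem' := by
        rintro _ ⟨a, ha, σ, rfl⟩
        exact ⟨_, h.dl.conj_mem (n1 σ⁻¹).1 (inv_mem ha), σ⁻¹, by rw [map_inv]; group⟩ }
  have l1 : genOn (tup z q r d x) 262143 ≤ Γ := genOn_le fun k hk => by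
    have a : ∀ i : Fin 3, tup z q r d x (9 + i) ∈ Γ := fun i =>
      ⟨1, one_mem _, el i τ, by rw [one_mul, (hψ i).1, tup_r]⟩
    have b : ∀ i : Fin 3, tup z q r d x (12 + 2 * i) ∈ Γ := fun i =>
      ⟨1, one_mem _, el i ρ3, by
        rw [one_mul, ρ3, el_mul, map_mul, (hψ i).1, (hψ i).2, ← mul_assoc, h.rr, one_mul, tup_d]⟩
    have c : ∀ k < 9, tup z q r d x k ∈ Γ := fun k hk =>
      ⟨_, low_mem (r := r) (d := d) (x := x) (W := [k]) (by simpa using hk), 1, by simp⟩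
    have e : ∀ i : Fin 3, tup z q r d x (13 + 2 * i) = (tup z q r d x (12 + 2 * i))⁻¹ := fun i =>
      Prod.ext (by fin_cases i <;> rfl) (eq_inv_of_mul_eq_one_left (by
        have := m_inv (12 + 2 * i)
        fin_cases i <;> exact this))
    have hk' : k < 18 := by simpa using (testBit_ones 18 k).symm.trans hk
    by_cases h9 : k < 9
    · exact c k h9
    interval_cases k
    exacts [a 0, a 1, a 2, b 0, e 0 ▸ inv_mem (b 0), b 1, e 1 ▸ inv_mem (b 1), b 2, e 2 ▸ inv_mem (b 2)]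
  have l2 : ∀ γ ∈ Γ, γ ∈ normalizer (Dq z q : Set (G × Mo)) := by
    rintro _ ⟨a, ha, σ, rfl⟩
    exact mul_mem (le_normalizer ha) (n1 σ).1
  have l3 : ∀ γ ∈ Γ, γ.1 ∈ Q → γ ∈ Dq z q := by
    rintro _ ⟨a, ha, σ, rfl⟩ e
    simpa [n2 σ ((mul_mem_cancel_left (h.dl.fst_mem ha)).1 e)] using ha
  refine ⟨fun γ hγ e => h.dl.gr γ (l3 γ (l1 hγ) ?_) e, fun γ hγ e =>
    h.dl.gl γ (l3 γ (l1 hγ) (e ▸ Q.one_mem)) e, fun γ hγ => h.dl.fst_comm (l2 γ (l1 hγ)),
    (card_le_of_le l1).trans ?_⟩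
  · rcases h.dl.ker (l2 γ (l1 hγ)) e with e | e <;> rw [e]
    exacts [Q.one_mem, h.dl.lx.z_mem]
  · refine (Nat.card_le_card_of_surjective (fun p : Dq z q × T3 =>
      (⟨p.1 * ψ p.2, p.1, p.1.2, p.2, rfl⟩ : Γ)) ?_).trans ?_
    · rintro ⟨_, δ, hδ, σ, rfl⟩
      exact ⟨(⟨δ, hδ⟩, σ), rfl⟩
    · rw [Nat.card_prod, show Nat.card T3 = 216 by simp [Fintype.card_perm, Nat.factorial]]
      exact Nat.mul_le_mul_right 216 h.xg.card_le

theorem exists_x [Finite G] : ∃ x, Xs P z q r x := by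
  have c := h.co 1
  have p := h.pr
  let A := genW (tup z q r d 1) [[0], [1], [2], [4], [9], [10], [11]]
  have hA : A ≤ genOn (tup z q r d 1) 262143 := genW_le_genOn (by decide +kernel)
  have mA : ∀ k ∈ [0, 1, 2, 4, 9, 10, 11], (tup z q r d 1 k).1 ∈ A.map (MonoidHom.fst G Mo) :=
    fun k hk => mem_map_fst (by
      simpa using mem_genW (x := tup z q r d 1) (W := [k]) (by revert k; decide))
  obtain ⟨y, hy, h1, h2⟩ := p.hP.toXS.exists_comm_not_comm (A := A.map (MonoidHom.fst G Mo))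
    (map_le_iff_le_comap.2 (genW_le (by
      simpa using ⟨p.hP.z_mem, h.fP 0, h.fP 1, h.fP 2, h.rP 0, h.rP 1, h.rP 2⟩)))
    (mA 0 (by simp)) p.z_mem (by
      rintro ⟨γ, hγ, e⟩
      have e1 : γ = tup z q r d 1 8 := c.gl.eq (hA hγ) (mem_genOn (by decide)) e
      have := comm_genW (g := (1, m 18)) (fun W hW => Prod.ext (by simp) (by
        simpa [appendL_eq, snd_tup] using orc.eq ((allL_eq _ _).1 ((band_eq _ _).1 x1).1 W hW))) hγ
      exact orc.ne ((band_eq _ _).1 x1).2 (by simpa [e1, appendL_eq, tup] using congrArg Prod.snd this))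
  have f1 : ∀ i : Fin 3, q (2 ^ (i : ℕ)) ∈ A.map (MonoidHom.fst G Mo) ∧
      r i ∈ A.map (MonoidHom.fst G Mo) := fun i => by
    fin_cases i
    exacts [⟨mA 1 (by simp), mA 9 (by simp)⟩, ⟨mA 2 (by simp), mA 10 (by simp)⟩,
      ⟨mA 4 (by simp), mA 11 (by simp)⟩]
  rcases p.hP.toXS.sq hy with e | e
  · exact ⟨y, hy, e, fun i => (h1 _ (f1 i).1).symm, fun i => (h1 _ (f1 i).2).symm, h2⟩
  · have k : ∀ a ∈ A.map (MonoidHom.fst G Mo), y * z * a = a * (y * z) := fun a ha => by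
      obtain ⟨γ, hγ, rfl⟩ := id ha
      exact comm_mul_left (h1 _ ha).symm (c.cent γ (hA hγ)).symm
    refine ⟨y * z, mul_mem hy p.z_mem, ?_, fun i => k _ (f1 i).1, fun i => k _ (f1 i).2, fun e1 => h2 ?_⟩
    · nth_rewrite 2 [p.hP.toXS.comm_of_ne hy p.z_mem h2]
      calc y * z * (z * y * q 0) = y * (z * z) * y * q 0 := by group
        _ = 1 := by rw [p.hQ.z_sq, mul_one, e, p.hP.z_sq]
    · rw [← mul_assoc z] at e1
      exact mul_right_cancel e1

theorem eps [Finite G] {x : G} (hx : Xs P z q r x) (i : Fin 3) :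
    Eqv (q 0) (q (7 - 2 ^ (i : ℕ)) * x * (q (7 - 2 ^ (i : ℕ)))⁻¹) (x * r i) := by
  have c := h.co x
  have o := h.ov hx.xx
  have p := h.pr
  have r2 := fun i => congrArg Prod.fst (h.rr i)
  set t := tup z q r d x with ht
  have mR : ∀ j ∈ Rl, t j ∈ genOn t 262143 := fun j hj => mem_genOn (by revert j; decide)
  have k1 : ∀ j ∈ [8, 18, 1, 9, 2, 10, 4, 11], (x * (t j).1 = (t j).1 * x ↔ j ≠ 8) := by
    simpa using ⟨hx.xz, rfl, hx.xf 0, hx.xr 0, hx.xf 1, hx.xr 1, hx.xf 2, hx.xr 2⟩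
  obtain ⟨dl, -⟩ := dl_of_frame p.hP o.snd orc (c := 0) rfl (ls := [8, 18, 1, 9, 2, 10, 4, 11]) (du := duP)
    (by simpa using ⟨⟨p.z_mem, p.hQ.z_sq⟩, ⟨hx.xP, hx.xx⟩, ⟨h.fP 0, h.qq _⟩, ⟨h.rP 0, r2 0⟩,
      ⟨h.fP 1, h.qq _⟩, ⟨h.rP 1, r2 1⟩, ⟨h.fP 2, h.qq _⟩, h.rP 2, r2 2⟩) (fun a ha b hb => by
      by_cases e1 : a = 18
      · rw [e1]; exact k1 b hb
      by_cases e2 : b = 18
      · rw [e2, eq_comm]
        exact (k1 a ha).trans (by clear * - ha; revert a; decide)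
      have ha' : a ∈ Rl := by clear * - ha e1; revert a; decide
      have hb' : b ∈ Rl := by clear * - hb e2; revert b; decide
      rw [com_iff c.gr c.gl (mR a ha') (mR b hb'), ← x3 a ha' b hb', comC, orc.eq_iff]
      simp [appendL_eq, o.snd]) (by decide) h.cP x2 (l := Pl) rfl
  have mP : ∀ j ∈ 0 :: 18 :: Rl, t j ∈ genW t ([0] :: Pl) := fun j hj => by
    simpa using mem_genW (x := t) (W := [j]) (by clear * - hj; revert j; decide)
  obtain ⟨a1, a2, a3⟩ := x4 i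
  have hk : 7 - 2 ^ (i : ℕ) < 8 := Nat.lt_succ_of_le (Nat.sub_le _ _)
  have kk := h.qq (7 - 2 ^ (i : ℕ))
  have tk : t (7 - 2 ^ (i : ℕ)) = _ := tup_q hk
  have mm : m (7 - 2 ^ (i : ℕ)) * m (7 - 2 ^ (i : ℕ)) = 1 := by
    have := m_inv (7 - 2 ^ (i : ℕ))
    fin_cases i <;> exact this
  generalize 7 - 2 ^ (i : ℕ) = k at *
  have ks : q k * q 0 = q 0 * q k := by
    have := congrArg Prod.fst (o.eqOn c.gr a3)
    simp only [ev_cons, ev_nil, mul_one, Prod.fst_mul, tk] at this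
    exact this
  have yP := p.hP.norm _ ks x hx.xP
  have wP := mul_mem hx.xP (h.rP i)
  have hw : ((x * r i, m 18 * m (9 + i)) : G × Mo) ∈ genW t ([0] :: Pl) := by
    have := mul_mem (mP 18 (by simp)) (mP (9 + i) (by clear * -; revert i; decide))
    rwa [ht, tup_r] at this
  have ww : x * r i * (x * r i) = 1 := by
    rw [mul_assoc, ← mul_assoc (r i), ← hx.xr, mul_assoc, show r i * r i = 1 from r2 i, mul_one, hx.xx]
  have yy : q k * x * (q k)⁻¹ * (q k * x * (q k)⁻¹) = 1 := by rw [conj_mul, hx.xx]; group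
  rw [inv_eq_of_mul_eq_one_right kk] at *
  have k2 : ∀ v ∈ Rl, (t v).1 * (x * r i * (q k * x * q k)) = x * r i * (q k * x * q k) * (t v).1 := by
    intro v hv
    obtain ⟨U, b⟩ := all2_spec a1 v hv
    rw [band_eq, allL_eq] at b
    have b1 := o.eqOn c.gr b.1
    have b2 : ev t U ∈ genW t ([0] :: Pl) := ev_mem_of fun j hj => mP j (by
      have := List.mem_of_elem_eq_true (b.2 j hj)
      clear * - this; revert j; decide)
    have vm := mP v (by simp [hv])
    have b3 := com_iff dl.gr dl.gl (mP 18 (by simp)) b2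
    have b4 := com_iff dl.gr dl.gl hw vm
    have b5 : m 18 * m (9 + i) = m k * (m 18 * m k) := by simpa using (orc.eq a2).symm
    simp only [← b1, ev_cons, ev_nil, mul_one, Prod.fst_mul, Prod.snd_mul, tk, o.snd] at b3 b4
    rw [cjj kk, cjj mm, ← b5, ← b4] at b3
    rw [eq_comm, ← cmv_eq_zero, cmv_mul_left p.hP.toXS wP yP (dl.fst_mem vm),
      cmv_congr b3.symm, mul_assoc (q k)]
    exact CharTwo.add_self_eq_zero _
  have k3 : ∀ u ∈ P, (∀ v ∈ Rl, (t v).1 * u = u * (t v).1) → u * x = x * u → u = 1 ∨ u = q 0 := by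
    refine fun u hu h1 h2 => p.hP.cent u hu fun y hy => (comm_genW (x := fun k => (t k).1)
      (ws := [0] :: Pl) ?_ (by rw [← dl.map, map_genW] at hy; exact hy)).symm
    simp only [Rl, List.forall_mem_cons] at h1
    simpa [Pl] using ⟨(p.hP.z_comm u hu).symm, h1.1, h2.symm, h1.2.1, h1.2.2.1, h1.2.2.2.1,
      h1.2.2.2.2.1, h1.2.2.2.2.2.1, h1.2.2.2.2.2.2.1⟩
  have uP := mul_mem wP yP
  have e0 : q k * x * q k = x * r i * (x * r i * (q k * x * q k)) := by
    rw [← mul_assoc (x * r i), ww, one_mul]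
  generalize q k * x * q k = y at *
  by_cases e : x * r i * y * x = x * (x * r i * y)
  · rw [e0]
    rcases k3 _ uP k2 e with e | e <;> rw [e]
    exacts [Or.inl (mul_one _), Or.inr rfl]
  exfalso
  have e1 := k3 _ (mul_mem uP p.z_mem) (fun v hv => (comm_mul_left (k2 v hv).symm
    (c.cent _ (mR v hv)).symm).symm) (p.hP.toXS.mul_comm_of_not_comm hx.xP uP p.z_mem e hx.xz.symm)
  have zz := p.hQ.z_sq
  have e2 : x * r i * y = z ∨ x * r i * y = q 0 * z := e1.imp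
    (fun e => by rw [eq_inv_of_mul_eq_one_left e, p.hQ.toXS.z_inv]) fun e => by
      rw [← e, mul_assoc _ z, zz, mul_one]
  have e3 : x * r i * y * (x * r i * y) = 1 := by
    rcases e2 with e | e <;> rw [e]
    · exact zz
    · rw [mul_assoc, ← mul_assoc z, ← p.sz, mul_assoc, zz, mul_one, p.hP.z_sq]
  have e4 : x * r i * (x * r i * y) = x * r i * y * (x * r i) := by
    rw [← e0, eq_comm, ← mul_left_inj y, yy, mul_assoc, e3]
  have e5 : x * r i * z = z * (x * r i) := by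
    rcases e2 with e | e <;> rw [e] at e4
    · exact e4
    · rw [← mul_assoc, p.hP.z_comm _ wP, mul_assoc (q 0), mul_assoc (q 0)] at e4
      exact mul_left_cancel e4
  rw [mul_assoc, show r i * z = z * r i from h.dl.fst_comm (h.nr i), ← mul_assoc, ← mul_assoc] at e5
  exact hx.xz (mul_right_cancel e5)

theorem twist [Finite G] : ∃ r' x, Bt Q P z q a r' d ∧ Xs P z q r' x ∧
    ∀ i : Fin 3, q (7 - 2 ^ (i : ℕ)) * x * (q (7 - 2 ^ (i : ℕ)))⁻¹ = x * r' i := by
  obtain ⟨x, hx⟩ := h.exists_x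
  have c := h.co x
  have o := h.ov hx.xx
  have p := h.pr
  have : ∀ i : Fin 3, ∃ b : Bool, q (7 - 2 ^ (i : ℕ)) * x * (q (7 - 2 ^ (i : ℕ)))⁻¹ =
      x * r i * if b then q 0 else 1 := fun i =>
    (h.eps hx i).elim (fun e => ⟨false, by simpa using e⟩) fun e => ⟨true, e⟩
  choose ε hε using this
  obtain ⟨a1, a2⟩ := x5 (ε 0) (ε 1) (ε 2)
  have k0 : ∀ i, ![ε 0, ε 1, ε 2] i = ε i := fun i => by fin_cases i <;> rfl
  simp only [k0] at a2
  have k1 : ∀ H : Subgroup G, (∀ i : Fin 3, q (2 ^ (i : ℕ)) ∈ H) →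
      (ev (tup z q r d x) (Fw (ε 0) (ε 1) (ε 2))).1 ∈ H := fun H hH => by
    refine ev_mem_of (H := H.comap (MonoidHom.fst G Mo)) fun k hk => ?_
    simp only [Fw, List.mem_append, List.mem_ite_nil_right, List.mem_singleton] at hk
    rcases hk with (⟨-, rfl⟩ | ⟨-, rfl⟩) | ⟨-, rfl⟩
    exacts [hH 0, hH 1, hH 2]
  have FP := k1 P h.fP
  have Fx := mem_centralizer_singleton_iff.1 (k1 (centralizer {x}) fun i =>
    mem_centralizer_singleton_iff.2 (hx.xf i).symm)
  have Fz := mem_centralizer_singleton_iff.1 (k1 (centralizer {z}) fun i =>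
    mem_centralizer_singleton_iff.2 (c.cent (tup z q r d x (2 ^ (i : ℕ)))
      (mem_genOn (by clear * -; revert i; decide)) |> fun e => by
        rwa [tup_q (by clear * -; revert i; decide)] at e))
  have b1 := congrArg Prod.fst (o.eqOn c.gr a1)
  have b2 := fun i => congrArg Prod.fst (o.eqOn c.gr (a2 i).1)
  have b3 := fun i => congrArg Prod.fst (o.eqOn c.gr (a2 i).2.1)
  have b4 := fun i => congrArg Prod.fst (o.eqOn c.gr (a2 i).2.2)
  have t1 : ∀ i : Fin 3, (tup z q r d x (2 ^ (i : ℕ))).1 = q (2 ^ (i : ℕ)) ∧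
      (tup z q r d x (7 - 2 ^ (i : ℕ))).1 = q (7 - 2 ^ (i : ℕ)) := fun i => by
    fin_cases i <;> exact ⟨rfl, rfl⟩
  have t2 : ∀ (b : Bool) k, ev (tup z q r d x) (if b then [k] else []) =
      if b then tup z q r d x k else 1 := fun b k => by cases b <;> simp
  simp only [ev_append, ev_cons, ev_nil, mul_one, Prod.fst_mul, Prod.fst_one, List.cons_append, t1,
    tup_r, t2, apply_ite Prod.fst] at b1 b2 b3 b4
  generalize (ev (tup z q r d x) (Fw (ε 0) (ε 1) (ε 2))).1 = F at *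
  have rz : ∀ i, r i * z = z * r i := fun i => h.dl.fst_comm (h.nr i)
  have xz := p.hP.toXS.comm_of_ne p.z_mem hx.xP hx.xz.symm
  have Fs := p.hP.z_comm F FP
  refine ⟨fun i => r i * if ε i then z else 1, x * F, ⟨p, h.cP, h.dl, h.xg, h.qq, fun i => ?_,
    h.nd, h.cube, fun i => ?_, h.fP, fun i => ?_⟩, ⟨mul_mem hx.xP FP, ?_,
      fun i => comm_mul_left (hx.xf i) (b2 i), fun i => ?_, fun e => hx.xz ?_⟩, fun i => ?_⟩
  · cases ε i
    · simpa using h.nr i
    · simpa using mul_mem (h.nr i) h.dl.z1_mem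
  · cases ε i
    exacts [by simpa using h.rP i, mul_mem (h.rP i) p.z_mem]
  · cases ε i
    · simpa using h.ar i
    · simpa [mul_assoc] using mul_mem (h.ar i) p.hQ.z_mem
  · rw [mul_assoc, ← mul_assoc F, Fx, mul_assoc, b1, mul_one, hx.xx]
  · have e := b3 i
    revert e
    cases ε i <;> intro e
    · simpa using comm_mul_left (hx.xr i) (by simpa using e)
    · change F * r i = r i * (F * q 0) at e
      change x * F * (r i * z) = r i * z * (x * F)
      calc _ = x * (F * r i) * z := by group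
        _ = x * r i * (F * q 0) * z := by rw [e]; group
        _ = r i * (x * z * q 0) * F := by
          rw [hx.xr, Fs, mul_assoc, mul_assoc (q 0), Fz, ← mul_assoc (q 0), p.sz]; group
        _ = _ := by rw [← xz]; group
  · rw [mul_assoc, Fz, ← mul_assoc, ← mul_assoc] at e
    exact mul_right_cancel e
  · have e := b3 i
    have e' := b4 i
    have e'' := hε i
    rw [inv_eq_of_mul_eq_one_right (h.qq _)] at e'' ⊢
    calc _ = q (7 - 2 ^ (i : ℕ)) * x * (q (7 - 2 ^ (i : ℕ)) * q (7 - 2 ^ (i : ℕ))) * F *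
          q (7 - 2 ^ (i : ℕ)) := by rw [h.qq]; group
      _ = q (7 - 2 ^ (i : ℕ)) * x * q (7 - 2 ^ (i : ℕ)) * (q (7 - 2 ^ (i : ℕ)) *
          (F * q (7 - 2 ^ (i : ℕ)))) := by group
      _ = _ := by
        rw [e'', e', mul_assoc x F, ← mul_assoc F, e]
        cases ε i
        · simp [mul_assoc]
        · change x * r i * q 0 * (F * z) = x * (r i * (F * q 0) * z)
          rw [Fs]; group

end Bt

end OA

end Cfsg.Agent.X9
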