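import Cfsg.Agent.X9.OPA

/-!
# The involution of the conjugate extraspecial group moving `z` (version without `C(z)/Q`)
-/

set_option autoImplicit false
set_option maxRecDepth 100000

namespace Cfsg.Agent.O8C.Gn

open Subgroup Cfsg.Agent.TT Cfsg.Agent.LES Cfsg.Agent.XSC Cfsg.Agent.Comp.BN

variable {G : Type*} [Group G]

namespace Bs

variable {Q P : Subgroup G} {z : G} {q : ℕ → G} {r d : Fin 3 → G}
  (h : Bs Q P z q r d)
include h

theorem exists_x [Finite G] : ∃ x, Xs P z q r x := by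
  have c := h.co 1
  have p := h.pr
  let A := genW (tup z q r d 1) [[0], [1], [2], [4], [9], [10], [11]]
  have hA : A ≤ genOn (tup z q r d 1) 262143 := genW_le_genOn (by decide +kernel)
  have mA : ∀ k ∈ [0, 1, 2, 4, 9, 10, 11], (tup z q r d 1 k).1 ∈ A.map (MonoidHom.fst G Mo) :=
    fun k hk => mem_map_fst (by
      simpa using mem_genW (x := tup z q r d 1) (W := [k]) (by revert k; decide))
  obtain ⟨y, hy, h1, h2⟩ := p.hP.toXS.exists_comm_not_comm (A := A.map (MonoidHom.fst G Mo))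
    (map_le_iff_le_comap.2 (genW_le (by
      simpa using ⟨p.hP.z_mem, h.fP 0, h.fP 1, h.fP 2, h.rP 0, h.rP 1, h.rP 2⟩)))
    (mA 0 (by simp)) p.z_mem (by
      rintro ⟨γ, hγ, e⟩
      have e1 : γ = tup z q r d 1 8 := c.gl.eq (hA hγ) (mem_genOn (by decide)) e
      have := comm_genW (g := (1, m 18)) (fun W hW => Prod.ext (by simp) (by
        simpa [appendL_eq, snd_tup] using orc.eq ((allL_eq _ _).1 ((band_eq _ _).1 x1).1 W hW))) hγ
      exact orc.ne ((band_eq _ _).1 x1).2 (by simpa [e1, appendL_eq, tup] using congrArg Prod.snd this))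
  have f1 : ∀ i : Fin 3, q (2 ^ (i : ℕ)) ∈ A.map (MonoidHom.fst G Mo) ∧
      r i ∈ A.map (MonoidHom.fst G Mo) := fun i => by
    fin_cases i
    exacts [⟨mA 1 (by simp), mA 9 (by simp)⟩, ⟨mA 2 (by simp), mA 10 (by simp)⟩,
      ⟨mA 4 (by simp), mA 11 (by simp)⟩]
  rcases p.hP.toXS.sq hy with e | e
  · exact ⟨y, hy, e, fun i => (h1 _ (f1 i).1).symm, fun i => (h1 _ (f1 i).2).symm, h2⟩
  · have k : ∀ a ∈ A.map (MonoidHom.fst G Mo), y * z * a = a * (y * z) := fun a ha => by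
      obtain ⟨γ, hγ, rfl⟩ := id ha
      exact comm_mul_left (h1 _ ha).symm (c.cent γ (hA hγ)).symm
    refine ⟨y * z, mul_mem hy p.z_mem, ?_, fun i => k _ (f1 i).1, fun i => k _ (f1 i).2, fun e1 => h2 ?_⟩
    · nth_rewrite 2 [p.hP.toXS.comm_of_ne hy p.z_mem h2]
      calc y * z * (z * y * q 0) = y * (z * z) * y * q 0 := by group
        _ = 1 := by rw [p.hQ.z_sq, mul_one, e, p.hP.z_sq]
    · rw [← mul_assoc z] at e1
      exact mul_right_cancel e1

theorem dlP [Finite G] {x : G} (hx : Xs P z q r x) :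
    Dl P (q 0) (genW (tup z q r d x) ([0] :: Pl)) (tup z q r d x 0) := by
  have c := h.co x
  have o := h.ov hx.xx
  have p := h.pr
  have r2 := fun i => congrArg Prod.fst (h.rr i)
  set t := tup z q r d x with ht
  have mR : ∀ j ∈ Rl, t j ∈ genOn t 262143 := fun j hj => mem_genOn (by revert j; decide)
  have k1 : ∀ j ∈ [8, 18, 1, 9, 2, 10, 4, 11], (x * (t j).1 = (t j).1 * x ↔ j ≠ 8) := by
    simpa using ⟨hx.xz, rfl, hx.xf 0, hx.xr 0, hx.xf 1, hx.xr 1, hx.xf 2, hx.xr 2⟩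
  exact (dl_of_frame p.hP o.snd orc (c := 0) rfl (ls := [8, 18, 1, 9, 2, 10, 4, 11]) (du := duP)
    (by simpa using ⟨⟨p.z_mem, p.hQ.z_sq⟩, ⟨hx.xP, hx.xx⟩, ⟨h.fP 0, h.qq _⟩, ⟨h.rP 0, r2 0⟩,
      ⟨h.fP 1, h.qq _⟩, ⟨h.rP 1, r2 1⟩, ⟨h.fP 2, h.qq _⟩, h.rP 2, r2 2⟩) (fun a ha b hb => by
      by_cases e1 : a = 18
      · rw [e1]; exact k1 b hb
      by_cases e2 : b = 18
      · rw [e2, eq_comm]
        exact (k1 a ha).trans (by clear * - ha; revert a; decide)
      have ha' : a ∈ Rl := by clear * - ha e1; revert a; decide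
      have hb' : b ∈ Rl := by clear * - hb e2; revert b; decide
      rw [com_iff c.gr c.gl (mR a ha') (mR b hb'), ← x3 a ha' b hb', comC, orc.eq_iff]
      simp [appendL_eq, o.snd]) (by decide) h.cP x2 (l := Pl) rfl).1

theorem eps [Finite G] {x : G} (hx : Xs P z q r x) (i : Fin 3) :
    Eqv (q 0) (q (7 - 2 ^ (i : ℕ)) * x * (q (7 - 2 ^ (i : ℕ)))⁻¹) (x * r i) := by
  have c := h.co x
  have o := h.ov hx.xx
  have p := h.pr
  have r2 := fun i => congrArg Prod.fst (h.rr i)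
  set t := tup z q r d x with ht
  have mR : ∀ j ∈ Rl, t j ∈ genOn t 262143 := fun j hj => mem_genOn (by revert j; decide)
  have dl : Dl P (q 0) (genW t ([0] :: Pl)) (t 0) := h.dlP hx
  have mP : ∀ j ∈ 0 :: 18 :: Rl, t j ∈ genW t ([0] :: Pl) := fun j hj => by
    simpa using mem_genW (x := t) (W := [j]) (by clear * - hj; revert j; decide)
  obtain ⟨a1, a2, a3⟩ := x4 i
  have hk : 7 - 2 ^ (i : ℕ) < 8 := Nat.lt_succ_of_le (Nat.sub_le _ _)
  have kk := h.qq (7 - 2 ^ (i : ℕ))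
  have tk : t (7 - 2 ^ (i : ℕ)) = _ := tup_q hk
  have mm : m (7 - 2 ^ (i : ℕ)) * m (7 - 2 ^ (i : ℕ)) = 1 := by
    have := m_inv (7 - 2 ^ (i : ℕ))
    fin_cases i <;> exact this
  generalize 7 - 2 ^ (i : ℕ) = k at *
  have ks : q k * q 0 = q 0 * q k := by
    have := congrArg Prod.fst (o.eqOn c.gr a3)
    simp only [ev_cons, ev_nil, mul_one, Prod.fst_mul, tk] at this
    exact this
  have yP := p.hP.norm _ ks x hx.xP
  have wP := mul_mem hx.xP (h.rP i)
  have hw : ((x * r i, m 18 * m (9 + i)) : G × Mo) ∈ genW t ([0] :: Pl) := by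
    have := mul_mem (mP 18 (by simp)) (mP (9 + i) (by clear * -; revert i; decide))
    rwa [ht, tup_r] at this
  have ww : x * r i * (x * r i) = 1 := by
    rw [mul_assoc, ← mul_assoc (r i), ← hx.xr, mul_assoc, show r i * r i = 1 from r2 i, mul_one, hx.xx]
  have yy : q k * x * (q k)⁻¹ * (q k * x * (q k)⁻¹) = 1 := by rw [conj_mul, hx.xx]; group
  rw [inv_eq_of_mul_eq_one_right kk] at *
  have k2 : ∀ v ∈ Rl, (t v).1 * (x * r i * (q k * x * q k)) = x * r i * (q k * x * q k) * (t v).1 := by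
    intro v hv
    obtain ⟨U, b⟩ := all2_spec a1 v hv
    rw [band_eq, allL_eq] at b
    have b1 := o.eqOn c.gr b.1
    have b2 : ev t U ∈ genW t ([0] :: Pl) := ev_mem_of fun j hj => mP j (by
      have := List.mem_of_elem_eq_true (b.2 j hj)
      clear * - this; revert j; decide)
    have vm := mP v (by simp [hv])
    have b3 := com_iff dl.gr dl.gl (mP 18 (by simp)) b2
    have b4 := com_iff dl.gr dl.gl hw vm
    have b5 : m 18 * m (9 + i) = m k * (m 18 * m k) := by simpa using (orc.eq a2).symm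
    simp only [← b1, ev_cons, ev_nil, mul_one, Prod.fst_mul, Prod.snd_mul, tk, o.snd] at b3 b4
    rw [cjj kk, cjj mm, ← b5, ← b4] at b3
    rw [eq_comm, ← cmv_eq_zero, cmv_mul_left p.hP.toXS wP yP (dl.fst_mem vm),
      cmv_congr b3.symm, mul_assoc (q k)]
    exact CharTwo.add_self_eq_zero _
  have k3 : ∀ u ∈ P, (∀ v ∈ Rl, (t v).1 * u = u * (t v).1) → u * x = x * u → u = 1 ∨ u = q 0 := by
    refine fun u hu h1 h2 => p.hP.cent u hu fun y hy => (comm_genW (x := fun k => (t k).1)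
      (ws := [0] :: Pl) ?_ (by rw [← dl.map, map_genW] at hy; exact hy)).symm
    simp only [Rl, List.forall_mem_cons] at h1
    simpa [Pl] using ⟨(p.hP.z_comm u hu).symm, h1.1, h2.symm, h1.2.1, h1.2.2.1, h1.2.2.2.1,
      h1.2.2.2.2.1, h1.2.2.2.2.2.1, h1.2.2.2.2.2.2.1⟩
  have uP := mul_mem wP yP
  have e0 : q k * x * q k = x * r i * (x * r i * (q k * x * q k)) := by
    rw [← mul_assoc (x * r i), ww, one_mul]
  generalize q k * x * q k = y at *
  by_cases e : x * r i * y * x = x * (x * r i * y)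
  · rw [e0]
    rcases k3 _ uP k2 e with e | e <;> rw [e]
    exacts [Or.inl (mul_one _), Or.inr rfl]
  exfalso
  have e1 := k3 _ (mul_mem uP p.z_mem) (fun v hv => (comm_mul_left (k2 v hv).symm
    (c.cent _ (mR v hv)).symm).symm) (p.hP.toXS.mul_comm_of_not_comm hx.xP uP p.z_mem e hx.xz.symm)
  have zz := p.hQ.z_sq
  have e2 : x * r i * y = z ∨ x * r i * y = q 0 * z := e1.imp
    (fun e => by rw [eq_inv_of_mul_eq_one_left e, p.hQ.toXS.z_inv]) fun e => by
      rw [← e, mul_assoc _ z, zz, mul_one]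
  have e3 : x * r i * y * (x * r i * y) = 1 := by
    rcases e2 with e | e <;> rw [e]
    · exact zz
    · rw [mul_assoc, ← mul_assoc z, ← p.sz, mul_assoc, zz, mul_one, p.hP.z_sq]
  have e4 : x * r i * (x * r i * y) = x * r i * y * (x * r i) := by
    rw [← e0, eq_comm, ← mul_left_inj y, yy, mul_assoc, e3]
  have e5 : x * r i * z = z * (x * r i) := by
    rcases e2 with e | e <;> rw [e] at e4
    · exact e4
    · rw [← mul_assoc, p.hP.z_comm _ wP, mul_assoc (q 0), mul_assoc (q 0)] at e4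
      exact mul_left_cancel e4
  rw [mul_assoc, show r i * z = z * r i from h.dl.fst_comm (h.nr i), ← mul_assoc, ← mul_assoc] at e5
  exact hx.xz (mul_right_cancel e5)

theorem twist [Finite G] : ∃ r' x, Bs Q P z q r' d ∧ Xs P z q r' x ∧
    (∀ i : Fin 3, q (7 - 2 ^ (i : ℕ)) * x * (q (7 - 2 ^ (i : ℕ)))⁻¹ = x * r' i) ∧
      ∀ i, (r i)⁻¹ * r' i ∈ Q := by
  obtain ⟨x, hx⟩ := h.exists_x
  have c := h.co x
  have o := h.ov hx.xx
  have p := h.pr
  have : ∀ i : Fin 3, ∃ b : Bool, q (7 - 2 ^ (i : ℕ)) * x * (q (7 - 2 ^ (i : ℕ)))⁻¹ =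
      x * r i * if b then q 0 else 1 := fun i =>
    (h.eps hx i).elim (fun e => ⟨false, by simpa using e⟩) fun e => ⟨true, e⟩
  choose ε hε using this
  obtain ⟨a1, a2⟩ := x5 (ε 0) (ε 1) (ε 2)
  have k0 : ∀ i, ![ε 0, ε 1, ε 2] i = ε i := fun i => by fin_cases i <;> rfl
  simp only [k0] at a2
  have k1 : ∀ H : Subgroup G, (∀ i : Fin 3, q (2 ^ (i : ℕ)) ∈ H) →
      (ev (tup z q r d x) (Fw (ε 0) (ε 1) (ε 2))).1 ∈ H := fun H hH => by
    refine ev_mem_of (H := H.comap (MonoidHom.fst G Mo)) fun k hk => ?_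
    simp only [Fw, List.mem_append, List.mem_ite_nil_right, List.mem_singleton] at hk
    rcases hk with (⟨-, rfl⟩ | ⟨-, rfl⟩) | ⟨-, rfl⟩
    exacts [hH 0, hH 1, hH 2]
  have FP := k1 P h.fP
  have Fx := mem_centralizer_singleton_iff.1 (k1 (centralizer {x}) fun i =>
    mem_centralizer_singleton_iff.2 (hx.xf i).symm)
  have Fz := mem_centralizer_singleton_iff.1 (k1 (centralizer {z}) fun i =>
    mem_centralizer_singleton_iff.2 (c.cent (tup z q r d x (2 ^ (i : ℕ)))
      (mem_genOn (by clear * -; revert i; decide)) |> fun e => by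
        rwa [tup_q (by clear * -; revert i; decide)] at e))
  have b1 := congrArg Prod.fst (o.eqOn c.gr a1)
  have b2 := fun i => congrArg Prod.fst (o.eqOn c.gr (a2 i).1)
  have b3 := fun i => congrArg Prod.fst (o.eqOn c.gr (a2 i).2.1)
  have b4 := fun i => congrArg Prod.fst (o.eqOn c.gr (a2 i).2.2)
  have t1 : ∀ i : Fin 3, (tup z q r d x (2 ^ (i : ℕ))).1 = q (2 ^ (i : ℕ)) ∧
      (tup z q r d x (7 - 2 ^ (i : ℕ))).1 = q (7 - 2 ^ (i : ℕ)) := fun i => by
    fin_cases i <;> exact ⟨rfl, rfl⟩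
  have t2 : ∀ (b : Bool) k, ev (tup z q r d x) (if b then [k] else []) =
      if b then tup z q r d x k else 1 := fun b k => by cases b <;> simp
  simp only [ev_append, ev_cons, ev_nil, mul_one, Prod.fst_mul, Prod.fst_one, List.cons_append, t1,
    tup_r, t2, apply_ite Prod.fst] at b1 b2 b3 b4
  generalize (ev (tup z q r d x) (Fw (ε 0) (ε 1) (ε 2))).1 = F at *
  have rz : ∀ i, r i * z = z * r i := fun i => h.dl.fst_comm (h.nr i)
  have xz := p.hP.toXS.comm_of_ne p.z_mem hx.xP hx.xz.symm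
  have Fs := p.hP.z_comm F FP
  refine ⟨fun i => r i * if ε i then z else 1, x * F, ⟨p, h.cP, h.dl, h.xg, h.qq, fun i => ?_,
    h.nd, h.cube, fun i => ?_, h.fP⟩, ⟨mul_mem hx.xP FP, ?_,
      fun i => comm_mul_left (hx.xf i) (b2 i), fun i => ?_, fun e => hx.xz ?_⟩, fun i => ?_, fun i => ?_⟩
  · cases ε i
    · simpa using h.nr i
    · simpa using mul_mem (h.nr i) h.dl.z1_mem
  · cases ε i
    exacts [by simpa using h.rP i, mul_mem (h.rP i) p.z_mem]
  · rw [mul_assoc, ← mul_assoc F, Fx, mul_assoc, b1, mul_one, hx.xx]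
  · have e := b3 i
    revert e
    cases ε i <;> intro e
    · simpa using comm_mul_left (hx.xr i) (by simpa using e)
    · change F * r i = r i * (F * q 0) at e
      change x * F * (r i * z) = r i * z * (x * F)
      calc _ = x * (F * r i) * z := by group
        _ = x * r i * (F * q 0) * z := by rw [e]; group
        _ = r i * (x * z * q 0) * F := by
          rw [hx.xr, Fs, mul_assoc, mul_assoc (q 0), Fz, ← mul_assoc (q 0), p.sz]; group
        _ = _ := by rw [← xz]; group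
  · rw [mul_assoc, Fz, ← mul_assoc, ← mul_assoc] at e
    exact mul_right_cancel e
  · have e := b3 i
    have e' := b4 i
    have e'' := hε i
    rw [inv_eq_of_mul_eq_one_right (h.qq _)] at e'' ⊢
    calc _ = q (7 - 2 ^ (i : ℕ)) * x * (q (7 - 2 ^ (i : ℕ)) * q (7 - 2 ^ (i : ℕ))) * F *
          q (7 - 2 ^ (i : ℕ)) := by rw [h.qq]; group
      _ = q (7 - 2 ^ (i : ℕ)) * x * q (7 - 2 ^ (i : ℕ)) * (q (7 - 2 ^ (i : ℕ)) *
          (F * q (7 - 2 ^ (i : ℕ)))) := by group
      _ = _ := by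
        rw [e'', e', mul_assoc x F, ← mul_assoc F, e]
        cases ε i
        · simp [mul_assoc]
        · change x * r i * q 0 * (F * z) = x * (r i * (F * q 0) * z)
          rw [Fs]; group
  · beta_reduce
    cases ε i
    · simp
    · simpa using p.hQ.z_mem

end Bs

end Cfsg.Agent.O8C.Gn
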